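import Cfsg.Agent.ClassSquare.ExceptMiddle

/-!
# Boolean checks of the data of an exceptional type
-/

set_option autoImplicit false

namespace CfsgLib.ClassSquare.Except

open Cfsg.Lie CfsgLib.Chevalley CfsgLib.ChevSimple

/-- The exponent, read off the trie. -/
def expoT (D : ChevalleyDatum) (a : List ℤ) (r : ℕ) : ℤ :=
  ((List.range D.rank).map fun k => a.getD k 0 * cartanT D k r).sum

/-- The word applied to a root. -/
def permT (D : ChevalleyDatum) (w : List ℕ) (r : ℕ) : ℕ := w.foldr (fun i s => reflT D i s) r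

/-- The diagram is connected. -/
def reachA (D : ChevalleyDatum) : ℕ → List ℕ
  | 0 => [0]
  | k + 1 =>
    let L := reachA D k
    (List.range D.rank).filter fun j =>
      L.contains j || L.any fun i => cartanT D i (D.simple j) != 0 && cartanT D j (D.simple i) != 0

/-- Connected, and small rows. -/
def chkShape (D : ChevalleyDatum) : Bool :=
  ((List.range D.rank).all fun j => (reachA D D.rank).contains j) &&
  (List.range D.rank).all fun i =>
    decide (((List.range D.rank).map fun j => (cartanT D i (D.simple j)).natAbs).sum ≤ 5)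

/-- The grading and the word. -/
def chkGrading (D : ChevalleyDatum) (a : List ℤ) (w : List ℕ) : Bool :=
  (w.all fun i => decide (i < D.rank)) &&
  (List.range D.nroots).all fun r =>
    decide ((expoT D a r).natAbs ≤ 7) &&
    decide (0 < expoT D a r → half D ≤ r) && decide (expoT D a r < 0 → r < half D) &&
    decide (expoT D a r = 0 ↔
      ((List.range D.rank).all fun i => decide (expoT D a (D.simple i) = 0) || decide (coT D r i = 0))
        = true) &&
    decide (expoT D a (permT D w r) = -expoT D a r)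

/-- The table of the special linear group. -/
structure Table where
  n : ℕ
  R : List (List ℕ)
  S : List (List ℤ)
  node0 : ℕ
  nu : ℕ
  delta : List ℤ

/-- An entry of the root table. -/
def Table.root (T : Table) (i j : ℕ) : ℕ := (T.R.getD i []).getD j 0

/-- An entry of the sign table. -/
def Table.sgn (T : Table) (i j : ℕ) : ℤ := (T.S.getD i []).getD j 0

/-- The ordered pairs of distinct indices. -/
def Table.pairs (T : Table) : List (ℕ × ℕ) :=
  (List.range (T.n + 1)).flatMap fun i =>
    ((List.range (T.n + 1)).filter fun j => i != j).map fun j => (i, j)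

/-- The checks on one table entry. -/
def chkEntry (D : ChevalleyDatum) (a : List ℤ) (T : Table) (i j : ℕ) : Bool :=
  decide (T.root i j < D.nroots) && decide (T.sgn i j * T.sgn i j = 1) &&
  decide (expoT D a (T.root i j) = 0) && decide (i < j ↔ half D ≤ T.root i j) &&
  decide (T.root j i = opp D (T.root i j)) &&
  decide (cartanT D T.nu (T.root i j) = T.delta.getD i 0 - T.delta.getD j 0)

/-- The checks on two table entries. -/
def chkTwo (D : ChevalleyDatum) (T : Table) (i j k l : ℕ) : Bool :=
  bif i == k && j == l then true else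
    (T.root i j != T.root k l) &&
      bif i != l then
        bif j == k then
          D.commTerms (T.root i j) (T.root k l) ==
            [(T.root i l, T.sgn i j * T.sgn k l * T.sgn i l, 1, 1)]
        else (D.commTerms (T.root i j) (T.root k l)).isEmpty
      else true

/-- The table is good. -/
def chkTable (D : ChevalleyDatum) (a : List ℤ) (w : List ℕ) (T : Table) : Bool :=
  decide (2 ≤ T.n) && decide (T.node0 < D.rank) && decide (T.nu < D.rank) &&
  decide (Int.gcd (((List.range (T.n + 1)).map fun i => T.delta.getD i 0).sum) ((T.n : ℤ) + 1) = 1) &&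
  decide (T.root 0 1 = D.simple T.node0 ∧ T.sgn 0 1 = 1 ∧ T.sgn 1 0 = 1) &&
  (T.pairs.all fun p => chkEntry D a T p.1 p.2) &&
  (T.pairs.all fun p => T.pairs.all fun q => chkTwo D T p.1 p.2 q.1 q.2) &&
  ((List.range D.nroots).all fun r => !decide (expoT D a r = 0) ||
    T.pairs.any fun p => T.root p.1 p.2 == r) &&
  (List.range T.n).all fun k => (List.range T.n).any fun k' =>
    permT D w (T.root k (k + 1)) == T.root k' (k' + 1)

variable {D : ChevalleyDatum}

theorem list_sum_range {M : Type*} [AddCommMonoid M] (n : ℕ) (f : ℕ → M) :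
    ((List.range n).map f).sum = ∑ i : Fin n, f i := by
  rw [Fin.sum_univ_eq_sum_range]; rfl

theorem expoT_eq (hD : Good D) (a : List ℤ) (r : Root D) :
    expoT D a r = expo (fun k : Fin D.rank => a.getD k 0) r := by
  rw [expoT, list_sum_range, expo]
  exact Finset.sum_congr rfl fun k _ => by rw [hD.cartanT_eq k.isLt r.isLt]

theorem connected_of_chk (hD : Good D) (h : chkShape D = true) : Gauss.Connected D := by
  simp only [chkShape, Bool.and_eq_true, List.all_eq_true, List.mem_range, List.contains_iff_mem] at h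
  intro Q hQ ⟨i0, hi0⟩
  have key : ∀ k, ∀ j ∈ reachA D k, ∀ hj : j < D.rank, (Q ⟨j, hj⟩ ↔ Q ⟨0, hD.rank_pos⟩) := by
    intro k
    induction k with
    | zero => intro j hj hjr; simp [reachA] at hj; subst hj; rfl
    | succ k ih =>
      intro j hj hjr
      simp only [reachA, List.mem_filter, List.mem_range, Bool.or_eq_true, List.any_eq_true,
        List.contains_iff_mem, Bool.and_eq_true, bne_iff_ne] at hj
      rcases hj.2 with h | ⟨i, hi, hij, hji⟩
      · exact ih j h hjr
      · have hir : i < D.rank := by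
          cases k with
          | zero => simp [reachA] at hi; subst hi; exact hD.rank_pos
          | succ k => simp only [reachA, List.mem_filter, List.mem_range] at hi; exact hi.1
        rw [hD.cartanT_eq hir (hD.simple_lt hjr)] at hij
        rw [hD.cartanT_eq hjr (hD.simple_lt hir)] at hji
        exact (Iff.intro (hQ ⟨j, hjr⟩ ⟨i, hir⟩ hji) (hQ ⟨i, hir⟩ ⟨j, hjr⟩ hij)).trans (ih i hi hir)
  intro j
  exact (key D.rank j (h.1 j j.isLt) j.isLt).2 ((key D.rank i0 (h.1 i0 i0.isLt) i0.isLt).1 hi0)

theorem rowBound_of_chk (hD : Good D) (h : chkShape D = true) (i : Fin D.rank) :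
    ∑ j : Fin D.rank, (D.cartan i (D.simple j)).natAbs ≤ 5 := by
  simp only [chkShape, Bool.and_eq_true, List.all_eq_true, List.mem_range, decide_eq_true_eq] at h
  have h2 := h.2 i i.isLt
  rw [list_sum_range] at h2
  refine le_trans (le_of_eq (Finset.sum_congr rfl fun j _ => ?_)) h2
  rw [hD.cartanT_eq i.isLt (hD.simple_lt j.isLt)]

/-- A word of indices as a word of nodes. -/
def wordFin (w : List ℕ) (hw : ∀ i ∈ w, i < D.rank) : List (Fin D.rank) :=
  w.pmap (fun i h => ⟨i, h⟩) hw

theorem permT_eq (hW : GoodWeyl D) (w : List ℕ) (hw : ∀ i ∈ w, i < D.rank) (r : Root D) :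
    ((((wordFin w hw).map (wPerm hW)).prod r : Root D) : ℕ) = permT D w r := by
  induction w with
  | nil => simp [wordFin, permT]
  | cons i w ih =>
    have e := ih fun j hj => hw j (List.mem_cons_of_mem _ hj)
    simp only [wordFin, List.pmap_cons, List.map_cons, List.prod_cons, Equiv.Perm.mul_apply]
    rw [hW.wPerm_val]
    simp only [permT, List.foldr_cons]
    rw [reflT_eq hW.good (hw i (List.mem_cons_self ..)) (by
      have := e; unfold permT at this; rw [← this]; exact Fin.isLt _)]
    unfold wordFin permT at e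
    rw [e]

theorem wordFin_lt {a : List ℤ} {w : List ℕ} (h : chkGrading D a w = true) : ∀ i ∈ w, i < D.rank := by
  simp only [chkGrading, Bool.and_eq_true, List.all_eq_true, decide_eq_true_eq] at h
  exact h.1

theorem grading_spec {a : List ℤ} {w : List ℕ} (h : chkGrading D a w = true) {r : ℕ}
    (hr : r < D.nroots) :
    ((expoT D a r).natAbs ≤ 7) ∧ (0 < expoT D a r → half D ≤ r) ∧
    (expoT D a r < 0 → r < half D) ∧
    (expoT D a r = 0 ↔ ∀ i < D.rank, expoT D a (D.simple i) = 0 ∨ coT D r i = 0) ∧
    expoT D a (permT D w r) = -expoT D a r := by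
  simp only [chkGrading, Bool.and_eq_true, List.all_eq_true, decide_eq_true_eq, Bool.or_eq_true,
    List.mem_range] at h
  obtain ⟨⟨⟨⟨h1, h2⟩, h3⟩, h4⟩, h5⟩ := h.2 r hr
  exact ⟨h1, h2, h3, h4, h5⟩

/-- The grading of a checked pair. -/
def gradingOf (hW : GoodWeyl D) (a : List ℤ) (w : List ℕ) (h : chkGrading D a w = true) :
    Grading hW where
  a := fun k => a.getD k 0
  w := wordFin w (wordFin_lt h)
  bound r := by rw [← expoT_eq hW.good]; exact (grading_spec h r.isLt).1
  pos r := by rw [← expoT_eq hW.good]; exact (grading_spec h r.isLt).2.1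
  neg r := by rw [← expoT_eq hW.good]; exact (grading_spec h r.isLt).2.2.1
  zero_iff r := by
    rw [← expoT_eq hW.good, (grading_spec h r.isLt).2.2.2.1]
    have hn : ∀ i : Fin D.rank, i ∈ nodes hW (fun k : Fin D.rank => a.getD k 0) ↔
        expoT D a (D.simple i) = 0 := fun i => by
      show expo _ (pRoot hW i) = 0 ↔ _
      rw [← expoT_eq hW.good]
      rfl
    constructor
    · intro hi i hne
      show (D.coroot.getD r #[]).getD i 0 = 0
      rw [← coT_eq]
      exact (hi i i.isLt).resolve_left fun e => hne ((hn i).2 e)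
    · intro hJ i hi
      by_cases hz : expoT D a (D.simple i) = 0
      · exact Or.inl hz
      · refine Or.inr ?_
        rw [coT_eq]
        exact hJ ⟨i, hi⟩ fun e => hz ((hn ⟨i, hi⟩).1 e)
  flip r := by
    rw [← expoT_eq hW.good, ← expoT_eq hW.good, permT_eq]
    exact (grading_spec h r.isLt).2.2.2.2

theorem mem_pairs {T : Table} {i j : Fin (T.n + 1)} (hij : i ≠ j) : ((i : ℕ), (j : ℕ)) ∈ T.pairs := by
  simp only [Table.pairs, List.mem_flatMap, List.mem_range, List.mem_map, List.mem_filter, bne_iff_ne]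
  exact ⟨i, i.isLt, j, ⟨j.isLt, fun e => hij (Fin.ext e)⟩, rfl⟩

theorem table_spec {a : List ℤ} {w : List ℕ} {T : Table} (h : chkTable D a w T = true) :
    (2 ≤ T.n ∧ T.node0 < D.rank ∧ T.nu < D.rank) ∧
    Int.gcd (((List.range (T.n + 1)).map fun i => T.delta.getD i 0).sum) ((T.n : ℤ) + 1) = 1 ∧
    (T.root 0 1 = D.simple T.node0 ∧ T.sgn 0 1 = 1 ∧ T.sgn 1 0 = 1) ∧
    (∀ i j : Fin (T.n + 1), i ≠ j → chkEntry D a T i j = true) ∧
    (∀ i j k l : Fin (T.n + 1), i ≠ j → k ≠ l → chkTwo D T i j k l = true) ∧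
    (∀ r < D.nroots, expoT D a r = 0 → ∃ p ∈ T.pairs, T.root p.1 p.2 = r) ∧
    ∀ k < T.n, ∃ k' < T.n, permT D w (T.root k (k + 1)) = T.root k' (k' + 1) := by
  unfold chkTable at h
  obtain ⟨h, h9⟩ := (Bool.and_eq_true _ _ ▸ h : _ ∧ _)
  obtain ⟨h, h8⟩ := (Bool.and_eq_true _ _ ▸ h : _ ∧ _)
  obtain ⟨h, h7⟩ := (Bool.and_eq_true _ _ ▸ h : _ ∧ _)
  obtain ⟨h, h6⟩ := (Bool.and_eq_true _ _ ▸ h : _ ∧ _)
  obtain ⟨h, h5⟩ := (Bool.and_eq_true _ _ ▸ h : _ ∧ _)
  obtain ⟨h, h4⟩ := (Bool.and_eq_true _ _ ▸ h : _ ∧ _)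
  obtain ⟨h, h3⟩ := (Bool.and_eq_true _ _ ▸ h : _ ∧ _)
  obtain ⟨h1, h2⟩ := (Bool.and_eq_true _ _ ▸ h : _ ∧ _)
  rw [List.all_eq_true] at h6 h7
  have e6 : ∀ i j : Fin (T.n + 1), i ≠ j → chkEntry D a T (i, j).1.val (i, j).2.val = true :=
    fun i j hij => h6 ((i : ℕ), (j : ℕ)) (mem_pairs hij)
  have e7 : ∀ i j k l : Fin (T.n + 1), i ≠ j → k ≠ l →
      chkTwo D T (i : ℕ) (j : ℕ) (k : ℕ) (l : ℕ) = true := fun i j k l hij hkl => by
    have h' := h7 ((i : ℕ), (j : ℕ)) (mem_pairs hij)
    rw [List.all_eq_true] at h'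
    exact h' ((k : ℕ), (l : ℕ)) (mem_pairs hkl)
  refine ⟨⟨of_decide_eq_true h1, of_decide_eq_true h2, of_decide_eq_true h3⟩,
    of_decide_eq_true h4, of_decide_eq_true h5, e6, e7, fun r hr he => ?_, fun k hk => ?_⟩
  · have h' := List.all_eq_true.1 h8 r (List.mem_range.2 hr)
    rw [decide_eq_true he, Bool.not_true, Bool.false_or] at h'
    obtain ⟨p, hp, e⟩ := List.any_eq_true.1 h'
    exact ⟨p, hp, eq_of_beq e⟩
  · obtain ⟨k', hk', e⟩ := List.any_eq_true.1 (List.all_eq_true.1 h9 k (List.mem_range.2 hk))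
    exact ⟨k', List.mem_range.1 hk', eq_of_beq e⟩

theorem entry_spec {a : List ℤ} {T : Table} {i j : ℕ} (h : chkEntry D a T i j = true) :
    T.root i j < D.nroots ∧ T.sgn i j * T.sgn i j = 1 ∧ expoT D a (T.root i j) = 0 ∧
    (i < j ↔ half D ≤ T.root i j) ∧ T.root j i = opp D (T.root i j) ∧
    cartanT D T.nu (T.root i j) = T.delta.getD i 0 - T.delta.getD j 0 := by
  simp only [chkEntry, Bool.and_eq_true, decide_eq_true_eq] at h
  tauto

/-- The table of a checked datum. -/
noncomputable def slDataOf (hW : GoodWeyl D) (a : List ℤ) (w : List ℕ) (T : Table)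
    (hg : chkGrading D a w = true) (h : chkTable D a w T = true) :
    SLData (gradingOf hW a w hg) :=
  let root : Fin (T.n + 1) → Fin (T.n + 1) → Root D := fun i j =>
    if hr : T.root i j < D.nroots then ⟨T.root i j, hr⟩
    else ⟨0, by have := hW.good.two_half; have := hW.good.basic'.1.2.1; omega⟩
  have hval : ∀ i j : Fin (T.n + 1), i ≠ j → (root i j : ℕ) = T.root i j := fun i j hij => by
    simp only [root, dif_pos (entry_spec ((table_spec h).2.2.2.1 i j hij)).1]
  { n := T.n
    two_le := (table_spec h).1.1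
    R := root
    sg := fun i j => T.sgn i j
    sg_sq := fun i j hij => (entry_spec ((table_spec h).2.2.2.1 i j hij)).2.1
    zero := fun i j hij => by
      show expo (fun k : Fin D.rank => a.getD k 0) (root i j) = 0
      rw [← expoT_eq hW.good, hval i j hij]
      exact (entry_spec ((table_spec h).2.2.2.1 i j hij)).2.2.1
    pos := fun i j hij => by
      rw [hval i j hij]
      exact (entry_spec ((table_spec h).2.2.2.1 i j hij)).2.2.2.1
    cover := fun r hr => by
      obtain ⟨p, hp, e⟩ := (table_spec h).2.2.2.2.2.1 r r.isLt (by rw [expoT_eq hW.good]; exact hr)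
      simp only [Table.pairs, List.mem_flatMap, List.mem_range, List.mem_map, List.mem_filter,
        bne_iff_ne] at hp
      obtain ⟨i, hi, j, ⟨hj, hij⟩, rfl⟩ := hp
      have hij' : (⟨i, hi⟩ : Fin (T.n + 1)) ≠ ⟨j, hj⟩ := fun e => hij (congrArg Fin.val e)
      exact ⟨⟨i, hi⟩, ⟨j, hj⟩, hij', Fin.ext (by rw [hval _ _ hij']; exact e)⟩
    inj := fun i j k l hij hkl e => by
      by_contra hne
      have h2 := (table_spec h).2.2.2.2.1 i j k l hij hkl
      have hc : ((i : ℕ) == k && (j : ℕ) == l) = false := by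
        simp only [Bool.and_eq_false_iff, beq_eq_false_iff_ne, Fin.val_ne_iff]
        exact not_and_or.1 hne
      simp only [chkTwo, hc, cond_false, Bool.and_eq_true, bne_iff_ne] at h2
      exact h2.1 (by rw [← hval i j hij, ← hval k l hkl, e])
    rev_eq := fun i j hij => by
      refine Fin.ext ?_
      rw [hval j i (Ne.symm hij), Fin.val_rev, hval i j hij,
        (entry_spec ((table_spec h).2.2.2.1 i j hij)).2.2.2.2.1, opp]
      omega
    comm := fun i j k l hij hkl hil hjk hne => by
      have h2 := (table_spec h).2.2.2.2.1 i j k l hij hkl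
      have hc : ((i : ℕ) == k && (j : ℕ) == l) = false := by
        simp only [Bool.and_eq_false_iff, beq_eq_false_iff_ne, Fin.val_ne_iff]
        exact hne
      have h3 : ((i : ℕ) != l) = true := by rw [bne_iff_ne, Fin.val_ne_iff]; exact hil
      have h4 : ((j : ℕ) == k) = false := by rw [beq_eq_false_iff_ne, Fin.val_ne_iff]; exact hjk
      simp only [chkTwo, hc, h3, h4, cond_false, cond_true, Bool.and_eq_true, List.isEmpty_iff] at h2
      rw [hval i j hij, hval k l hkl]
      exact h2.2
    rel := fun i j l hij hjl hil => by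
      have h2 := (table_spec h).2.2.2.2.1 i j j l hij hjl
      have hc : ((i : ℕ) == j && (j : ℕ) == l) = false := by
        simp only [Bool.and_eq_false_iff, beq_eq_false_iff_ne, Fin.val_ne_iff]
        exact Or.inl hij
      have h3 : ((i : ℕ) != l) = true := by rw [bne_iff_ne, Fin.val_ne_iff]; exact hil
      simp only [chkTwo, hc, h3, beq_self_eq_true, cond_false, cond_true, Bool.and_eq_true,
        beq_iff_eq] at h2
      rw [hval i j hij, hval j l hjl, hval i l hil]
      exact h2.2
    node0 := ⟨T.node0, (table_spec h).1.2.1⟩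
    node0_eq := fun i j hi hj => by
      obtain ⟨h1, h2, h3⟩ := (table_spec h).2.2.1
      have hij : i ≠ j := fun e => by rw [e, hj] at hi; exact one_ne_zero hi
      refine ⟨Fin.ext ?_, by rw [hi, hj]; exact h2, by rw [hi, hj]; exact h3⟩
      simp only [hval i j hij, hi, hj]
      exact h1
    flip := fun k => by
      obtain ⟨k', hk', e⟩ := (table_spec h).2.2.2.2.2.2 k k.isLt
      refine ⟨⟨k', hk'⟩, Fin.ext ?_⟩
      show ((((wordFin w (wordFin_lt hg)).map (wPerm hW)).prod (root k.castSucc k.succ) : Root D) : ℕ) = _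
      rw [permT_eq, hval _ _ (Fin.castSucc_lt_succ (i := k)).ne,
        hval _ _ (Fin.castSucc_lt_succ (i := (⟨k', hk'⟩ : Fin T.n))).ne]
      simpa using e
    nu := ⟨T.nu, (table_spec h).1.2.2⟩
    delta := fun i => T.delta.getD i 0
    delta_eq := fun i j hij => by
      obtain ⟨hlt, -, -, -, -, e⟩ := entry_spec ((table_spec h).2.2.2.1 i j hij)
      rw [hval i j hij, ← hW.good.cartanT_eq (table_spec h).1.2.2 hlt]
      exact e
    coprime := by
      rw [Int.isCoprime_iff_gcd_eq_one, ← list_sum_range (T.n + 1) fun i => T.delta.getD i 0]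
      exact (table_spec h).2.1 }

theorem hasClassSquare_of_chk (hW : GoodWeyl D) (a : List ℤ) (w : List ℕ) (T : Table)
    (h0 : chkShape D = true) (hg : chkGrading D a w = true) (h : chkTable D a w T = true)
    {F : Type*} [Field F] [Fintype F] (hF : 9 ≤ Fintype.card F) : HasClassSquare ↥(D.group F) :=
  (slDataOf hW a w T hg h).hasClassSquare hF (connected_of_chk hW.good h0) (rowBound_of_chk hW.good h0)

theorem hasClassSquare_of_chk_torus (hW : GoodWeyl D) (a : List ℤ) (w : List ℕ)
    (h0 : chkShape D = true) (hg : chkGrading D a w = true)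
    (h : ((List.range D.nroots).all fun r => decide (expoT D a r ≠ 0)) = true)
    {F : Type*} [Field F] [Fintype F] (hF : 9 ≤ Fintype.card F) : HasClassSquare ↥(D.group F) := by
  refine (gradingOf hW a w hg).hasClassSquare_of_torus hF (connected_of_chk hW.good h0)
    (rowBound_of_chk hW.good h0) fun r => ?_
  show expo (fun k : Fin D.rank => a.getD k 0) r ≠ 0
  rw [← expoT_eq hW.good]
  simp only [List.all_eq_true, List.mem_range, decide_eq_true_eq] at h
  exact h r r.isLt

end CfsgLib.ClassSquare.Except
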