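import Cfsg.Agent.ClassSquare.GaussCells

/-!
# Every non-trivial element is conjugate into `V h U` for every torus element `h`

A rank one conjugation changes `h` by any value of the coroot of a node, as soon as that node acts
non-trivially.
-/

set_option autoImplicit false

namespace CfsgLib.ClassSquare.Gauss

open Cfsg.Lie CfsgLib.Chevalley CfsgLib.ChevSimple
open scoped MatrixGroups

variable {F : Type*} [Field F]

theorem exists_avoid [Fintype F] {ι : Type*} (s : Finset ι) (K : ι → Fˣ) (e : ι → ℤ)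
    (h0 : ∀ j ∈ s, e j = 0 → K j ≠ 1) (hsum : (∑ j ∈ s, (e j).natAbs) + 1 < Fintype.card F) :
    ∃ y : Fˣ, ∀ j ∈ s, K j * y ^ e j ≠ 1 := by
  classical
  let bad : ι → Finset Fˣ := fun j => Finset.univ.filter fun y => K j * y ^ e j = 1
  suffices h : (s.biUnion bad).card < Fintype.card Fˣ by
    obtain ⟨y, -, hy⟩ := Finset.exists_mem_notMem_of_card_lt_card
      (s := s.biUnion bad) (t := Finset.univ) (by simpa using h)
    exact ⟨y, fun j hj hc => hy (Finset.mem_biUnion.2 ⟨j, hj, by simp [bad, hc]⟩)⟩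
  refine lt_of_le_of_lt (Finset.card_biUnion_le.trans (Finset.sum_le_sum fun j hj => ?_))
    (show (∑ j ∈ s, (e j).natAbs) < Fintype.card Fˣ by rw [Fintype.card_units]; omega)
  rcases eq_or_ne (e j) 0 with he | he
  · have : bad j = ∅ := Finset.filter_eq_empty_iff.2 fun y _ => by simpa [he] using h0 j hj he
    simp [this]
  obtain ⟨b, hb⟩ : ∃ b : Fˣ, ∀ y : Fˣ, K j * y ^ e j = 1 → y ^ (e j).natAbs = b := by
    rcases Int.natAbs_eq (e j) with h | h
    · refine ⟨(K j)⁻¹, fun y hy => ?_⟩
      rw [h, zpow_natCast] at hy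
      exact (inv_eq_of_mul_eq_one_right hy).symm
    · refine ⟨K j, fun y hy => ?_⟩
      rw [h, zpow_neg, zpow_natCast, mul_inv_eq_one] at hy
      exact hy.symm
  calc (bad j).card
      = ((bad j).image fun y : Fˣ => (y : F)).card :=
        (Finset.card_image_of_injective _ fun a a' h => Units.ext h).symm
    _ ≤ (Polynomial.nthRoots (e j).natAbs (b : F)).toFinset.card := by
        refine Finset.card_le_card fun x hx => ?_
        obtain ⟨y, hy, rfl⟩ := Finset.mem_image.1 hx
        rw [Multiset.mem_toFinset, Polynomial.mem_nthRoots (by omega), ← Units.val_pow_eq_pow_val,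
          hb y (Finset.mem_filter.1 hy).2]
    _ ≤ (e j).natAbs := (Multiset.toFinset_card_le _).trans (Polynomial.card_nthRoots _ _)

/-- The conjugation realising any top left entry of a non-scalar matrix. -/
theorem exists_conj_corner (a b c d e : F) (h : b ≠ 0 ∨ c ≠ 0 ∨ a ≠ d) :
    ∃ k : Matrix.SpecialLinearGroup (Fin 2) F,
      (k.1 * !![a, b; c, d] * (k⁻¹).1) 0 0 = e := by
  by_cases hc : c = 0
  · by_cases hb : b = 0
    · have had : a ≠ d := by simpa [hb, hc] using h
      refine ⟨RankOneRel.vMat F ((e - a) / (a - d)) * RankOneRel.uMat F 1, ?_⟩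
      rw [Matrix.SpecialLinearGroup.coe_inv, Matrix.SpecialLinearGroup.coe_mul, Matrix.adjugate_fin_two]
      have : a - d ≠ 0 := sub_ne_zero.2 had
      simp [RankOneRel.uMat_val, RankOneRel.vMat_val, Matrix.mul_apply, Fin.sum_univ_two, hb, hc]
      field_simp
      ring
    · refine ⟨RankOneRel.vMat F ((a - e) / b), ?_⟩
      rw [Matrix.SpecialLinearGroup.coe_inv, Matrix.adjugate_fin_two]
      simp [RankOneRel.vMat_val, Matrix.mul_apply, Fin.sum_univ_two, hc]
      field_simp
      ring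
  · refine ⟨RankOneRel.uMat F ((e - a) / c), ?_⟩
    rw [Matrix.SpecialLinearGroup.coe_inv, Matrix.adjugate_fin_two]
    simp [RankOneRel.uMat_val, Matrix.mul_apply, Fin.sum_univ_two]
    field_simp
    ring

/-- The twist of a matrix by `diag(α, 1)`. -/
def twFun (α : Fˣ) (g : Matrix.SpecialLinearGroup (Fin 2) F) : Matrix.SpecialLinearGroup (Fin 2) F :=
  ⟨!![g.1 0 0, (α : F) * g.1 0 1; ((α⁻¹ : Fˣ) : F) * g.1 1 0, g.1 1 1], by
    rw [Matrix.det_fin_two_of, show (α : F) * g.1 0 1 * (((α⁻¹ : Fˣ) : F) * g.1 1 0) =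
      ((α : F) * (α⁻¹ : Fˣ)) * (g.1 0 1 * g.1 1 0) by ring, Units.mul_inv, one_mul]
    exact RankOneRel.det_eq g⟩

theorem twFun_val (α : Fˣ) (g : Matrix.SpecialLinearGroup (Fin 2) F) :
    (twFun α g).1 = !![g.1 0 0, (α : F) * g.1 0 1; ((α⁻¹ : Fˣ) : F) * g.1 1 0, g.1 1 1] := rfl

/-- Conjugation by `diag(α, 1)`. -/
def tw (α : Fˣ) : Matrix.SpecialLinearGroup (Fin 2) F →* Matrix.SpecialLinearGroup (Fin 2) F where
  toFun := twFun α
  map_one' := by
    apply Subtype.ext
    simp [twFun_val, Matrix.one_fin_two]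
  map_mul' g k := by
    apply Subtype.ext
    apply Matrix.ext
    intro p q
    fin_cases p <;> fin_cases q <;>
      simp [twFun_val, Matrix.SpecialLinearGroup.coe_mul, Matrix.mul_apply, Fin.sum_univ_two] <;>
      field_simp

theorem tw_val (α : Fˣ) (g : Matrix.SpecialLinearGroup (Fin 2) F) :
    (tw α g).1 = !![g.1 0 0, (α : F) * g.1 0 1; ((α⁻¹ : Fˣ) : F) * g.1 1 0, g.1 1 1] := rfl

variable {D : ChevalleyDatum}

theorem torC_mul_phi (hW : GoodWeyl D) (i : Fin D.rank) (c : Fin D.rank → Fˣ)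
    (A : Matrix.SpecialLinearGroup (Fin 2) F) :
    torC D c * phi hW i A = phi hW i (tw (chi c (pRoot hW i)) A) * torC D c := by
  set α := chi c (pRoot hW i) with hα
  let K : Submonoid (Matrix.SpecialLinearGroup (Fin 2) F) :=
    { carrier := {A | torC D c * phi hW i A = phi hW i (tw α A) * torC D c}
      one_mem' := by simp
      mul_mem' := fun {a b} ha hb => by
        simp only [Set.mem_setOf_eq, map_mul] at ha hb ⊢
        rw [← mul_assoc, ha, mul_assoc, hb, mul_assoc] }
  have hu : ∀ t, RankOneRel.uMat F t ∈ K := fun t => by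
    show torC D c * phi hW i _ = phi hW i _ * torC D c
    rw [show tw α (RankOneRel.uMat F t) = RankOneRel.uMat F ((α : F) * t) from
      Subtype.ext (by simp [tw_val, RankOneRel.uMat_val]), phi_u, phi_u, torC_mul_X hW]
  have hv : ∀ t, RankOneRel.vMat F t ∈ K := fun t => by
    show torC D c * phi hW i _ = phi hW i _ * torC D c
    rw [show tw α (RankOneRel.vMat F t) = RankOneRel.vMat F (((α⁻¹ : Fˣ) : F) * t) from
      Subtype.ext (by simp [tw_val, RankOneRel.vMat_val]), phi_v, phi_v, torC_mul_X hW]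
    congr 4
    rw [hα, chi, chi, ← Finset.prod_inv_distrib]
    exact Finset.prod_congr rfl fun k _ => by rw [hW.good.cartan_rev, zpow_neg]
  suffices A ∈ K from this
  refine (show Submonoid.closure _ ≤ K from Submonoid.closure_le.2 ?_)
    (RankOneRel.closure_eq_top (F := F) ▸ Submonoid.mem_top A)
  rintro x (⟨t, rfl⟩ | hx)
  · exact hu t
  · rw [Set.mem_singleton_iff.1 hx]
    have : RankOneRel.wMat F = RankOneRel.uMat F 1 * RankOneRel.vMat F (-1) * RankOneRel.uMat F 1 := by
      apply Subtype.ext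
      apply Matrix.ext
      intro p q
      fin_cases p <;> fin_cases q <;>
        simp [Matrix.SpecialLinearGroup.coe_mul, RankOneRel.uMat_val, RankOneRel.vMat_val,
          RankOneRel.wMat_val, Matrix.mul_apply, Fin.sum_univ_two]
    rw [this]
    exact mul_mem (mul_mem (hu 1) (hv (-1))) (hu 1)

/-- `g` is conjugate in the group into `V (torC c) U`. -/
def Reach (D : ChevalleyDatum) (g : GL D.Idx F) (c : Fin D.rank → Fˣ) : Prop :=
  ∃ x ∈ D.group F, ∃ v ∈ D.negUnipotent F, ∃ u ∈ D.posUnipotent F,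
    x * g * x⁻¹ = v * torC D c * u

/-- The move at a node. -/
theorem move_core (hW : GoodWeyl D) (i : Fin D.rank) {g x : GL D.Idx F} (hx : x ∈ D.group F)
    {c : Fin D.rank → Fˣ} {v u : GL D.Idx F} {s r : F}
    (hv : v ∈ rootGen hW.good F (negCompl hW i)) (hu : u ∈ rootGen hW.good F (posCompl hW i))
    (e : x * g * x⁻¹ = v * X hW.good (pRoot hW i).rev s * torC D c * X hW.good (pRoot hW i) r * u)
    (hM : s ≠ 0 ∨ r ≠ 0 ∨ chi c (pRoot hW i) ≠ 1) (z : Fˣ) :
    Reach D g (Pi.mulSingle i z * c) := by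
  set α := chi c (pRoot hW i) with hα
  have hns : (α : F) * r ≠ 0 ∨ s * (α : F) ≠ 0 ∨ (α : F) ≠ s * α * r + 1 := by
    by_cases hs : s = 0
    · by_cases hr : r = 0
      · subst hs hr
        refine Or.inr (Or.inr ?_)
        have : α ≠ 1 := by simpa using hM
        simpa using fun h => this (Units.ext (by simpa using h))
      · exact Or.inl (mul_ne_zero α.ne_zero hr)
    · exact Or.inr (Or.inl (mul_ne_zero hs α.ne_zero))
  obtain ⟨k, hk⟩ := exists_conj_corner (α : F) ((α : F) * r) (s * α) (s * α * r + 1) ((z : F) * α) hns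
  set E : F := (z : F) * α with hE
  have hE0 : E ≠ 0 := mul_ne_zero z.ne_zero α.ne_zero
  set M' : Matrix (Fin 2) (Fin 2) F := k.1 * !![(α : F), (α : F) * r; s * α, s * α * r + 1] * (k⁻¹).1
    with hM'
  have key : k * RankOneRel.vMat F s * tw α (RankOneRel.uMat F r * k⁻¹) =
      RankOneRel.vMat F (M' 1 0 / E) * dMat z * tw α (RankOneRel.uMat F (M' 0 1 / E)) := by
    have hdet : M'.det = α := by
      rw [hM', Matrix.det_mul, Matrix.det_mul, k.2, (k⁻¹).2, Matrix.det_fin_two_of]
      ring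
    rw [Matrix.det_fin_two, show M' 0 0 = E from hk] at hdet
    -- right multiplication by `diag(α, 1)`
    let Δ : Matrix (Fin 2) (Fin 2) F := !![(α : F), 0; 0, 1]
    have hΔ : ∀ B : Matrix.SpecialLinearGroup (Fin 2) F, (tw α B).1 * Δ = Δ * B.1 := by
      intro B
      ext p q
      fin_cases p <;> fin_cases q <;>
        simp [Δ, tw_val, Matrix.mul_apply, Fin.sum_univ_two] <;> field_simp
    have hΔu : IsUnit Δ := by
      rw [Matrix.isUnit_iff_isUnit_det]
      simp [Δ, Matrix.det_fin_two]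
    apply Subtype.ext
    refine hΔu.mul_right_cancel ?_
    simp only [Matrix.SpecialLinearGroup.coe_mul, Matrix.mul_assoc, hΔ]
    have hl : Δ * (RankOneRel.uMat F r).1 = !![(α : F), (α : F) * r; 0, 1] := by
      ext p q
      fin_cases p <;> fin_cases q <;> simp [Δ, RankOneRel.uMat_val, Matrix.mul_apply, Fin.sum_univ_two]
    have hl' : (RankOneRel.vMat F s).1 * !![(α : F), (α : F) * r; 0, 1] =
        !![(α : F), (α : F) * r; s * α, s * α * r + 1] := by
      ext p q
      fin_cases p <;> fin_cases q <;> simp [RankOneRel.vMat_val, Matrix.mul_apply, Fin.sum_univ_two] <;> ring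
    rw [← Matrix.mul_assoc Δ, hl, ← Matrix.mul_assoc (RankOneRel.vMat F s).1, hl', ← Matrix.mul_assoc,
      ← hM']
    ext p q
    fin_cases p <;> fin_cases q <;>
      simp [Δ, RankOneRel.uMat_val, RankOneRel.vMat_val, dMat_val, Matrix.mul_apply, Fin.sum_univ_two]
    · exact hk
    · rw [hE] at hE0 ⊢; field_simp
    · rw [hE] at hE0 ⊢; field_simp
    · rw [hE] at hE0 hdet ⊢
      field_simp
      linear_combination hdet
  obtain ⟨v', hv', ev⟩ := phi_mul_neg hW i k hv
  obtain ⟨u', hu', eu⟩ := phi_mul_pos hW i k hu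
  refine ⟨phi hW i k * x, mul_mem (phi_mem_group hW i k) hx,
    v' * X hW.good (pRoot hW i).rev (M' 1 0 / E),
    mul_mem (rootGen_negCompl_le hW i hv') (X_mem_neg _ (pRoot_rev_neg hW i) _),
    X hW.good (pRoot hW i) (M' 0 1 / E) * u',
    mul_mem (X_mem_pos _ (pRoot_pos hW i) _) (rootGen_posCompl_le hW i hu'), ?_⟩
  calc phi hW i k * x * g * (phi hW i k * x)⁻¹
      = phi hW i k * (x * g * x⁻¹) * (phi hW i k)⁻¹ := by group
    _ = (phi hW i k * v) * phi hW i (RankOneRel.vMat F s) *
          (torC D c * phi hW i (RankOneRel.uMat F r * k⁻¹)) * (phi hW i k * u * (phi hW i k)⁻¹) := by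
        rw [e, phi_v, map_mul, phi_u, map_inv]; group
    _ = v' * phi hW i (k * RankOneRel.vMat F s * tw α (RankOneRel.uMat F r * k⁻¹)) * torC D c * u' := by
        rw [ev, torC_mul_phi hW, ← hα, show phi hW i k * u * (phi hW i k)⁻¹ = u' by rw [eu]; group,
          map_mul (phi hW i) (k * _), map_mul (phi hW i) k]
        group
    _ = v' * phi hW i (RankOneRel.vMat F (M' 1 0 / E)) * phi hW i (dMat z) *
          (phi hW i (tw α (RankOneRel.uMat F (M' 0 1 / E))) * torC D c) * u' := by
        rw [key, map_mul, map_mul]; group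
    _ = v' * X hW.good (pRoot hW i).rev (M' 1 0 / E) * torC D (Pi.mulSingle i z * c) *
          (X hW.good (pRoot hW i) (M' 0 1 / E) * u') := by
        rw [hα, ← torC_mul_phi hW, phi_v, phi_u, phi_d, ← torC_mul]; group

theorem Reach.move (hW : GoodWeyl D) {g : GL D.Idx F} {c : Fin D.rank → Fˣ} (h : Reach D g c)
    (i : Fin D.rank) (hi : chi c (pRoot hW i) ≠ 1) (z : Fˣ) : Reach D g (Pi.mulSingle i z * c) := by
  obtain ⟨x, hx, v, hv, u, hu, e⟩ := h
  obtain ⟨v₁, hv₁, s, rfl⟩ := exists_split_neg hW i hv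
  obtain ⟨r, u₁, hu₁, rfl⟩ := exists_split_pos' hW i hu
  exact move_core hW i hx (c := c) hv₁ hu₁ (s := s) (r := r) (by rw [e]; group) (Or.inr (Or.inr hi)) z

theorem chi_mulSingle_mul (i : Fin D.rank) (z : Fˣ) (c : Fin D.rank → Fˣ) (r : Root D) :
    chi (Pi.mulSingle i z * c) r = chi c r * z ^ D.cartan i r := by
  rw [chi, chi, mul_comm (∏ k, c k ^ D.cartan k r)]
  simp only [Pi.mul_apply, mul_zpow, Finset.prod_mul_distrib]
  congr 1
  rw [Finset.prod_eq_single i]
  · rw [Pi.mulSingle_eq_same]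
  · intro k _ hk; rw [Pi.mulSingle_eq_of_ne hk, one_zpow]
  · simp

theorem torC_eq_one (hW : GoodWeyl D) {c : Fin D.rank → Fˣ}
    (h : ∀ i, chi c (pRoot hW i) = 1) : (torC D c : GL D.Idx F) = 1 := by
  have hall : ∀ r : Root D, chi c r = 1 := by
    refine hW.root_induction (P := fun r => chi c r = 1) h fun i s hs => ?_
    have hc : ∀ k : Fin D.rank, D.cartan k (wPerm hW i s) =
        D.cartan k s - D.cartan i s * D.cartan k (pRoot hW i) := fun k => hW.cartan_wPerm i k s
    calc chi c (wPerm hW i s)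
        = chi c s * ((chi c (pRoot hW i)) ^ D.cartan i s)⁻¹ := by
          simp only [chi, hc, zpow_sub, mul_comm (D.cartan i s), zpow_mul, Finset.prod_mul_distrib,
            ← Finset.prod_zpow, Finset.prod_inv_distrib]
      _ = 1 := by rw [hs, h i]; simp
  rw [torC, ← tor_one]
  congr 1
  funext s
  exact hall s

/-- Some node moves. -/
theorem exists_reach_good [Fintype F] (hW : GoodWeyl D) (hF : 9 ≤ Fintype.card F) {g : GL D.Idx F}
    (hg : g ∈ D.group F) (hg1 : g ≠ 1) :
    ∃ c, Reach D g c ∧ ∃ i, chi c (pRoot hW i) ≠ 1 := by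
  by_contra hno
  push Not at hno
  have triv : ∀ {y : GL D.Idx F} {v u : GL D.Idx F} {c : Fin D.rank → Fˣ}, y ∈ D.group F →
      v ∈ D.negUnipotent F → u ∈ D.posUnipotent F → y * g * y⁻¹ = v * torC D c * u →
      torC D c = 1 ∧ ∀ i, v ∈ rootGen hW.good F (negCompl hW i) ∧
        u ∈ rootGen hW.good F (posCompl hW i) := by
    intro y v u c hy hv hu e
    have hc := hno c ⟨y, hy, v, hv, u, hu, e⟩
    refine ⟨torC_eq_one hW hc, fun i => ?_⟩
    obtain ⟨v₁, hv₁, s, rfl⟩ := exists_split_neg hW i hv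
    obtain ⟨r, u₁, hu₁, rfl⟩ := exists_split_pos' hW i hu
    by_cases hsr : s = 0 ∧ r = 0
    · obtain ⟨rfl, rfl⟩ := hsr
      exact ⟨by simpa [X_zero] using hv₁, by simpa [X_zero] using hu₁⟩
    exfalso
    obtain ⟨z, hz⟩ := exists_avoid (F := F) ({()} : Finset Unit) (fun _ => chi c (pRoot hW i))
      (fun _ => 2) (by simp) (by simpa using show 3 < Fintype.card F by omega)
    have := move_core hW i hy (c := c) hv₁ hu₁ (s := s) (r := r) (by rw [e]; group)
      (by tauto) z
    refine hz () (by simp) ?_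
    have h2 := hno _ this i
    rwa [chi_mulSingle_mul, show D.cartan i (pRoot hW i : Root D) = (2 : ℤ) from
      hW.good.cartan_simple_self i.isLt] at h2
  obtain ⟨u, hu, v, hv, c, u', hu', e⟩ := inCover hW hg
  have hug : u ∈ D.group F := borel_le_group hW (pos_le_borel D hu)
  have e0 : u⁻¹ * g * u⁻¹⁻¹ = v * torC D c * (u' * u) := by rw [e]; group
  obtain ⟨hc1, -⟩ := triv (inv_mem hug) hv (mul_mem hu' hu) e0
  rw [hc1, mul_one] at e0
  set u0 := u' * u
  have hu0 : u0 ∈ D.posUnipotent F := mul_mem hu' hu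
  let P : GL D.Idx F → Prop := fun n =>
    n ∈ D.group F ∧ ∀ (y v w : GL D.Idx F), y ∈ D.group F → v ∈ D.negUnipotent F →
      w ∈ D.posUnipotent F → y * g * y⁻¹ = v * w →
      (n * v * n⁻¹ ∈ D.negUnipotent F ∧ n * w * n⁻¹ ∈ D.posUnipotent F) ∧
      (n⁻¹ * v * n ∈ D.negUnipotent F ∧ n⁻¹ * w * n ∈ D.posUnipotent F)
  have hP : ∀ n ∈ D.monomialSubgroup F, P n := by
    intro n hn
    refine monomial_induction hW (P := P) hn ?_ ?_ ?_ ?_
    · intro h hh
      refine ⟨diag_le_group hW hh, fun y v w _ hv hw _ => ?_⟩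
      rw [negUnipotent_eq_rootGen hW.good] at hv ⊢
      rw [posUnipotent_eq_rootGen hW.good] at hw ⊢
      refine ⟨⟨diag_conj_rootGen hW hh hv, diag_conj_rootGen hW hh hw⟩, ?_, ?_⟩
      · simpa using diag_conj_rootGen hW (inv_mem hh) hv
      · simpa using diag_conj_rootGen hW (inv_mem hh) hw
    · intro i
      refine ⟨nR_mem_group hW i, fun y v w hy hv hw hyv => ?_⟩
      obtain ⟨hv', hw'⟩ := (triv (c := 1) hy hv hw (by
        rw [hyv, show torC D (1 : Fin D.rank → Fˣ) = 1 from (torHom D F).map_one, mul_one])).2 i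
      exact ⟨⟨rootGen_negCompl_le hW i (nR_conj_negCompl hW i hv').1,
          rootGen_posCompl_le hW i (nR_conj_posCompl hW i hw')⟩,
        rootGen_negCompl_le hW i (nR_conj_negCompl hW i hv').2,
          rootGen_posCompl_le hW i (nR_inv_conj_posCompl hW i hw')⟩
    · intro a b ha hb
      refine ⟨mul_mem ha.1 hb.1, fun y v w hy hv hw hyv => ?_⟩
      obtain ⟨⟨hv1, hw1⟩, -⟩ := hb.2 y v w hy hv hw hyv
      obtain ⟨⟨hv2, hw2⟩, -⟩ := ha.2 (b * y) _ _ (mul_mem hb.1 hy) hv1 hw1 (by
        calc b * y * g * (b * y)⁻¹ = b * (y * g * y⁻¹) * b⁻¹ := by group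
          _ = _ := by rw [hyv]; group)
      obtain ⟨-, hv3, hw3⟩ := ha.2 y v w hy hv hw hyv
      obtain ⟨-, hv4, hw4⟩ := hb.2 (a⁻¹ * y) _ _ (mul_mem (inv_mem ha.1) hy) hv3 hw3 (by
        calc a⁻¹ * y * g * (a⁻¹ * y)⁻¹ = a⁻¹ * (y * g * y⁻¹) * a := by group
          _ = _ := by rw [hyv]; group)
      refine ⟨⟨?_, ?_⟩, ?_, ?_⟩
      · simpa [mul_assoc] using hv2
      · simpa [mul_assoc] using hw2
      · simpa [mul_assoc] using hv4
      · simpa [mul_assoc] using hw4
    · intro a ha
      refine ⟨inv_mem ha.1, fun y v w hy hv hw hyv => ?_⟩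
      obtain ⟨h1, h2⟩ := ha.2 y v w hy hv hw hyv
      simpa using And.intro h2 h1
  obtain ⟨n, hn, hmap⟩ := ChevTorus.exists_conj_pos_eq_neg (F := F) hW
  obtain ⟨⟨hv1, hu1⟩, hv2, -⟩ := (hP n hn).2 u⁻¹ v u0 (inv_mem hug) hv hu0 e0
  have hinf : ∀ x, x ∈ D.posUnipotent F → x ∈ D.negUnipotent F → x = 1 := fun x h1 h2 => by
    have : x ∈ D.borelSubgroup F ⊓ D.negUnipotent F := ⟨pos_le_borel D h1, h2⟩
    rwa [borel_inf_neg hW, Subgroup.mem_bot] at this
  have hu1' : n * u0 * n⁻¹ ∈ D.negUnipotent F := hmap ▸ ⟨u0, hu0, rfl⟩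
  have h1 : u0 = 1 := by
    have := hinf _ hu1 hu1'
    exact conj_eq_one_iff.1 this
  have h2 : v = 1 := by
    obtain ⟨p, hp, hpe⟩ : v ∈ (D.posUnipotent F).map (MulAut.conj n).toMonoidHom := hmap ▸ hv
    have hpe' : n * p * n⁻¹ = v := hpe
    have : p = 1 := hinf p hp (by
      rw [show p = n⁻¹ * v * n by rw [← hpe']; group]; exact hv2)
    rw [← hpe', this]; group
  rw [h1, h2, mul_one] at e0
  exact hg1 (conj_eq_one_iff.1 e0)

/-- The diagram is connected, in terms of the Cartan integers. -/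
def Connected (D : ChevalleyDatum) : Prop :=
  ∀ Q : Fin D.rank → Prop,
    (∀ i j : Fin D.rank, D.cartan i (D.simple j) ≠ 0 → Q i → Q j) → (∃ i, Q i) → ∀ j, Q j

theorem exists_all_good [Fintype F] (hW : GoodWeyl D) (hF : 9 ≤ Fintype.card F)
    (hconn : Connected D)
    (hb : ∀ i : Fin D.rank, ∑ j : Fin D.rank, (D.cartan i (D.simple j)).natAbs ≤ 5)
    {g : GL D.Idx F} (hg : g ∈ D.group F) (hg1 : g ≠ 1) :
    ∃ c, Reach D g c ∧ ∀ i, chi c (pRoot hW i) ≠ 1 := by
  classical
  suffices H : ∀ (n : ℕ) (c : Fin D.rank → Fˣ),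
      (Finset.univ.filter fun i => chi c (pRoot hW i) = 1).card = n → Reach D g c →
      (∃ i, chi c (pRoot hW i) ≠ 1) → ∃ c, Reach D g c ∧ ∀ i, chi c (pRoot hW i) ≠ 1 by
    obtain ⟨c, hc, hi⟩ := exists_reach_good hW hF hg hg1
    exact H _ c rfl hc hi
  intro n
  induction n using Nat.strong_induction_on with
  | _ n ih =>
    intro c hn hc hgood
    by_cases hall : ∀ i, chi c (pRoot hW i) ≠ 1
    · exact ⟨c, hc, hall⟩
    obtain ⟨i, j, hij, hi, hj⟩ : ∃ i j : Fin D.rank, D.cartan i (D.simple j) ≠ 0 ∧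
        chi c (pRoot hW i) ≠ 1 ∧ chi c (pRoot hW j) = 1 := by
      by_contra hne
      push Not at hne
      exact hall (hconn (fun i => chi c (pRoot hW i) ≠ 1)
        (fun i j hij hi hj => hne i j hij hi hj) hgood)
    obtain ⟨z, hz⟩ := exists_avoid (F := F)
      (Finset.univ.filter fun k : Fin D.rank => D.cartan i (D.simple k) ≠ 0)
      (fun k => chi c (pRoot hW k)) (fun k => D.cartan i (D.simple k))
      (fun k hk h0 => absurd h0 (Finset.mem_filter.1 hk).2) (by
        refine lt_of_le_of_lt (Nat.add_le_add_right ((Finset.sum_le_sum_of_subset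
          (Finset.subset_univ _)).trans (hb i)) 1) (by omega))
    have hnew : ∀ k, chi (Pi.mulSingle i z * c) (pRoot hW k) =
        chi c (pRoot hW k) * z ^ D.cartan i (D.simple k) := fun k => chi_mulSingle_mul i z c _
    have hstay : ∀ k, chi c (pRoot hW k) ≠ 1 → chi (Pi.mulSingle i z * c) (pRoot hW k) ≠ 1 := by
      intro k hk
      rw [hnew]
      by_cases h : D.cartan i (D.simple k) = 0
      · rwa [h, zpow_zero, mul_one]
      · exact hz k (by simp [h])
    refine ih _ ?_ _ rfl (hc.move hW i hi z) ⟨i, hstay i hi⟩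
    rw [← hn]
    refine Finset.card_lt_card (Finset.ssubset_iff_of_subset ?_ |>.2 ⟨j, by simp [hj], ?_⟩)
    · intro k hk
      simp only [Finset.mem_filter, Finset.mem_univ, true_and] at hk ⊢
      by_contra h
      exact hstay k h hk
    · simp only [Finset.mem_filter, Finset.mem_univ, true_and, hnew]
      exact hz j (by simp [hij])

/-- Every torus element is reached. -/
theorem reach [Fintype F] (hW : GoodWeyl D) (hF : 9 ≤ Fintype.card F) (hconn : Connected D)
    (hb : ∀ i : Fin D.rank, ∑ j : Fin D.rank, (D.cartan i (D.simple j)).natAbs ≤ 5)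
    {g : GL D.Idx F} (hg : g ∈ D.group F) (hg1 : g ≠ 1) (c : Fin D.rank → Fˣ) : Reach D g c := by
  classical
  let mix : ℕ → (Fin D.rank → Fˣ) → Fin D.rank → Fˣ := fun k d i => if (i : ℕ) < k then c i else d i
  suffices H : ∀ k, k ≤ D.rank → ∀ d, Reach D g d →
      (∀ i : Fin D.rank, (i : ℕ) < k → chi d (pRoot hW i) ≠ 1) → Reach D g (mix k d) by
    obtain ⟨d, hd, hall⟩ := exists_all_good hW hF hconn hb hg hg1
    have := H D.rank le_rfl d hd fun i _ => hall i
    rwa [show mix D.rank d = c from funext fun i => if_pos i.isLt] at this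
  intro k
  induction k with
  | zero =>
    intro _ d hd _
    rwa [show mix 0 d = d from funext fun i => if_neg (Nat.not_lt_zero _)]
  | succ k ih =>
    intro hk d hd hgood
    set i : Fin D.rank := ⟨k, by omega⟩ with hik
    let s : Finset (Option (Fin D.rank)) :=
      Finset.insertNone (Finset.univ.filter fun j : Fin D.rank => (j : ℕ) < k)
    obtain ⟨z, hz⟩ := exists_avoid (F := F) s
      (fun o => o.elim (chi (mix k d) (pRoot hW i)) fun j => chi d (pRoot hW j))
      (fun o => o.elim 2 fun j => D.cartan i (D.simple j))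
      (fun o ho h0 => by
        rcases o with _ | j
        · simp at h0
        · refine hgood j ?_
          have := Finset.some_mem_insertNone.1 ho
          simp only [Finset.mem_filter, Finset.mem_univ, true_and] at this
          omega) (by
        rw [Finset.sum_insertNone]
        simp only [Option.elim_none, Option.elim_some]
        have := (Finset.sum_le_sum_of_subset (f := fun j : Fin D.rank => (D.cartan i (D.simple j)).natAbs)
          (Finset.subset_univ (Finset.univ.filter fun j : Fin D.rank => (j : ℕ) < k))).trans (hb i)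
        omega)
    have h1 := hd.move hW i (hgood i (by simp [i])) z
    have h2 := ih (by omega) _ h1 fun j hj => by
      rw [chi_mulSingle_mul]
      exact hz (some j) (Finset.some_mem_insertNone.2 (by simp [hj]))
    have hmix : mix k (Pi.mulSingle i z * d) = Pi.mulSingle i z * mix k d := by
      funext j
      simp only [mix, Pi.mul_apply]
      by_cases hj : (j : ℕ) < k
      · rw [if_pos hj, if_pos hj, Pi.mulSingle_eq_of_ne (fun e => by subst e; simp [i] at hj), one_mul]
      · rw [if_neg hj, if_neg hj]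
    rw [hmix] at h2
    have h3 := h2.move hW i (by
      rw [chi_mulSingle_mul, show D.cartan i (pRoot hW i : Root D) = (2 : ℤ) from
        hW.good.cartan_simple_self i.isLt]
      exact hz none (by simp [s])) (c i * (z * d i)⁻¹)
    convert h3 using 1
    funext j
    simp only [mix, Pi.mul_apply]
    rcases eq_or_ne j i with rfl | hj
    · rw [if_pos (by simp [i]), if_neg (by simp [i]), Pi.mulSingle_eq_same, Pi.mulSingle_eq_same]
      group
    · have : (j : ℕ) ≠ k := fun e => hj (Fin.ext e)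
      rw [Pi.mulSingle_eq_of_ne hj, Pi.mulSingle_eq_of_ne hj, one_mul, one_mul]
      by_cases h : (j : ℕ) < k
      · rw [if_pos (by omega), if_pos h]
      · rw [if_neg (by omega), if_neg h]

end CfsgLib.ClassSquare.Gauss
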