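import Cfsg.Agent.Chevalley.Parabolic
import Cfsg.Agent.ClassSquare.Abstract
import Cfsg.Agent.ClassSquare.Field
import Cfsg.Agent.ClassSquare.Tri
import Cfsg.Agent.ClassSquare.GaussSteer

/-!
# A class squaring to a Chevalley group, given its Levi part

The class is that of `t u`, with `t` a torus element whose exponent vanishes exactly on a standard
Levi subsystem and `u` a unipotent element of that Levi subgroup.
-/

set_option autoImplicit false
set_option linter.unusedSectionVars false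

namespace CfsgLib.ClassSquare.Except

open Cfsg.Lie CfsgLib.Chevalley CfsgLib.ChevSimple CfsgLib.ClassSquare
open scoped MatrixGroups

variable {D : ChevalleyDatum}

/-- The exponent of a root for a coweight given on the coroot basis. -/
def expo (a : Fin D.rank → ℤ) (r : Root D) : ℤ := ∑ k : Fin D.rank, a k * D.cartan k r

/-- The nodes of exponent zero. -/
def nodes (hW : GoodWeyl D) (a : Fin D.rank → ℤ) : Set (Fin D.rank) :=
  {k | expo a (pRoot hW k) = 0}

/-- A coweight, and a word in the fundamental reflections turning it into its negative. -/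
structure Grading (hW : GoodWeyl D) where
  a : Fin D.rank → ℤ
  w : List (Fin D.rank)
  bound : ∀ r : Root D, (expo a r).natAbs ≤ 7
  pos : ∀ r : Root D, 0 < expo a r → half D ≤ (r : ℕ)
  neg : ∀ r : Root D, expo a r < 0 → (r : ℕ) < half D
  zero_iff : ∀ r : Root D, expo a r = 0 ↔ r ∈ rootJ D (nodes hW a)
  flip : ∀ r : Root D, expo a ((w.map (wPerm hW)).prod r) = -expo a r

namespace Grading

variable {hW : GoodWeyl D} (E : Grading hW) {F : Type*} [Field F]

/-- The Levi subgroup. -/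
def lev (F : Type*) [Field F] : Subgroup (GL D.Idx F) := lJ hW F (nodes hW E.a)

/-- The roots of positive exponent. -/
def mSet : Set (Root D) := {r | 0 < expo E.a r}

/-- The roots of negative exponent. -/
def nSet : Set (Root D) := {r | expo E.a r < 0}

/-- The semisimple element. -/
def tEl (γ : Fˣ) : GL D.Idx F := torC D fun k => γ ^ E.a k

/-- The monomial element. -/
def nEl (F : Type*) [Field F] : GL D.Idx F := (E.w.map (nR hW)).prod

/-- Its permutation. -/
def perm : Equiv.Perm (Root D) := (E.w.map (wPerm hW)).prod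

theorem mSet_eq : E.mSet = radJ D (nodes hW E.a) := by
  ext r
  refine ⟨fun h => show half D ≤ (r : ℕ) ∧ r ∉ rootJ D (nodes hW E.a) from
    ⟨E.pos r h, fun hJ => ?_⟩, fun h => ?_⟩
  · have := (E.zero_iff r).2 hJ
    simp only [mSet, Set.mem_ofPred_eq] at h
    omega
  · have h0 : expo E.a r ≠ 0 := fun e => h.2 ((E.zero_iff r).1 e)
    by_contra hn
    have : expo E.a r < 0 := by
      simp only [mSet, Set.mem_ofPred_eq] at hn
      omega
    have := E.neg r this
    have := h.1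
    omega

theorem chi_tEl (γ : Fˣ) (r : Root D) : chi (fun k => γ ^ E.a k) r = γ ^ expo E.a r := by
  simp only [chi, expo, ← zpow_mul]
  induction (Finset.univ : Finset (Fin D.rank)) using Finset.induction_on with
  | empty => simp
  | insert k S hk ih => rw [Finset.sum_insert hk, Finset.prod_insert hk, zpow_add, ih]

theorem tEl_inv (γ : Fˣ) : (E.tEl γ)⁻¹ = E.tEl γ⁻¹ := by
  refine inv_eq_of_mul_eq_one_right ?_
  rw [tEl, tEl, torC_mul, show (fun k => γ ^ E.a k) * (fun k => γ⁻¹ ^ E.a k) =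
    (1 : Fin D.rank → Fˣ) from funext fun k => by simp [← mul_zpow]]
  exact (torHom D F).map_one

theorem lev_le_group : E.lev F ≤ D.group F :=
  sup_le (diag_le_group hW) (rootGen_le _ fun _ _ t => X_mem_group _ _ t)

theorem tEl_mem_diag (γ : Fˣ) : E.tEl γ ∈ D.diagonalSubgroup F := by
  rw [diagonalSubgroup_eq_range hW]; exact ⟨_, rfl⟩

theorem commute_tEl (γ : Fˣ) {l : GL D.Idx F} (hl : l ∈ E.lev F) : Commute (E.tEl γ) l := by
  have h : E.lev F ≤ Subgroup.centralizer ({E.tEl γ} : Set (GL D.Idx F)) := by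
    refine sup_le (fun x hx => ?_) (rootGen_le _ fun r hr t => ?_)
    · rw [Subgroup.mem_centralizer_singleton_iff]
      exact (diag_comm hW (E.tEl_mem_diag γ) hx).symm
    · rw [Subgroup.mem_centralizer_singleton_iff, tEl]
      have e := Gauss.torC_mul_X hW (fun k => γ ^ E.a k) r t
      rw [E.chi_tEl, (E.zero_iff r).2 hr, zpow_zero, Units.val_one, one_mul] at e
      exact e.symm
  exact (Subgroup.mem_centralizer_singleton_iff.1 (h hl)).symm

theorem monBy_nEl : MonBy hW (E.nEl F) E.perm := by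
  simp only [nEl, perm]
  induction E.w with
  | nil => simpa using MonBy.one (F := F) hW
  | cons i L ih => simpa using (monBy_nR hW i).mul ih

theorem nEl_mem : (E.nEl F) ∈ D.monomialSubgroup F :=
  Subgroup.list_prod_mem _ fun x hx => by
    obtain ⟨i, -, rfl⟩ := List.mem_map.1 hx
    exact nR_mem_monomial hW i

theorem expo_perm (r : Root D) : expo E.a (E.perm r) = -expo E.a r := E.flip r

theorem expo_perm_inv (r : Root D) : expo E.a (E.perm⁻¹ r) = -expo E.a r := by
  have := E.expo_perm (E.perm⁻¹ r)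
  rw [show E.perm (E.perm⁻¹ r) = r from E.perm.apply_symm_apply r] at this
  omega

theorem nEl_conj_tEl (γ : Fˣ) : E.nEl F * E.tEl γ * (E.nEl F)⁻¹ = (E.tEl γ)⁻¹ := by
  have H : ∀ (L : List (Fin D.rank)) (χ ψ : Root D → Fˣ), (∀ s, ψ ((L.map (wPerm hW)).prod s) = χ s) →
      (L.map (nR hW)).prod * tor χ = tor ψ * (L.map (nR hW)).prod := by
    intro L
    induction L with
    | nil =>
      intro χ ψ h
      simp only [List.map_nil, List.prod_nil, Equiv.Perm.one_apply] at h ⊢
      rw [one_mul, mul_one, funext h]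
    | cons i L ih =>
      intro χ ψ h
      simp only [List.map_cons, List.prod_cons, Equiv.Perm.mul_apply] at h ⊢
      rw [mul_assoc, ih χ (fun s => ψ (wPerm hW i s)) h, ← mul_assoc, tor_mul_nR, mul_assoc]
      congr 2
      funext s
      simp only [hW.wPerm_wPerm]
  rw [mul_inv_eq_iff_eq_mul, E.tEl_inv]
  refine H E.w (chi fun k => γ ^ E.a k) (chi fun k => γ⁻¹ ^ E.a k) fun s => ?_
  rw [E.chi_tEl, E.chi_tEl, E.flip, zpow_neg, inv_zpow, inv_inv]

theorem nEl_conj_M {x : GL D.Idx F} (hx : x ∈ rootGen hW.good F E.mSet) :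
    E.nEl F * x * (E.nEl F)⁻¹ ∈ rootGen hW.good F E.nSet :=
  E.monBy_nEl.conj_rootGen (fun r hr => by
    simp only [mSet, nSet, Set.mem_ofPred_eq] at hr ⊢
    rw [E.expo_perm]; omega) hx

theorem nEl_inv_conj_N {x : GL D.Idx F} (hx : x ∈ rootGen hW.good F E.nSet) :
    (E.nEl F)⁻¹ * x * E.nEl F ∈ rootGen hW.good F E.mSet := by
  have := (E.monBy_nEl (F := F)).inv.conj_rootGen (T := E.mSet) (fun r hr => by
    simp only [mSet, nSet, Set.mem_ofPred_eq] at hr ⊢
    rw [E.expo_perm_inv]; omega) hx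
  rwa [inv_inv] at this

theorem nEl_inv_conj_lev {l : GL D.Idx F} (hl : l ∈ E.lev F) :
    (E.nEl F)⁻¹ * l * E.nEl F ∈ E.lev F := by
  refine (show E.lev F ≤ (E.lev F).comap (MulAut.conj (E.nEl F)⁻¹).toMonoidHom from
    sup_le (fun x hx => ?_) (rootGen_le _ fun r hr t => ?_)) hl |> (by simpa using ·)
  · show (E.nEl F)⁻¹ * x * (E.nEl F)⁻¹⁻¹ ∈ E.lev F
    exact Subgroup.mem_sup_left ((Subgroup.mem_normalizer_iff.1
      (Chevalley.monomial_le_normalizer hW (inv_mem E.nEl_mem)) x).1 hx)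
  · show (E.nEl F)⁻¹ * X hW.good r t * (E.nEl F)⁻¹⁻¹ ∈ E.lev F
    obtain ⟨c, hc⟩ := (E.monBy_nEl (F := F)).inv.conj_X r
    rw [hc]
    refine Subgroup.mem_sup_right (X_mem_rootGen _ ?_ _)
    rw [← E.zero_iff, E.expo_perm_inv, (E.zero_iff r).2 hr, neg_zero]

theorem lev_conj_M {l x : GL D.Idx F} (hl : l ∈ E.lev F) (hx : x ∈ rootGen hW.good F E.mSet) :
    l * x * l⁻¹ ∈ rootGen hW.good F E.mSet := by
  rw [E.mSet_eq] at hx ⊢
  exact (Subgroup.mem_normalizer_iff.1 (pJ_le_normalizer hW (lJ_le_pJ hW hl)) x).1 hx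

theorem lev_conj_N {l x : GL D.Idx F} (hl : l ∈ E.lev F) (hx : x ∈ rootGen hW.good F E.nSet) :
    l * x * l⁻¹ ∈ rootGen hW.good F E.nSet := by
  have := E.nEl_conj_M (E.lev_conj_M (E.nEl_inv_conj_lev hl) (E.nEl_inv_conj_N hx))
  simpa [mul_assoc] using this

theorem mSet_le_pos : rootGen hW.good F E.mSet ≤ D.posUnipotent F :=
  posUnipotent_eq_rootGen (F := F) hW.good ▸ rootGen_mono hW.good fun r hr => E.pos r hr

theorem eq_one_of_commute_M {γ : Fˣ} (hγ : 8 ≤ orderOf γ) {x : GL D.Idx F}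
    (hx : x ∈ rootGen hW.good F E.mSet) (hc : E.tEl γ * x = x * E.tEl γ) : x = 1 := by
  have hh := hW.good.two_half
  have hx' : x ∈ uGe hW.good F false (half D) := by
    rw [← posUnipotent_eq hW.good]; exact E.mSet_le_pos hx
  obtain ⟨T, hT⟩ := exists_prodFrom hW.toGoodComm (half D) (half D) le_rfl (by omega) x hx'
  have hconj : ∀ L : List ℕ, E.tEl γ * (L.map fun j => X hW.good (rootOf hW.good false j) (T j)).prod *
      (E.tEl γ)⁻¹ = (L.map fun j => X hW.good (rootOf hW.good false j)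
        (((γ ^ expo E.a (rootOf hW.good false j) : Fˣ) : F) * T j)).prod := by
    intro L
    induction L with
    | nil => simp
    | cons j L ih =>
      rw [List.map_cons, List.prod_cons, List.map_cons, List.prod_cons, ← ih, ← E.chi_tEl,
        ← torC_conj_X hW.good, tEl]
      group
  have heq := prodFrom_injective hW.toGoodUni (half D) (half D) le_rfl (by omega)
    (fun j => ((γ ^ expo E.a (rootOf hW.good false j) : Fˣ) : F) * T j) T (by
      rw [hT]
      calc prodFrom hW.good false _ (half D) (half D) = E.tEl γ * x * (E.tEl γ)⁻¹ := by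
            rw [← hT]; exact (hconj _).symm
        _ = x := by rw [hc]; group)
  have hlev : x ∈ E.lev F := by
    rw [← hT]
    refine Subgroup.list_prod_mem _ fun y hy => ?_
    obtain ⟨j, hj, rfl⟩ := List.mem_map.1 hy
    rw [List.mem_range'_1] at hj
    set r := rootOf hW.good false j
    by_cases h0 : expo E.a r = 0
    · exact Subgroup.mem_sup_right (X_mem_rootGen _ ((E.zero_iff r).1 h0) _)
    suffices T j = 0 by rw [this, X_zero]; exact one_mem _
    have e := heq j hj.1 hj.2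
    by_contra hne
    have h1 : γ ^ expo E.a r = 1 :=
      Units.ext (mul_right_cancel₀ hne (e.trans (one_mul _).symm))
    have h2 := E.bound r
    have h3 : γ ^ (expo E.a r).natAbs = 1 := by
      rcases Int.natAbs_eq (expo E.a r) with h | h
      · rwa [h, zpow_natCast] at h1
      · rwa [h, zpow_neg, inv_eq_one, zpow_natCast] at h1
    exact absurd (orderOf_le_of_pow_eq_one (by omega) h3) (by omega)
  have : x ∈ rootGen hW.good F (radJ D (nodes hW E.a)) ⊓ lJ hW F (nodes hW E.a) :=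
    ⟨E.mSet_eq ▸ hx, hlev⟩
  rwa [rad_inf_lJ hW, Subgroup.mem_bot] at this

theorem eq_one_of_commute_N {γ : Fˣ} (hγ : 8 ≤ orderOf γ) {x : GL D.Idx F}
    (hx : x ∈ rootGen hW.good F E.nSet) (hc : E.tEl γ * x = x * E.tEl γ) : x = 1 := by
  have hn := E.nEl_conj_tEl (F := F) γ
  set n := E.nEl F
  set t := E.tEl γ
  have hn' : n⁻¹ * t * n = t⁻¹ := by
    have h1 : n * t⁻¹ * n⁻¹ = t := by simpa [mul_assoc] using congrArg (·⁻¹) hn
    calc n⁻¹ * t * n = n⁻¹ * (n * t⁻¹ * n⁻¹) * n := by rw [h1]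
      _ = t⁻¹ := by group
  have h2 : t⁻¹ * (n⁻¹ * x * n) = (n⁻¹ * x * n) * t⁻¹ := by
    calc t⁻¹ * (n⁻¹ * x * n) = n⁻¹ * (t * x) * n := by rw [← hn']; group
      _ = (n⁻¹ * x * n) * t⁻¹ := by rw [hc, ← hn']; group
  have h3 := E.eq_one_of_commute_M hγ (E.nEl_inv_conj_N hx) (Commute.inv_left_iff.1 h2).eq
  have := congrArg (fun y => n * y * n⁻¹) h3
  simpa [n, mul_assoc] using this

theorem commute_tEl_of_commute [Fintype F] (γ : Fˣ) {u x : GL D.Idx F}
    (hu : u ∈ D.posUnipotent F) (hul : u ∈ E.lev F)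
    (hc : E.tEl γ * u * x = x * (E.tEl γ * u)) : E.tEl γ * x = x * E.tEl γ := by
  classical
  obtain ⟨p, hp⟩ := CharP.exists F
  haveI : Fact p.Prime := ⟨CharP.char_is_prime F p⟩
  have hlow := isLower_of_mem hW.good (b := false) (by rw [← posUnipotent_eq hW.good]; exact hu :
    u ∈ uGe hW.good F false (half D))
  have hlt := fun a : D.Idx => ord_lt (b := false) hW.good a
  have hcomm : Commute ((E.tEl γ : GL D.Idx F) : Matrix D.Idx D.Idx F) (u : Matrix D.Idx D.Idx F) := by
    have := congrArg Units.val (E.commute_tEl γ hul).eq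
    simpa [Commute, SemiconjBy] using this
  have hval : ((E.tEl γ : GL D.Idx F) : Matrix D.Idx D.Idx F) =
      Matrix.diagonal fun a => (chiIdx (fun k => γ ^ E.a k) a : F) := torC_apply _
  rw [hval] at hcomm
  have hmain := commute_diag_of_commute p (u := (u : Matrix D.Idx D.Idx F))
    (M := (x : Matrix D.Idx D.Idx F)) (B := D.rank + D.nroots)
    (e := fun a => D.rank + D.nroots - 1 - ord false a) (fun a => by have := hlt a; omega)
    (fun a b h => by
      rcases eq_or_ne a b with rfl | hab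
      · rw [Matrix.sub_apply, hlow.1, Matrix.one_apply_eq, sub_self]
      · rw [Matrix.sub_apply, Matrix.one_apply_ne hab, sub_zero]
        exact hlow.2 a b hab (by have := hlt a; have := hlt b; omega))
    hcomm (by
      have := congrArg Units.val hc
      rw [Units.val_mul, Units.val_mul, Units.val_mul, hval] at this
      simpa [Commute, SemiconjBy, Units.val_mul, hval] using this)
  refine Units.ext ?_
  rw [Units.val_mul, Units.val_mul, hval]
  exact hmain

/-- The group is the square of the class of `t u`. -/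
theorem hasClassSquare [Fintype F] (hF : 9 ≤ Fintype.card F) (hconn : Gauss.Connected D)
    (hb : ∀ i : Fin D.rank, ∑ j : Fin D.rank, (D.cartan i (D.simple j)).natAbs ≤ 5)
    (u : GL D.Idx F) (hu : u ∈ D.posUnipotent F) (hul : u ∈ E.lev F)
    (hinv : ∃ l ∈ E.lev F, l * u * l⁻¹ = u⁻¹)
    (hflip : ∃ l ∈ E.lev F, l * (E.nEl F * u * (E.nEl F)⁻¹) * l⁻¹ = u)
    (c₀ : Fin D.rank → Fˣ)
    (hmid : ∀ v ∈ rootGen hW.good F {r | expo E.a r = 0 ∧ (r : ℕ) < half D},
      ∀ w ∈ rootGen hW.good F {r | expo E.a r = 0 ∧ half D ≤ (r : ℕ)},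
      ∃ s ∈ E.lev F, ∃ s' ∈ E.lev F, v * torC D c₀ * w = s * u * s⁻¹ * (s' * u * s'⁻¹)) :
    HasClassSquare ↥(D.group F) := by
  classical
  obtain ⟨γ, hγ⟩ := exists_big_order hF
  set t := E.tEl γ with ht
  set n := E.nEl F
  have htG : t ∈ D.group F := diag_le_group hW (E.tEl_mem_diag γ)
  have huG : u ∈ D.group F := E.lev_le_group hul
  have hnG : n ∈ D.group F := monomial_le_group hW E.nEl_mem
  have hcomm : ∀ {l : GL D.Idx F}, l ∈ E.lev F → Commute t l := fun h => E.commute_tEl γ h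
  have hnt : n * t * n⁻¹ = t⁻¹ := E.nEl_conj_tEl γ
  let c : ↥(D.group F) := ⟨t * u, mul_mem htG huG⟩
  let c' : ↥(D.group F) := ⟨t⁻¹ * u, mul_mem (inv_mem htG) huG⟩
  obtain ⟨l, hl, hlu⟩ := hflip
  have hcc : IsConj c c' := by
    refine isConj_iff.2 ⟨⟨l * n, mul_mem (E.lev_le_group hl) hnG⟩, Subtype.ext ?_⟩
    show l * n * (t * u) * (l * n)⁻¹ = t⁻¹ * u
    calc l * n * (t * u) * (l * n)⁻¹ = l * (n * t * n⁻¹) * (n * u * n⁻¹) * l⁻¹ := by group
      _ = (l * t⁻¹) * (n * u * n⁻¹) * l⁻¹ := by rw [hnt]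
      _ = t⁻¹ * (l * (n * u * n⁻¹) * l⁻¹) := by
          rw [← (hcomm hl).inv_left.eq]; group
      _ = t⁻¹ * u := by rw [hlu]
  have hreal : IsConj c c⁻¹ := by
    obtain ⟨k, hk, hku⟩ := hinv
    refine hcc.trans (isConj_iff.2 ⟨⟨k, E.lev_le_group hk⟩, Subtype.ext ?_⟩)
    show k * (t⁻¹ * u) * k⁻¹ = (t * u)⁻¹
    rw [(hcomm hul).eq, mul_inv_rev, ← hku, ← mul_assoc,
      ← (hcomm hk).inv_left.eq]
    group
  refine hasClassSquare_of_real c hreal fun g hg => ?_
  obtain ⟨y, hy, v, hv, w, hw, e⟩ := Gauss.reach hW hF hconn hb g.2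
    (fun h => hg (Subtype.ext h)) c₀
  -- splitting off the Levi parts
  have hsub : ∀ S : Set (Root D), (∀ r ∈ S, expo E.a r = 0) → rootGen hW.good F S ≤ E.lev F :=
    fun S hS => rootGen_le _ fun r hr t =>
      Subgroup.mem_sup_right (X_mem_rootGen _ ((E.zero_iff r).1 (hS r hr)) _)
  have split : ∀ (T A : Set (Root D)) (B : Set (Root D)),
      (∀ l ∈ E.lev F, ∀ x ∈ rootGen hW.good F T, l * x * l⁻¹ ∈ rootGen hW.good F T) →
      (∀ r ∈ A, expo E.a r = 0) → B ⊆ T ∪ A →
      ∀ x ∈ rootGen hW.good F B, ∃ p ∈ rootGen hW.good F T, ∃ q ∈ rootGen hW.good F A, x = p * q := by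
    intro T A B hT hA hB x hx
    have hx' : x ∈ rootGen hW.good F T ⊔ rootGen hW.good F A :=
      rootGen_le _ (fun r hr t => by
        rcases hB hr with h | h
        · exact Subgroup.mem_sup_left (X_mem_rootGen _ h t)
        · exact Subgroup.mem_sup_right (X_mem_rootGen _ h t)) hx
    have hnorm : rootGen hW.good F A ≤ Subgroup.normalizer (rootGen hW.good F T : Set (GL D.Idx F)) :=
      fun l hl => Subgroup.mem_normalizer_iff.2 fun z => ⟨hT l (hsub A hA hl) z, fun h => by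
        have := hT l⁻¹ (inv_mem (hsub A hA hl)) _ h
        simpa [mul_assoc] using this⟩
    rw [← SetLike.mem_coe, Subgroup.coe_mul_of_right_le_normalizer_left _ _ hnorm] at hx'
    obtain ⟨p, hp, q, hq, rfl⟩ := Set.mem_mul.1 hx'
    exact ⟨p, hp, q, hq, rfl⟩
  rw [negUnipotent_eq_rootGen hW.good] at hv
  obtain ⟨vN, hvN, vL, hvL, rfl⟩ := split E.nSet {r | expo E.a r = 0 ∧ (r : ℕ) < half D} (negSet D)
    (fun l hl x hx => E.lev_conj_N hl hx) (fun r hr => hr.1) (fun r hr => by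
      rcases lt_trichotomy (expo E.a r) 0 with h | h | h
      · exact Or.inl h
      · exact Or.inr (show expo E.a r = 0 ∧ (r : ℕ) < half D from ⟨h, hr⟩)
      · have := E.pos r h
        have h2 : (r : ℕ) < half D := hr
        omega) v hv
  rw [posUnipotent_eq_rootGen hW.good] at hw
  obtain ⟨wM, hwM, wL, hwL, ew⟩ := split E.mSet {r | expo E.a r = 0 ∧ half D ≤ (r : ℕ)} (posSet D)
    (fun l hl x hx => E.lev_conj_M hl hx) (fun r hr => hr.1) (fun r hr => by
      rcases lt_trichotomy (expo E.a r) 0 with h | h | h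
      · have := E.neg r h
        have h2 : half D ≤ (r : ℕ) := hr
        omega
      · exact Or.inr (show expo E.a r = 0 ∧ half D ≤ (r : ℕ) from ⟨h, hr⟩)
      · exact Or.inl h) w⁻¹ (inv_mem hw)
  obtain rfl : w = wL⁻¹ * wM⁻¹ := by rw [← mul_inv_rev, ← ew, inv_inv]
  obtain ⟨s, hs, s', hs', es⟩ := hmid vL hvL wL⁻¹ (inv_mem hwL)
  let N : Subgroup ↥(D.group F) := (rootGen hW.good F E.nSet).subgroupOf (D.group F)
  let M : Subgroup ↥(D.group F) := (rootGen hW.good F E.mSet).subgroupOf (D.group F)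
  have hcl : t * u ∈ E.lev F := mul_mem (Subgroup.mem_sup_left (E.tEl_mem_diag γ)) hul
  have hcl' : t⁻¹ * u ∈ E.lev F :=
    mul_mem (inv_mem (Subgroup.mem_sup_left (E.tEl_mem_diag γ))) hul
  have hvNG : vN ∈ D.group F := rootGen_le _ (fun r _ t => X_mem_group _ _ t) hvN
  have hwMG : wM ∈ D.group F := rootGen_le _ (fun r _ t => X_mem_group _ _ t) hwM
  let sG : ↥(D.group F) := ⟨s, E.lev_le_group hs⟩
  let sG' : ↥(D.group F) := ⟨s', E.lev_le_group hs'⟩
  have main := twoConj_of_shape N M (c := c) (c' := c') hcc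
    (fun z hz => E.lev_conj_N hcl hz)
    (fun z hz h => Subtype.ext (E.eq_one_of_commute_N hγ hz
      (E.commute_tEl_of_commute γ hu hul (congrArg Subtype.val h))))
    (fun z hz => E.lev_conj_M hcl' hz)
    (fun z hz h => Subtype.ext (E.eq_one_of_commute_M hγ hz (by
      have h' : E.tEl γ⁻¹ * u * (z : GL D.Idx F) = z * (E.tEl γ⁻¹ * u) := by
        rw [← E.tEl_inv]; exact congrArg Subtype.val h
      have := E.commute_tEl_of_commute γ⁻¹ hu hul h'
      rw [← E.tEl_inv] at this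
      exact (Commute.inv_left_iff.1 this).eq)))
    (n := ⟨vN, hvNG⟩) (m := ⟨wM⁻¹, inv_mem hwMG⟩) (s := sG) (s' := sG')
    (by
      show s⁻¹ * vN * s ∈ rootGen hW.good F E.nSet
      simpa using E.lev_conj_N (inv_mem hs) hvN)
    (by
      show s'⁻¹ * wM⁻¹ * s' ∈ rootGen hW.good F E.mSet
      simpa using E.lev_conj_M (inv_mem hs') (inv_mem hwM))
  refine main.of_isConj (isConj_iff.2 ⟨⟨y, hy⟩⁻¹, Subtype.ext ?_⟩)
  show y⁻¹ * (vN * (s * (t * u) * s⁻¹) * (s' * (t⁻¹ * u) * s'⁻¹ * wM⁻¹)) * y⁻¹⁻¹ = g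
  have h1 : s * (t * u) * s⁻¹ = s * u * s⁻¹ * t := by
    rw [(hcomm hul).eq]
    rw [show s * (u * t) * s⁻¹ = s * u * (t * s⁻¹) by group, (hcomm (inv_mem hs)).eq]
    group
  have h2 : s' * (t⁻¹ * u) * s'⁻¹ = t⁻¹ * (s' * u * s'⁻¹) := by
    rw [← mul_assoc s', ← (hcomm hs').inv_left.eq]
    group
  rw [h1, h2, show vN * (s * u * s⁻¹ * t) * (t⁻¹ * (s' * u * s'⁻¹) * wM⁻¹) =
    vN * (s * u * s⁻¹ * (s' * u * s'⁻¹)) * wM⁻¹ by group, ← es]
  have e' : (g : GL D.Idx F) = y⁻¹ * (vN * vL * torC D c₀ * (wL⁻¹ * wM⁻¹)) * y := by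
    rw [← e]; group
  rw [e']
  group

end Grading

end CfsgLib.ClassSquare.Except
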