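import Cfsg.Agent.ClassSquare.ExceptChecks
import Cfsg.Prelude.Def_ChevE6

/-!
# The data for the type E6
-/

set_option autoImplicit false

namespace CfsgLib.ClassSquare.Except

open Cfsg.Lie CfsgLib.Chevalley

/-- The coweight. -/
def coweightE6 : List ℤ := [3, 4, 5, 7, 5, 3]

/-- The word. -/
def wordE6 : List ℕ := [0, 2, 3, 4, 5, 1, 3, 4, 2, 3, 0, 2, 1, 3, 4, 5, 4, 3, 0, 2, 1, 3, 4, 0, 2, 1, 3, 2, 1, 0]

set_option maxRecDepth 100000 in
theorem shapeE6 : chkShape chevE6 = true := by decide +kernel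

set_option maxRecDepth 100000 in
theorem gradingE6 : chkGrading chevE6 coweightE6 wordE6 = true := by decide +kernel

/-- The copy of `SL_4`. -/
def tableE6 : Table where
  n := 3
  R := [
    [0, 42, 43, 44],
    [29, 0, 39, 40],
    [28, 32, 0, 37],
    [27, 31, 34, 0]]
  S := [
    [0, 1, -1, 1],
    [1, 0, 1, -1],
    [-1, 1, 0, 1],
    [1, -1, 1, 0]]
  node0 := 2
  nu := 0
  delta := [0, 1, 1, 1]

set_option maxRecDepth 100000 in
theorem tableCheckE6 : chkTable chevE6 coweightE6 wordE6 tableE6 = true := by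
  decide +kernel

theorem hasClassSquare_e6 (hW : GoodWeyl chevE6) {F : Type*} [Field F] [Fintype F]
    (hF : 9 ≤ Fintype.card F) : HasClassSquare ↥(chevE6.group F) :=
  hasClassSquare_of_chk hW coweightE6 wordE6 tableE6 shapeE6 gradingE6 tableCheckE6 hF

end CfsgLib.ClassSquare.Except
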