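import Cfsg.Agent.ClassSquare.ExceptChecks
import Cfsg.Prelude.Def_ChevE7

/-!
# The data for the type E7
-/

set_option autoImplicit false

namespace CfsgLib.ClassSquare.Except

open Cfsg.Lie CfsgLib.Chevalley

/-- The coweight. -/
def coweightE7 : List ℤ := [4, 7, 8, 12, 9, 6, 3]

/-- The word. -/
def wordE7 : List ℕ := [1, 3, 4, 5, 6, 2, 3, 4, 5, 1, 3, 4, 2, 3, 0, 2, 1, 3, 4, 5, 6, 1, 3, 4, 2, 3, 0, 2, 1, 3, 4, 5, 4, 3, 2, 1, 3, 4, 0, 2, 3, 1]

set_option maxRecDepth 100000 in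
theorem shapeE7 : chkShape chevE7 = true := by decide +kernel

set_option maxRecDepth 100000 in
theorem gradingE7 : chkGrading chevE7 coweightE7 wordE7 = true := by decide +kernel

/-- The copy of `SL_7`. -/
def tableE7 : Table where
  n := 6
  R := [
    [0, 93, 94, 95, 96, 97, 98],
    [32, 0, 73, 74, 75, 76, 77],
    [31, 52, 0, 69, 70, 71, 72],
    [30, 51, 56, 0, 66, 67, 68],
    [29, 50, 55, 59, 0, 64, 65],
    [28, 49, 54, 58, 61, 0, 63],
    [27, 48, 53, 57, 60, 62, 0]]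
  S := [
    [0, 1, -1, 1, -1, 1, -1],
    [1, 0, 1, -1, 1, -1, 1],
    [-1, 1, 0, 1, -1, 1, -1],
    [1, -1, 1, 0, 1, -1, 1],
    [-1, 1, -1, 1, 0, 1, -1],
    [1, -1, 1, -1, 1, 0, 1],
    [-1, 1, -1, 1, -1, 1, 0]]
  node0 := 0
  nu := 1
  delta := [0, 0, 0, 1, 1, 1, 1]

set_option maxRecDepth 100000 in
theorem tableCheckE7 : chkTable chevE7 coweightE7 wordE7 tableE7 = true := by
  decide +kernel

theorem hasClassSquare_e7 (hW : GoodWeyl chevE7) {F : Type*} [Field F] [Fintype F]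
    (hF : 9 ≤ Fintype.card F) : HasClassSquare ↥(chevE7.group F) :=
  hasClassSquare_of_chk hW coweightE7 wordE7 tableE7 shapeE7 gradingE7 tableCheckE7 hF

end CfsgLib.ClassSquare.Except
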