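import Cfsg.Agent.ClassSquare.ExceptChecks
import Cfsg.Prelude.Def_ChevE8

/-!
# The data for the type E8
-/

set_option autoImplicit false

namespace CfsgLib.ClassSquare.Except

open Cfsg.Lie CfsgLib.Chevalley

/-- The coweight. -/
def coweightE8 : List ℤ := [5, 8, 10, 15, 12, 9, 6, 3]

/-- The word. -/
def wordE8 : List ℕ := [1, 3, 4, 5, 6, 2, 3, 4, 5, 1, 3, 4, 2, 3, 0, 2, 1, 3, 4, 5, 6, 7, 6, 5, 4, 3, 2, 1, 3, 4, 5, 6, 0, 2, 3, 4, 5, 1, 3, 4, 2, 3, 0, 2, 1, 3, 4, 5, 6, 7, 1, 3, 4, 5, 6, 2, 3, 4, 5, 1, 3, 4, 2, 3, 0, 2, 1, 3, 4, 5, 6, 1, 3, 4, 2, 3, 0, 2, 1, 3, 4, 5, 4, 3, 2, 1, 3, 4, 0, 2, 3, 1]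

set_option maxRecDepth 100000 in
theorem shapeE8 : chkShape chevE8 = true := by decide +kernel

set_option maxRecDepth 100000 in
theorem gradingE8 : chkGrading chevE8 coweightE8 wordE8 = true := by decide +kernel

/-- The copy of `SL_8`. -/
def tableE8 : Table where
  n := 7
  R := [
    [0, 162, 163, 164, 165, 166, 167, 168],
    [77, 0, 135, 136, 137, 138, 139, 140],
    [76, 104, 0, 130, 131, 132, 133, 134],
    [75, 103, 109, 0, 126, 127, 128, 129],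
    [74, 102, 108, 113, 0, 123, 124, 125],
    [73, 101, 107, 112, 116, 0, 121, 122],
    [72, 100, 106, 111, 115, 118, 0, 120],
    [71, 99, 105, 110, 114, 117, 119, 0]]
  S := [
    [0, 1, -1, 1, -1, 1, -1, 1],
    [1, 0, 1, -1, 1, -1, 1, -1],
    [-1, 1, 0, 1, -1, 1, -1, 1],
    [1, -1, 1, 0, 1, -1, 1, -1],
    [-1, 1, -1, 1, 0, 1, -1, 1],
    [1, -1, 1, -1, 1, 0, 1, -1],
    [-1, 1, -1, 1, -1, 1, 0, 1],
    [1, -1, 1, -1, 1, -1, 1, 0]]
  node0 := 0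
  nu := 1
  delta := [0, 0, 0, 1, 1, 1, 1, 1]

set_option maxRecDepth 100000 in
theorem tableCheckE8 : chkTable chevE8 coweightE8 wordE8 tableE8 = true := by
  decide +kernel

theorem hasClassSquare_e8 (hW : GoodWeyl chevE8) {F : Type*} [Field F] [Fintype F]
    (hF : 9 ≤ Fintype.card F) : HasClassSquare ↥(chevE8.group F) :=
  hasClassSquare_of_chk hW coweightE8 wordE8 tableE8 shapeE8 gradingE8 tableCheckE8 hF

end CfsgLib.ClassSquare.Except
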