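import Cfsg.Agent.ClassSquare.ExceptChecks
import Cfsg.Prelude.Def_ChevF4

/-!
# The data for the type F4
-/

set_option autoImplicit false

namespace CfsgLib.ClassSquare.Except

open Cfsg.Lie CfsgLib.Chevalley

/-- The coweight. -/
def coweightF4 : List ℤ := [3, 6, 9, 5]

/-- The word. -/
def wordF4 : List ℕ := [3, 2, 1, 2, 0, 1, 2, 3, 2, 1, 2, 0, 1, 2, 3, 2, 1, 2, 0, 1, 2]

set_option maxRecDepth 100000 in
theorem shapeF4 : chkShape chevF4 = true := by decide +kernel

set_option maxRecDepth 100000 in
theorem gradingF4 : chkGrading chevF4 coweightF4 wordF4 = true := by decide +kernel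

/-- The copy of `SL_3`. -/
def tableF4 : Table where
  n := 2
  R := [
    [0, 33, 34],
    [14, 0, 27],
    [13, 20, 0]]
  S := [
    [0, 1, -1],
    [1, 0, 1],
    [-1, 1, 0]]
  node0 := 0
  nu := 2
  delta := [0, 0, 1]

set_option maxRecDepth 100000 in
theorem tableCheckF4 : chkTable chevF4 coweightF4 wordF4 tableF4 = true := by
  decide +kernel

theorem hasClassSquare_f4 (hW : GoodWeyl chevF4) {F : Type*} [Field F] [Fintype F]
    (hF : 9 ≤ Fintype.card F) : HasClassSquare ↥(chevF4.group F) :=
  hasClassSquare_of_chk hW coweightF4 wordF4 tableF4 shapeF4 gradingF4 tableCheckF4 hF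

end CfsgLib.ClassSquare.Except
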