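import Cfsg.Agent.ClassSquare.ExceptChecks
import Cfsg.Prelude.Def_ChevG2

/-!
# The data for the type G2
-/

set_option autoImplicit false

namespace CfsgLib.ClassSquare.Except

open Cfsg.Lie CfsgLib.Chevalley

/-- The coweight. -/
def coweightG2 : List ℤ := [3, 5]

/-- The word. -/
def wordG2 : List ℕ := [1, 0, 1, 0, 1, 0]

set_option maxRecDepth 100000 in
theorem shapeG2 : chkShape chevG2 = true := by decide +kernel

set_option maxRecDepth 100000 in
theorem gradingG2 : chkGrading chevG2 coweightG2 wordG2 = true := by decide +kernel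

theorem hasClassSquare_g2 (hW : GoodWeyl chevG2) {F : Type*} [Field F] [Fintype F]
    (hF : 9 ≤ Fintype.card F) : HasClassSquare ↥(chevG2.group F) :=
  hasClassSquare_of_chk_torus hW coweightG2 wordG2 shapeG2 gradingG2
    (by decide +kernel) hF

end CfsgLib.ClassSquare.Except
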