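import Cfsg.Agent.ClassSquare.ExceptCore
import Cfsg.Agent.CurtisTitsA.SL
import Cfsg.Agent.SourourProduct.Main
import Cfsg.Agent.ClassSquare.Block

/-!
# The Levi part: a root subgroup copy of `SL_{n+1}`
-/

set_option autoImplicit false
set_option linter.unusedSectionVars false

namespace CfsgLib.ClassSquare.Except

open Cfsg.Lie CfsgLib.Chevalley CfsgLib.ChevSimple CfsgLib.ClassSquare CfsgLib.CurtisTitsA
  CfsgLib.SourourProduct
open scoped MatrixGroups commutatorElement

/-! ### Matrices -/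

section Mat

variable {F : Type*} [Field F] {n : ℕ}

/-- Similar matrices. -/
def Sim (A B : Matrix (Fin (n + 1)) (Fin (n + 1)) F) : Prop :=
  ∃ P : Matrix (Fin (n + 1)) (Fin (n + 1)) F, P.det ≠ 0 ∧ A * P = P * B

theorem Sim.symm {A B : Matrix (Fin (n + 1)) (Fin (n + 1)) F} (h : Sim A B) : Sim B A := by
  obtain ⟨P, hP, e⟩ := h
  have hu : IsUnit P.det := isUnit_iff_ne_zero.2 hP
  refine ⟨P⁻¹, by rwa [Matrix.det_nonsing_inv, Ring.inverse_eq_inv, ne_eq, inv_eq_zero], ?_⟩
  calc B * P⁻¹ = P⁻¹ * (P * B) * P⁻¹ := by rw [← Matrix.mul_assoc, Matrix.nonsing_inv_mul _ hu, one_mul]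
    _ = P⁻¹ * A := by rw [← e, ← Matrix.mul_assoc, Matrix.mul_nonsing_inv_cancel_right _ _ hu]

theorem Sim.trans {A B C : Matrix (Fin (n + 1)) (Fin (n + 1)) F} (h : Sim A B) (h' : Sim B C) :
    Sim A C := by
  obtain ⟨P, hP, e⟩ := h
  obtain ⟨Q, hQ, e'⟩ := h'
  refine ⟨P * Q, by rw [Matrix.det_mul]; exact mul_ne_zero hP hQ, ?_⟩
  rw [← Matrix.mul_assoc, e, Matrix.mul_assoc, e', Matrix.mul_assoc]

theorem sim_of_isUpper {U : Matrix (Fin (n + 1)) (Fin (n + 1)) F} (hU : IsUpper U) :
    Sim U (jordan (n + 1)) := exists_conj_upper hU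

/-- The product of the transvections above the diagonal along a list. -/
def chainProd (L : List (Fin n × F)) : Matrix.SpecialLinearGroup (Fin (n + 1)) F :=
  (L.map fun p => tr p.1.castSucc p.1.succ p.2).prod

theorem chainProd_spec : ∀ L : List (Fin n × F),
    (∀ i, (chainProd L).1 i i = 1) ∧ (∀ i j : Fin (n + 1), j < i → (chainProd L).1 i j = 0) ∧
      ∀ k : Fin n, (chainProd L).1 k.castSucc k.succ =
        (L.map fun p => if p.1 = k then p.2 else 0).sum := by
  intro L
  induction L with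
  | nil =>
    refine ⟨fun i => by simp [chainProd], fun i j h => by simp [chainProd, h.ne'], fun k => ?_⟩
    simp [chainProd, (Fin.castSucc_lt_succ (i := k)).ne]
  | cons p L ih =>
    obtain ⟨h1, h2, h3⟩ := ih
    have hne : p.1.castSucc ≠ p.1.succ := (Fin.castSucc_lt_succ (i := p.1)).ne
    have e : ∀ i j, (chainProd (p :: L)).1 i j =
        (chainProd L).1 i j + if i = p.1.castSucc then p.2 * (chainProd L).1 p.1.succ j else 0 := by
      intro i j
      rw [show chainProd (p :: L) = tr p.1.castSucc p.1.succ p.2 * chainProd L from by simp [chainProd],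
        Matrix.SpecialLinearGroup.coe_mul, tr_coe hne]
      by_cases hi : i = p.1.castSucc
      · subst hi
        rw [Matrix.transvection_mul_apply_same, if_pos rfl]
      · rw [Matrix.transvection_mul_apply_of_ne _ _ _ _ hi, if_neg hi, add_zero]
    refine ⟨fun i => ?_, fun i j hij => ?_, fun k => ?_⟩
    · rw [e, h1]
      split_ifs with hi
      · subst hi; rw [h2 _ _ Fin.castSucc_lt_succ, mul_zero, add_zero]
      · rw [add_zero]
    · rw [e, h2 i j hij]
      split_ifs with hi
      · subst hi; rw [h2 _ _ (hij.trans Fin.castSucc_lt_succ), mul_zero, add_zero]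
      · rw [add_zero]
    · rw [e, h3, List.map_cons, List.sum_cons, add_comm]
      congr 1
      by_cases hk : p.1 = k
      · subst hk; rw [if_pos rfl, if_pos rfl, h1, mul_one]
      · rw [if_neg hk, if_neg]
        exact fun h => hk (Fin.castSucc_injective _ h).symm

theorem isUpper_chainProd (L : List (Fin n × F)) (hnd : (L.map Prod.fst).Nodup)
    (hall : ∀ k, k ∈ L.map Prod.fst) (hne : ∀ p ∈ L, p.2 ≠ 0) :
    IsUpper (chainProd L : Matrix.SpecialLinearGroup (Fin (n + 1)) F).1 := by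
  obtain ⟨h1, h2, h3⟩ := chainProd_spec L
  refine ⟨h1, h2, fun i j hij => ?_⟩
  have hi : (i : ℕ) < n := by have := j.isLt; omega
  set k : Fin n := ⟨i, hi⟩
  rw [show i = k.castSucc from rfl, show j = k.succ from Fin.ext (by simp [k, hij]), h3]
  obtain ⟨p, hp, hpk⟩ := List.mem_map.1 (hall k)
  have : ∀ (M : List (Fin n × F)), (M.map Prod.fst).Nodup → p ∈ M →
      (M.map fun q => if q.1 = k then q.2 else 0).sum = p.2 := by
    intro M
    induction M with
    | nil => simp
    | cons q M ih =>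
      intro hM hpM
      rw [List.map_cons, List.nodup_cons] at hM
      rw [List.map_cons, List.sum_cons]
      rcases List.mem_cons.1 hpM with rfl | hmem
      · rw [if_pos hpk, List.sum_eq_zero, add_zero]
        intro x hx
        obtain ⟨q', hq', rfl⟩ := List.mem_map.1 hx
        rw [if_neg]
        exact fun h => hM.1 (List.mem_map.2 ⟨q', hq', h.trans hpk.symm⟩)
      · rw [if_neg, zero_add, ih hM.2 hmem]
        exact fun h => hM.1 (List.mem_map.2 ⟨p, hmem, hpk.trans h.symm⟩)
  rw [this L hnd hp]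
  exact hne p hp

/-- The element with all superdiagonal entries `1`. -/
def chainOne (n : ℕ) (F : Type*) [Field F] : Matrix.SpecialLinearGroup (Fin (n + 1)) F :=
  chainProd ((List.finRange n).map fun k => (k, (1 : F)))

theorem sim_chainOne : Sim (chainOne n F).1 (jordan (n + 1)) :=
  sim_of_isUpper (isUpper_chainProd _
    (by simpa [Function.comp_def] using List.nodup_finRange n)
    (fun k => by simp [Function.comp_def])
    (fun p hp => by obtain ⟨k, -, rfl⟩ := List.mem_map.1 hp; exact one_ne_zero))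

theorem chainProd_inv (L : List (Fin n × F)) :
    (chainProd L)⁻¹ = chainProd (L.reverse.map fun p => (p.1, -p.2)) := by
  induction L with
  | nil => simp [chainProd]
  | cons p L ih =>
    rw [show chainProd (p :: L) = tr p.1.castSucc p.1.succ p.2 * chainProd L from by simp [chainProd],
      _root_.mul_inv_rev, ih, ← tr_neg (Fin.castSucc_lt_succ (i := p.1)).ne]
    simp [chainProd]

theorem sim_chainOne_inv : Sim ((chainOne n F)⁻¹).1 (chainOne n F).1 := by
  refine (sim_of_isUpper ?_).trans sim_chainOne.symm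
  rw [chainOne, chainProd_inv]
  refine isUpper_chainProd _ ?_ ?_ ?_
  · simpa [Function.comp_def, List.map_reverse] using List.nodup_finRange n
  · intro k; simp [Function.comp_def, List.map_reverse]
  · intro p hp
    simp only [List.mem_map, List.mem_reverse, List.mem_finRange, true_and] at hp
    obtain ⟨q, ⟨k, rfl⟩, rfl⟩ := hp
    simp

/-- Upper unitriangular. -/
def upperSub (n : ℕ) (F : Type*) [Field F] [Finite F] :
    Subgroup (Matrix.SpecialLinearGroup (Fin (n + 1)) F) :=
  uniSub (f := { toFun := fun g => g.1, map_one' := rfl, map_mul' := fun _ _ => rfl })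
    fun i : Fin (n + 1) => -(i.val : ℤ)

/-- Lower unitriangular. -/
def lowerSub (n : ℕ) (F : Type*) [Field F] [Finite F] :
    Subgroup (Matrix.SpecialLinearGroup (Fin (n + 1)) F) :=
  uniSub (f := { toFun := fun g => g.1, map_one' := rfl, map_mul' := fun _ _ => rfl })
    fun i : Fin (n + 1) => (i.val : ℤ)

variable [Finite F]

theorem mem_upperSub {g : Matrix.SpecialLinearGroup (Fin (n + 1)) F} :
    g ∈ upperSub n F ↔ ∀ i j : Fin (n + 1), j ≤ i → g.1 i j = (1 : Matrix _ _ F) i j := by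
  rw [upperSub, mem_uniSub, uniTri_iff]
  exact ⟨fun h i j hij => h i j (by have : (j : ℕ) ≤ i := hij; omega),
    fun h i j hij => h i j (by show (j : ℕ) ≤ i; omega)⟩

theorem mem_lowerSub {g : Matrix.SpecialLinearGroup (Fin (n + 1)) F} :
    g ∈ lowerSub n F ↔ ∀ i j : Fin (n + 1), i ≤ j → g.1 i j = (1 : Matrix _ _ F) i j := by
  rw [lowerSub, mem_uniSub, uniTri_iff]
  exact ⟨fun h i j hij => h i j (by have : (i : ℕ) ≤ j := hij; omega),
    fun h i j hij => h i j (by show (i : ℕ) ≤ j; omega)⟩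

theorem tr_mem_upperSub {i j : Fin (n + 1)} (h : i < j) (c : F) : tr i j c ∈ upperSub n F := by
  refine mem_upperSub.2 fun a b hab => ?_
  rw [tr_coe h.ne, Matrix.transvection, Matrix.add_apply,
    Matrix.single_apply, if_neg, add_zero]
  rintro ⟨rfl, rfl⟩
  exact absurd h (not_lt.2 hab)

theorem tr_mem_lowerSub {i j : Fin (n + 1)} (h : j < i) (c : F) : tr i j c ∈ lowerSub n F := by
  refine mem_lowerSub.2 fun a b hab => ?_
  rw [tr_coe h.ne', Matrix.transvection, Matrix.add_apply,
    Matrix.single_apply, if_neg, add_zero]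
  rintro ⟨rfl, rfl⟩
  exact absurd h (not_lt.2 hab)

end Mat

/-! ### The embedded group -/

variable {D : ChevalleyDatum} {hW : GoodWeyl D}

/-- A copy of `SL_{n+1}` on the roots of exponent zero. -/
structure SLData (E : Grading hW) where
  n : ℕ
  two_le : 2 ≤ n
  R : Fin (n + 1) → Fin (n + 1) → Root D
  sg : Fin (n + 1) → Fin (n + 1) → ℤ
  sg_sq : ∀ i j, i ≠ j → sg i j * sg i j = 1
  zero : ∀ i j, i ≠ j → expo E.a (R i j) = 0
  pos : ∀ i j, i ≠ j → (i < j ↔ half D ≤ (R i j : ℕ))
  cover : ∀ r, expo E.a r = 0 → ∃ i j, i ≠ j ∧ R i j = r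
  inj : ∀ i j k l, i ≠ j → k ≠ l → R i j = R k l → i = k ∧ j = l
  rev_eq : ∀ i j, i ≠ j → R j i = (R i j).rev
  comm : ∀ i j k l, i ≠ j → k ≠ l → i ≠ l → j ≠ k → (i ≠ k ∨ j ≠ l) →
    D.commTerms (R i j) (R k l) = []
  rel : ∀ i j l, i ≠ j → j ≠ l → i ≠ l →
    D.commTerms (R i j) (R j l) = [((R i l : ℕ), sg i j * sg j l * sg i l, 1, 1)]
  node0 : Fin D.rank
  node0_eq : ∀ i j : Fin (n + 1), (i : ℕ) = 0 → (j : ℕ) = 1 → R i j = pRoot hW node0 ∧ sg i j = 1 ∧ sg j i = 1
  flip : ∀ k : Fin n, ∃ k' : Fin n, E.perm (R k.castSucc k.succ) = R k'.castSucc k'.succ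
  nu : Fin D.rank
  delta : Fin (n + 1) → ℤ
  delta_eq : ∀ i j, i ≠ j → D.cartan nu (R i j) = delta i - delta j
  coprime : IsCoprime (∑ i, delta i) ((n : ℤ) + 1)

namespace SLData

variable {E : Grading hW} (S : SLData E) {F : Type*} [Field F]

/-- The root elements, with signs. -/
def el (i j : Fin (S.n + 1)) (c : F) : GL D.Idx F := X hW.good (S.R i j) ((S.sg i j : F) * c)

theorem rev_ne {i j k l : Fin (S.n + 1)} (h : i ≠ j) (h' : k ≠ l) (hne : k ≠ j ∨ l ≠ i) :
    S.R k l ≠ (S.R i j).rev := by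
  rw [← S.rev_eq i j h]
  intro e
  obtain ⟨h1, h2⟩ := S.inj k l j i h' h.symm e
  exact hne.elim (fun f => f h1) (fun f => f h2)

theorem el_comm {i j k l : Fin (S.n + 1)} (hij : i ≠ j) (hkl : k ≠ l) (hil : i ≠ l) (hjk : j ≠ k)
    (a b : F) : Commute (S.el i j a) (S.el k l b) := by
  by_cases hsame : i = k ∧ j = l
  · obtain ⟨rfl, rfl⟩ := hsame
    show S.el i j a * S.el i j b = S.el i j b * S.el i j a
    rw [el, el, X_mul, X_mul, add_comm]
  have hne : S.R k l ≠ S.R i j := fun e => hsame (by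
    obtain ⟨h1, h2⟩ := S.inj k l i j hkl hij e
    exact ⟨h1.symm, h2.symm⟩)
  have e := X_comm hW.toGoodComm (S.R i j) (S.R k l) hne
    (S.rev_ne hij hkl (Or.inl hjk.symm)) ((S.sg i j : F) * a) ((S.sg k l : F) * b)
  rw [commRhs, S.comm i j k l hij hkl hil hjk (not_and_or.1 hsame)] at e
  show S.el i j a * S.el k l b = S.el k l b * S.el i j a
  rw [el, el, e]
  simp [wordGL]

theorem el_rel {i j l : Fin (S.n + 1)} (hij : i ≠ j) (hjl : j ≠ l) (hil : i ≠ l) (a b : F) :
    ⁅S.el i j a, S.el j l b⁆ = S.el i l (a * b) := by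
  have e := X_comm hW.toGoodComm (S.R i j) (S.R j l)
    (fun h => hij (S.inj j l i j hjl hij h).1.symm) (S.rev_ne hij hjl (Or.inr hil.symm))
    ((S.sg i j : F) * a) ((S.sg j l : F) * b)
  rw [commRhs, S.rel i j l hij hjl hil] at e
  simp only [List.map_cons, List.map_nil, wordGL, List.prod_cons, List.prod_nil, mul_one,
    dif_pos (S.R i l).isLt, pow_one, Fin.eta] at e
  have hs : ((S.sg i j : F) * S.sg i j) = 1 ∧ ((S.sg j l : F) * S.sg j l) = 1 := by
    refine ⟨?_, ?_⟩ <;> rw [← Int.cast_mul, S.sg_sq _ _ (by assumption), Int.cast_one]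
  have hC : X hW.good (S.R i l)
      (((S.sg i j * S.sg j l * S.sg i l : ℤ) : F) * -((S.sg i j : F) * a) * ((S.sg j l : F) * b)) =
      S.el i l (-(a * b)) := by
    rw [el]
    congr 1
    push_cast
    linear_combination -(a * b * S.sg i l * (S.sg j l : F) * S.sg j l) * hs.1 -
      (a * b * S.sg i l) * hs.2
  rw [hC] at e
  have c1 := S.el_comm (F := F) (i := i) (j := l) (k := i) (l := j) hil hij hij hil.symm
    (-(a * b)) a
  have c2 := S.el_comm (F := F) (i := i) (j := l) (k := j) (l := l) hil hjl hil hjl.symm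
    (-(a * b)) b
  have hinv : S.el i l (-(a * b)) = (S.el i l (a * b))⁻¹ := by
    rw [el, el, X_inv, mul_neg]
  change S.el j l b * S.el i j a = S.el i j a * S.el j l b * S.el i l (-(a * b)) at e
  rw [hinv] at e c1 c2
  have e' : S.el i j a * S.el j l b = S.el j l b * S.el i j a * S.el i l (a * b) := by
    rw [e]; group
  have d1 := (Commute.inv_left_iff.1 c1).inv_right.eq
  have d2 := (Commute.inv_left_iff.1 c2).inv_right.eq
  calc ⁅S.el i j a, S.el j l b⁆
      = S.el i j a * S.el j l b * (S.el i j a)⁻¹ * (S.el j l b)⁻¹ := commutatorElement_def _ _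
    _ = S.el j l b * S.el i j a * (S.el i l (a * b) * (S.el i j a)⁻¹) * (S.el j l b)⁻¹ := by
        rw [e']; group
    _ = S.el j l b * (S.el i l (a * b) * (S.el j l b)⁻¹) := by rw [d1]; group
    _ = S.el i l (a * b) := by rw [d2]; group

theorem exists_psi [Finite F] : ∃ ψ : Matrix.SpecialLinearGroup (Fin (S.n + 1)) F →* GL D.Idx F,
    ∀ i j, i ≠ j → ∀ c, ψ (tr i j c) = S.el i j c :=
  exists_hom_of_relations (by have := S.two_le; omega) S.el
    (fun i j _ s t => by rw [el, el, el, X_mul, mul_add])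
    (fun i j k l hij hkl hil hjk a b => S.el_comm hij hkl hil hjk a b)
    (fun i j k hij hjk hik a b => S.el_rel hij hjk hik a b)

/-- The homomorphism from `SL_{n+1}`. -/
noncomputable def psi [Finite F] : Matrix.SpecialLinearGroup (Fin (S.n + 1)) F →* GL D.Idx F :=
  (S.exists_psi (F := F)).choose

variable [Finite F]

theorem psi_tr {i j : Fin (S.n + 1)} (h : i ≠ j) (c : F) : S.psi (tr i j c) = S.el i j c :=
  (S.exists_psi (F := F)).choose_spec i j h c

theorem psi_mem (A : Matrix.SpecialLinearGroup (Fin (S.n + 1)) F) : S.psi A ∈ E.lev F := by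
  have h : (E.lev F).comap S.psi = ⊤ := eq_top_of_tr fun i j hij c => by
    rw [Subgroup.mem_comap, S.psi_tr hij]
    exact Subgroup.mem_sup_right (X_mem_rootGen _ ((E.zero_iff _).1 (S.zero i j hij)) _)
  have : A ∈ (E.lev F).comap S.psi := h ▸ Subgroup.mem_top A
  exact this

theorem psi_upper {w : GL D.Idx F}
    (hw : w ∈ rootGen hW.good F {r | expo E.a r = 0 ∧ half D ≤ (r : ℕ)}) :
    ∃ U ∈ upperSub S.n F, S.psi U = w := by
  refine Subgroup.mem_map.1 ((rootGen_le _ (K := (upperSub S.n F).map S.psi) fun r hr t => ?_) hw)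
  obtain ⟨i, j, hij, rfl⟩ := S.cover r hr.1
  refine ⟨tr i j ((S.sg i j : F) * t), tr_mem_upperSub ((S.pos i j hij).2 hr.2) _, ?_⟩
  rw [S.psi_tr hij, el, ← mul_assoc, ← Int.cast_mul, S.sg_sq i j hij, Int.cast_one, one_mul]

theorem psi_lower {w : GL D.Idx F}
    (hw : w ∈ rootGen hW.good F {r | expo E.a r = 0 ∧ (r : ℕ) < half D}) :
    ∃ L ∈ lowerSub S.n F, S.psi L = w := by
  refine Subgroup.mem_map.1 ((rootGen_le _ (K := (lowerSub S.n F).map S.psi) fun r hr t => ?_) hw)
  obtain ⟨i, j, hij, rfl⟩ := S.cover r hr.1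
  refine ⟨tr i j ((S.sg i j : F) * t), tr_mem_lowerSub ?_ _, ?_⟩
  · rcases lt_or_gt_of_ne hij with h | h
    · exact absurd ((S.pos i j hij).1 h) (by have h2 : (S.R i j : ℕ) < half D := hr.2; omega)
    · exact h
  · rw [S.psi_tr hij, el, ← mul_assoc, ← Int.cast_mul, S.sg_sq i j hij, Int.cast_one, one_mul]

/-- Conjugation by an invertible diagonal matrix. -/
def dconjFun {n : ℕ} (d : Fin n → Fˣ) (A : Matrix.SpecialLinearGroup (Fin n) F) :
    Matrix.SpecialLinearGroup (Fin n) F :=
  ⟨Matrix.diagonal (fun i => (d i : F)) * A.1 *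
      Matrix.diagonal (fun i => (((d i)⁻¹ : Fˣ) : F)), by
    rw [Matrix.det_mul, Matrix.det_mul, A.2, mul_one, Matrix.det_diagonal, Matrix.det_diagonal,
      ← Finset.prod_mul_distrib]
    simp⟩

theorem dconjFun_val {n : ℕ} (d : Fin n → Fˣ) (A : Matrix.SpecialLinearGroup (Fin n) F) :
    (dconjFun d A).1 = Matrix.diagonal (fun i => (d i : F)) * A.1 *
      Matrix.diagonal (fun i => (((d i)⁻¹ : Fˣ) : F)) := rfl

/-- The same, as a homomorphism. -/
def dconj {n : ℕ} (d : Fin n → Fˣ) :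
    Matrix.SpecialLinearGroup (Fin n) F →* Matrix.SpecialLinearGroup (Fin n) F where
  toFun := dconjFun d
  map_one' := Subtype.ext (by simp [dconjFun_val])
  map_mul' A B := Subtype.ext (by
    have h : Matrix.diagonal (fun i => (((d i)⁻¹ : Fˣ) : F)) * Matrix.diagonal (fun i => (d i : F)) = 1 := by
      rw [Matrix.diagonal_mul_diagonal]; simp
    simp only [dconjFun_val, Matrix.SpecialLinearGroup.coe_mul, Matrix.mul_assoc]
    rw [← Matrix.mul_assoc (Matrix.diagonal fun i => (((d i)⁻¹ : Fˣ) : F)) (Matrix.diagonal _), h,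
      one_mul])

theorem torC_conj_psi (z : Fˣ) (A : Matrix.SpecialLinearGroup (Fin (S.n + 1)) F) :
    torC D (Pi.mulSingle S.nu z) * S.psi A * (torC D (Pi.mulSingle S.nu z))⁻¹ =
      S.psi (dconj (fun i => z ^ S.delta i) A) := by
  let f : Matrix.SpecialLinearGroup (Fin (S.n + 1)) F →* GL D.Idx F :=
    (MulAut.conj (torC D (Pi.mulSingle S.nu z))).toMonoidHom.comp S.psi
  let g : Matrix.SpecialLinearGroup (Fin (S.n + 1)) F →* GL D.Idx F :=
    S.psi.comp (dconj fun i => z ^ S.delta i)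
  have h : MonoidHom.eqLocus f g = ⊤ := eq_top_of_tr fun i j hij c => by
    show torC D (Pi.mulSingle S.nu z) * S.psi (tr i j c) * (torC D (Pi.mulSingle S.nu z))⁻¹ =
      S.psi (dconj (fun i => z ^ S.delta i) (tr i j c))
    have e : dconj (fun i => z ^ S.delta i) (tr i j c) =
        tr i j (((z ^ (S.delta i - S.delta j) : Fˣ) : F) * c) := by
      apply Subtype.ext
      show Matrix.diagonal _ * (tr i j c).1 * Matrix.diagonal _ = _
      rw [tr_coe hij, tr_coe hij]
      ext a b
      rw [Matrix.mul_diagonal, Matrix.diagonal_mul]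
      simp only [Matrix.transvection, Matrix.add_apply, Matrix.one_apply, Matrix.single_apply]
      by_cases hab : i = a ∧ j = b
      · obtain ⟨rfl, rfl⟩ := hab
        rw [if_neg hij, if_pos ⟨rfl, rfl⟩, if_pos ⟨rfl, rfl⟩, zero_add, zero_add, zpow_sub,
          Units.val_mul]
        ring
      · rw [if_neg hab, if_neg hab, add_zero]
        by_cases h : a = b
        · subst h; simp [zpow_ne_zero]
        · simp [h]
    rw [e, S.psi_tr hij, S.psi_tr hij, el, el, torC_conj_X hW.good]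
    congr 1
    have hchi : chi (Pi.mulSingle S.nu z) (S.R i j) = z ^ (S.delta i - S.delta j) := by
      have := Gauss.chi_mulSingle_mul S.nu z (1 : Fin D.rank → Fˣ) (S.R i j)
      rw [mul_one] at this
      rw [this, S.delta_eq i j hij]
      simp [chi]
    rw [hchi]
    ring
  exact DFunLike.congr_fun (MonoidHom.eq_of_eqOn_top fun x _ => (h ▸ Subgroup.mem_top x :
    x ∈ MonoidHom.eqLocus f g)) A

/-- Similar elements are conjugate under the Levi subgroup. -/
theorem exists_conj_psi {A B : Matrix.SpecialLinearGroup (Fin (S.n + 1)) F}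
    (h : Sim A.1 B.1) : ∃ l ∈ E.lev F, l * S.psi B * l⁻¹ = S.psi A := by
  obtain ⟨P, hP, e⟩ := h
  obtain ⟨x, y, hxy⟩ := S.coprime
  set D0 : Fˣ := Units.mk0 _ hP
  set d : Fin (S.n + 1) → Fˣ := fun i => (D0 ^ x) ^ S.delta i with hd
  let Δ : Matrix (Fin (S.n + 1)) (Fin (S.n + 1)) F := Matrix.diagonal fun i => ((D0 ^ y * d i : Fˣ) : F)
  let Δ' : Matrix (Fin (S.n + 1)) (Fin (S.n + 1)) F :=
    Matrix.diagonal fun i => (((D0 ^ y * d i)⁻¹ : Fˣ) : F)
  have hΔ : Δ' * Δ = 1 := by
    simp only [Δ, Δ', Matrix.diagonal_mul_diagonal, Units.inv_mul]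
    exact Matrix.diagonal_one
  have hprod : ∏ i, (D0 ^ y * d i) = D0 := by
    have hsum : ∏ i, d i = D0 ^ (x * ∑ i, S.delta i) := by
      simp only [hd, ← zpow_mul, Finset.mul_sum]
      induction (Finset.univ : Finset (Fin (S.n + 1))) using Finset.induction_on with
      | empty => simp
      | insert k T hk ih => rw [Finset.sum_insert hk, Finset.prod_insert hk, zpow_add, ih]
    rw [Finset.prod_mul_distrib, hsum, Finset.prod_const, Finset.card_univ, Fintype.card_fin,
      ← zpow_natCast, ← zpow_mul, ← zpow_add]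
    push_cast
    rw [show y * ((S.n : ℤ) + 1) + x * ∑ i, S.delta i = 1 by rw [add_comm]; exact hxy, zpow_one]
  have hdet : (P * Δ').det = 1 := by
    rw [Matrix.det_mul, Matrix.det_diagonal, ← Units.coe_prod, Finset.prod_inv_distrib, hprod]
    exact Units.mul_inv D0
  set S1 : Matrix.SpecialLinearGroup (Fin (S.n + 1)) F := ⟨P * Δ', hdet⟩
  refine ⟨S.psi S1 * torC D (Pi.mulSingle S.nu (D0 ^ x)),
    mul_mem (S.psi_mem _) (Subgroup.mem_sup_left (by
      rw [diagonalSubgroup_eq_range hW]; exact ⟨_, rfl⟩)), ?_⟩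
  calc S.psi S1 * torC D (Pi.mulSingle S.nu (D0 ^ x)) * S.psi B *
        (S.psi S1 * torC D (Pi.mulSingle S.nu (D0 ^ x)))⁻¹
      = S.psi S1 * (torC D (Pi.mulSingle S.nu (D0 ^ x)) * S.psi B *
          (torC D (Pi.mulSingle S.nu (D0 ^ x)))⁻¹) * (S.psi S1)⁻¹ := by group
    _ = S.psi (S1 * dconj d B * S1⁻¹) := by rw [S.torC_conj_psi, map_mul, map_mul, map_inv]
    _ = S.psi A := by
        congr 1
        rw [mul_inv_eq_iff_eq_mul]
        apply Subtype.ext
        show P * Δ' * (Matrix.diagonal (fun i => (d i : F)) * B.1 *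
          Matrix.diagonal fun i => (((d i)⁻¹ : Fˣ) : F)) = A.1 * (P * Δ')
        have h1 : Δ' * Matrix.diagonal (fun i => (d i : F)) =
            Matrix.diagonal fun _ => ((D0 ^ y)⁻¹ : Fˣ).val := by
          simp only [Δ', Matrix.diagonal_mul_diagonal]
          congr 1
          funext i
          rw [← Units.val_mul]
          congr 1
          rw [mul_inv, mul_assoc, inv_mul_cancel, mul_one]
        have h2 : Δ' = Matrix.diagonal (fun _ => ((D0 ^ y)⁻¹ : Fˣ).val) *
            Matrix.diagonal fun i => (((d i)⁻¹ : Fˣ) : F) := by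
          simp only [Δ', Matrix.diagonal_mul_diagonal]
          congr 1
          funext i
          rw [← Units.val_mul]
          congr 1
          rw [mul_inv]
        have h3 : ∀ M : Matrix (Fin (S.n + 1)) (Fin (S.n + 1)) F,
            Matrix.diagonal (fun _ => ((D0 ^ y)⁻¹ : Fˣ).val) * M =
              M * Matrix.diagonal fun _ => ((D0 ^ y)⁻¹ : Fˣ).val := by
          intro M
          ext a b
          rw [Matrix.diagonal_mul, Matrix.mul_diagonal, mul_comm]
        calc P * Δ' * (Matrix.diagonal (fun i => (d i : F)) * B.1 *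
              Matrix.diagonal fun i => (((d i)⁻¹ : Fˣ) : F))
            = P * ((Δ' * Matrix.diagonal fun i => (d i : F)) * B.1) *
                Matrix.diagonal fun i => (((d i)⁻¹ : Fˣ) : F) := by simp only [Matrix.mul_assoc]
          _ = P * (B.1 * Δ') := by
              rw [h1, h3, h2]; simp only [Matrix.mul_assoc]
          _ = A.1 * (P * Δ') := by rw [← Matrix.mul_assoc, ← e, Matrix.mul_assoc]

/-- The unipotent element of the class. -/
noncomputable def uEl (F : Type*) [Field F] [Finite F] : GL D.Idx F := S.psi (chainOne S.n F)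

theorem uEl_pos : S.uEl F ∈ D.posUnipotent F := by
  rw [uEl, chainOne, chainProd, map_list_prod]
  refine Subgroup.list_prod_mem _ fun x hx => ?_
  simp only [List.map_map, List.mem_map, Function.comp_apply] at hx
  obtain ⟨k, -, rfl⟩ := hx
  rw [S.psi_tr (Fin.castSucc_lt_succ).ne]
  exact X_mem_pos _ ((S.pos _ _ (Fin.castSucc_lt_succ).ne).1 Fin.castSucc_lt_succ) _

theorem exists_flip : ∃ l ∈ E.lev F, l * (E.nEl F * S.uEl F * (E.nEl F)⁻¹) * l⁻¹ = S.uEl F := by
  classical
  choose f hf using S.flip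
  have hfinj : Function.Injective f := by
    intro a b h
    have := E.perm.injective ((hf a).trans (h ▸ (hf b).symm))
    exact Fin.castSucc_injective _ (S.inj _ _ _ _ (Fin.castSucc_lt_succ).ne (Fin.castSucc_lt_succ).ne this).1
  have hc : ∀ k : Fin S.n, ∃ d : F, d ≠ 0 ∧
      E.nEl F * S.psi (tr k.castSucc k.succ 1) * (E.nEl F)⁻¹ = S.psi (tr (f k).castSucc (f k).succ d) := by
    intro k
    have hk := (Fin.castSucc_lt_succ (i := k)).ne
    have hk' := (Fin.castSucc_lt_succ (i := f k)).ne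
    obtain ⟨c, hc⟩ := (E.monBy_nEl (F := F)).conj_X (S.R k.castSucc k.succ)
    refine ⟨(S.sg (f k).castSucc (f k).succ : F) * ((c : F) * (S.sg k.castSucc k.succ : F)), ?_, ?_⟩
    · refine mul_ne_zero ?_ (mul_ne_zero c.ne_zero ?_)
      · intro h0
        simpa [h0] using congrArg (fun z : ℤ => (z : F)) (S.sg_sq _ _ hk')
      · intro h0
        simpa [h0] using congrArg (fun z : ℤ => (z : F)) (S.sg_sq _ _ hk)
    · rw [S.psi_tr hk, el, mul_one, hc, S.psi_tr hk', el, ← mul_assoc, ← mul_assoc, ← Int.cast_mul,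
        S.sg_sq _ _ hk', Int.cast_one, one_mul, hf k]
  choose d hd0 hd using hc
  have hconj : ∀ L : List (Fin S.n),
      E.nEl F * S.psi (chainProd (L.map fun k => (k, (1 : F)))) * (E.nEl F)⁻¹ =
        S.psi (chainProd (L.map fun k => (f k, d k))) := by
    intro L
    induction L with
    | nil => simp [chainProd]
    | cons k L ih =>
      have := congrArg₂ (· * ·) (hd k) ih
      simp only [List.map_cons, chainProd, List.prod_cons, map_mul] at this ⊢
      rw [← this]
      group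
  have hU : IsUpper (chainProd ((List.finRange S.n).map fun k => (f k, d k))).1 := by
    refine isUpper_chainProd _ ?_ ?_ ?_
    · simpa [Function.comp_def] using (List.nodup_finRange S.n).map hfinj
    · intro k
      obtain ⟨j, rfl⟩ := (Finite.injective_iff_surjective.1 hfinj) k
      simp [Function.comp_def]
    · intro p hp
      obtain ⟨k, -, rfl⟩ := List.mem_map.1 hp
      exact hd0 k
  obtain ⟨l, hl, e⟩ := S.exists_conj_psi (F := F) (sim_chainOne.trans (sim_of_isUpper hU).symm)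
  exact ⟨l, hl, by rw [uEl, chainOne, hconj]; exact e⟩

/-- The diagonal element in the first two coordinates. -/
def hMid (z : Fˣ) : Matrix.SpecialLinearGroup (Fin (S.n + 1)) F :=
  let i : Fin (S.n + 1) := ⟨0, by omega⟩
  let j : Fin (S.n + 1) := ⟨1, by have := S.two_le; omega⟩
  (tr i j (z : F) * tr j i (-((z⁻¹ : Fˣ) : F)) * tr i j (z : F)) *
    (tr i j (-1) * tr j i 1 * tr i j (-1))

theorem psi_hMid (z : Fˣ) : S.psi (S.hMid z) = torC D (Pi.mulSingle S.node0 z) := by
  obtain ⟨hR, hs, hs'⟩ := S.node0_eq (⟨0, by omega⟩) (⟨1, by have := S.two_le; omega⟩) rfl rfl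
  rw [← Gauss.hT_pRoot_eq hW, ← hElt_eq hW, hMid]
  simp only [map_mul]
  rw [S.psi_tr (by simp [Fin.ext_iff]), S.psi_tr (by simp [Fin.ext_iff]),
    S.psi_tr (by simp [Fin.ext_iff]), S.psi_tr (by simp [Fin.ext_iff])]
  simp only [el]
  rw [S.rev_eq (⟨0, by omega⟩) (⟨1, by have := S.two_le; omega⟩) (by simp [Fin.ext_iff]), hR, hs, hs']
  simp [nElt]

theorem hMid_apply (z : Fˣ) (a b : Fin (S.n + 1)) :
    (S.hMid z).1 a b = if a = b then
      (if (a : ℕ) = 0 then (z : F) else if (a : ℕ) = 1 then ((z⁻¹ : Fˣ) : F) else 1) else 0 := by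
  set i : Fin (S.n + 1) := ⟨0, by omega⟩ with hi
  set j : Fin (S.n + 1) := ⟨1, by have := S.two_le; omega⟩ with hj
  have hij : i ≠ j := by simp [hi, hj, Fin.ext_iff]
  have h0 : ∀ c : Fin (S.n + 1), ((c : ℕ) = 0 ↔ c = i) ∧ ((c : ℕ) = 1 ↔ c = j) := fun c =>
    ⟨⟨fun h => Fin.ext h, fun h => by rw [h]⟩, fun h => Fin.ext h, fun h => by rw [h]⟩
  have key : (S.hMid z).1.mulVec (Pi.single b 1) = Pi.single b
      (if (b : ℕ) = 0 then (z : F) else if (b : ℕ) = 1 then ((z⁻¹ : Fˣ) : F) else 1) := by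
    show ((tr i j (z : F) * tr j i (-((z⁻¹ : Fˣ) : F)) * tr i j (z : F)) *
      (tr i j (-1) * tr j i 1 * tr i j (-1))).1.mulVec _ = _
    simp only [Matrix.SpecialLinearGroup.coe_mul, ← Matrix.mulVec_mulVec, tr_mulVec hij,
      tr_mulVec hij.symm, (h0 b).1, (h0 b).2]
    funext c
    by_cases hbi : b = i
    · subst hbi
      by_cases hci : c = i
      · subst hci; simp [hij, hij.symm]
      · by_cases hcj : c = j
        · subst hcj; simp [hij, hij.symm]
        · simp [hij, hij.symm, hci, hcj]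
    · by_cases hbj : b = j
      · subst hbj
        by_cases hci : c = i
        · subst hci; simp [hij, hij.symm]
        · by_cases hcj : c = j
          · subst hcj; simp [hij, hij.symm]
          · simp [hij, hij.symm, hci, hcj]
      · simp [hbi, hbj, Ne.symm hbi, Ne.symm hbj]
  have := congrFun key a
  rw [Matrix.mulVec_single_one] at this
  simp only [Matrix.col_apply, Pi.single_apply] at this
  rw [this]
  by_cases h : a = b
  · subst h; rfl
  · simp [h]

theorem exists_middle [Fintype F] (hK : 4 ≤ Cardinal.mk F) (z : Fˣ) (hz : (z : F) * z ≠ 1)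
    {v w : GL D.Idx F} (hv : v ∈ rootGen hW.good F {r | expo E.a r = 0 ∧ (r : ℕ) < half D})
    (hw : w ∈ rootGen hW.good F {r | expo E.a r = 0 ∧ half D ≤ (r : ℕ)}) :
    ∃ s ∈ E.lev F, ∃ s' ∈ E.lev F, v * torC D (Pi.mulSingle S.node0 z) * w =
      s * S.uEl F * s⁻¹ * (s' * S.uEl F * s'⁻¹) := by
  obtain ⟨L, hL, rfl⟩ := S.psi_lower hv
  obtain ⟨U, hU, rfl⟩ := S.psi_upper hw
  set A : Matrix.SpecialLinearGroup (Fin (S.n + 1)) F := L * S.hMid z * U with hA
  have hns : ¬ Scalar A.1 := by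
    rintro ⟨c, hc⟩
    set B : Matrix (Fin (S.n + 1)) (Fin (S.n + 1)) F := (S.hMid z).1 * U.1 with hB
    have hBv : ∀ a b, B a b = (if (a : ℕ) = 0 then (z : F) else
        if (a : ℕ) = 1 then ((z⁻¹ : Fˣ) : F) else 1) * U.1 a b := by
      intro a b
      rw [hB, Matrix.mul_apply, Finset.sum_eq_single a]
      · rw [hMid_apply, if_pos rfl]
      · intro k _ hk
        rw [hMid_apply, if_neg (Ne.symm hk), zero_mul]
      · simp
    have hAe : A.1 = L.1 * B := by
      rw [hA, Matrix.SpecialLinearGroup.coe_mul, Matrix.SpecialLinearGroup.coe_mul, Matrix.mul_assoc]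
    have hl := mem_lowerSub.1 hL
    have hu := mem_upperSub.1 hU
    have ent : ∀ a b, (L.1 * B) a b = c * (1 : Matrix (Fin (S.n + 1)) (Fin (S.n + 1)) F) a b := by
      intro a b
      rw [← hAe, hc]; simp
    set i : Fin (S.n + 1) := ⟨0, by omega⟩ with hi
    set j : Fin (S.n + 1) := ⟨1, by have := S.two_le; omega⟩ with hj
    have hrow : ∀ b, (L.1 * B) i b = B i b := by
      intro b
      rw [Matrix.mul_apply, Finset.sum_eq_single i]
      · rw [hl i i le_rfl, Matrix.one_apply_eq, one_mul]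
      · intro k _ hk
        rw [hl i k (Fin.mk_le_mk.2 (Nat.zero_le _)), Matrix.one_apply_ne (Ne.symm hk), zero_mul]
      · simp
    have e00 : c = (z : F) := by
      have := ent i i
      rw [hrow, hBv, hu i i le_rfl, Matrix.one_apply_eq, if_pos rfl, mul_one, mul_one] at this
      exact this.symm
    have hij : i ≠ j := by simp [hi, hj, Fin.ext_iff]
    have eij : U.1 i j = 0 := by
      have := ent i j
      rw [hrow, hBv, Matrix.one_apply_ne hij, mul_zero, if_pos rfl] at this
      simpa using this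
    have ejj : (L.1 * B) j j = ((z⁻¹ : Fˣ) : F) := by
      rw [Matrix.mul_apply, Finset.sum_eq_single j]
      · rw [hl j j le_rfl, Matrix.one_apply_eq, one_mul, hBv, hu j j le_rfl, Matrix.one_apply_eq]
        simp [hj]
      · intro k _ hk
        rcases lt_or_gt_of_ne hk with h | h
        · have : k = i := by
            apply Fin.ext
            have h' : (k : ℕ) < 1 := h
            simp only [hi]; omega
          rw [hBv, this, eij, mul_zero, mul_zero]
        · rw [hl j k h.le, Matrix.one_apply_ne (Ne.symm hk), zero_mul]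
      · simp
    have h2 := ent j j
    rw [ejj, e00, Matrix.one_apply_eq, mul_one] at h2
    apply hz
    nth_rewrite 1 [← h2]
    exact Units.inv_mul z
  obtain ⟨P, Q, hP, hQ, hPQ⟩ := product_of_two_conjugates hK S.n S.two_le A.1 hns A.2
  have hdet : ∀ P : Matrix (Fin (S.n + 1)) (Fin (S.n + 1)) F, P.det ≠ 0 →
      (P * jordan (S.n + 1) * P⁻¹).det = 1 := fun P hP => by
    rw [Matrix.det_conj ((Matrix.isUnit_iff_isUnit_det P).2 (isUnit_iff_ne_zero.2 hP)),
      det_upper (isUpper_jordan (S.n + 1))]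
  have hsim : ∀ P : Matrix (Fin (S.n + 1)) (Fin (S.n + 1)) F, P.det ≠ 0 →
      Sim (P * jordan (S.n + 1) * P⁻¹) (chainOne S.n F).1 := fun P hP =>
    Sim.trans ⟨P, hP, by rw [Matrix.nonsing_inv_mul_cancel_right _ _ (isUnit_iff_ne_zero.2 hP)]⟩
      sim_chainOne.symm
  obtain ⟨A1, hA1⟩ : ∃ A1 : Matrix.SpecialLinearGroup (Fin (S.n + 1)) F,
      A1.1 = P * jordan (S.n + 1) * P⁻¹ := ⟨⟨_, hdet P hP⟩, rfl⟩
  obtain ⟨A2, hA2⟩ : ∃ A2 : Matrix.SpecialLinearGroup (Fin (S.n + 1)) F,
      A2.1 = Q * jordan (S.n + 1) * Q⁻¹ := ⟨⟨_, hdet Q hQ⟩, rfl⟩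
  obtain ⟨s, hs, es⟩ := S.exists_conj_psi (A := A1) (B := chainOne S.n F) (hA1 ▸ hsim P hP)
  obtain ⟨s', hs', es'⟩ := S.exists_conj_psi (A := A2) (B := chainOne S.n F) (hA2 ▸ hsim Q hQ)
  refine ⟨s, hs, s', hs', ?_⟩
  rw [uEl, es, es', ← S.psi_hMid, ← map_mul, ← map_mul, ← hA, ← map_mul]
  refine congrArg _ (Subtype.ext ?_)
  rw [Matrix.SpecialLinearGroup.coe_mul A1 A2, hA1, hA2]
  exact hPQ

include S in
theorem hasClassSquare [Fintype F] (hF : 9 ≤ Fintype.card F) (hconn : Gauss.Connected D)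
    (hb : ∀ i : Fin D.rank, ∑ j : Fin D.rank, (D.cartan i (D.simple j)).natAbs ≤ 5) :
    HasClassSquare ↥(D.group F) := by
  obtain ⟨γ, hγ⟩ := exists_big_order hF
  refine E.hasClassSquare hF hconn hb (S.uEl F) S.uEl_pos (S.psi_mem _) ?_ S.exists_flip
    (Pi.mulSingle S.node0 γ) fun v hv w hw => S.exists_middle (four_le_mk hF) γ ?_ hv hw
  · obtain ⟨l, hl, e⟩ := S.exists_conj_psi (F := F) (A := (chainOne S.n F)⁻¹) sim_chainOne_inv
    exact ⟨l, hl, by rw [uEl, e, map_inv]⟩
  · simpa [pow_two] using pow_ne_one hγ (i := 2) (by omega) (by omega)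

end SLData

namespace Grading

variable (E : Grading hW) {F : Type*} [Field F]

theorem hasClassSquare_of_torus [Fintype F] (hF : 9 ≤ Fintype.card F) (hconn : Gauss.Connected D)
    (hb : ∀ i : Fin D.rank, ∑ j : Fin D.rank, (D.cartan i (D.simple j)).natAbs ≤ 5)
    (h0 : ∀ r : Root D, expo E.a r ≠ 0) : HasClassSquare ↥(D.group F) := by
  refine E.hasClassSquare hF hconn hb 1 (one_mem _) (one_mem _) ⟨1, one_mem _, by simp⟩
    ⟨1, one_mem _, by simp⟩ 1 fun v hv w hw => ⟨1, one_mem _, 1, one_mem _, ?_⟩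
  have : ∀ (S : Set (Root D)), (∀ r ∈ S, expo E.a r = 0) → ∀ x ∈ rootGen hW.good F S, x = 1 :=
    fun S hS x hx => (Subgroup.mem_bot).1 (rootGen_le _ (fun r hr _ => absurd (hS r hr) (h0 r)) hx)
  rw [this _ (fun r hr => hr.1) v hv, this _ (fun r hr => hr.1) w hw,
    show torC D (1 : Fin D.rank → Fˣ) = 1 from (torHom D F).map_one]
  simp

end Grading

end CfsgLib.ClassSquare.Except
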