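import Cfsg.Agent.Chevalley.RankOne
import Cfsg.Agent.ChevTorus.Generators
import Cfsg.Agent.ChevSimple.Basic

/-!
# The cover `G = U V H U` of a Chevalley group

`U_i`, `V_i` are the unipotent subgroups omitting one fundamental root; the rank one subgroup of
that root normalises both.
-/

set_option autoImplicit false

namespace CfsgLib.ClassSquare.Gauss

open Cfsg.Lie CfsgLib.Chevalley CfsgLib.ChevSimple
open scoped MatrixGroups

variable {D : ChevalleyDatum} {F : Type*} [Field F]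

/-- The negative roots other than `-α_i`. -/
def negCompl (hW : GoodWeyl D) (i : Fin D.rank) : Set (Root D) :=
  {r | (r : ℕ) < half D ∧ r ≠ (pRoot hW i).rev}

theorem rootGen_negCompl_le (hW : GoodWeyl D) (i : Fin D.rank) :
    rootGen hW.good F (negCompl hW i) ≤ D.negUnipotent F :=
  negUnipotent_eq_rootGen (F := F) hW.good ▸ rootGen_mono hW.good fun _ hr => hr.1

theorem nR_conj_negCompl (hW : GoodWeyl D) (i : Fin D.rank) {v : GL D.Idx F}
    (hv : v ∈ rootGen hW.good F (negCompl hW i)) :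
    nR hW i * v * (nR hW i)⁻¹ ∈ rootGen hW.good F (negCompl hW i) ∧
      (nR hW i)⁻¹ * v * nR hW i ∈ rootGen hW.good F (negCompl hW i) := by
  have hh := hW.good.two_half
  have hmap : ∀ r ∈ negCompl hW i, wPerm hW i r ∈ negCompl hW i := by
    intro r hr
    have hr' : half D ≤ (r.rev : ℕ) := by have := hr.1; rw [Fin.val_rev]; omega
    have h := hW.wPerm_pos i hr' (fun e => hr.2 (by rw [← e, Fin.rev_rev]))
    rw [hW.wPerm_rev] at h
    refine ⟨?_, fun e => h.2 (by rw [e, Fin.rev_rev])⟩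
    have := h.1
    rw [Fin.val_rev] at this
    omega
  refine ⟨(monBy_nR hW i).conj_rootGen hmap hv, ?_⟩
  have := (monBy_nR (F := F) hW i).inv.conj_rootGen (T := negCompl hW i) (fun r hr => ?_) hv
  · rwa [inv_inv] at this
  · rw [show (wPerm hW i)⁻¹ r = wPerm hW i r from (wPerm hW i).injective
      (((wPerm hW i).apply_symm_apply r).trans (hW.wPerm_wPerm i r).symm)]
    exact hmap r hr

theorem Y_conj_negCompl (hW : GoodWeyl D) (i : Fin D.rank) (w : F) {v : GL D.Idx F}
    (hv : v ∈ rootGen hW.good F (negCompl hW i)) :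
    X hW.good (pRoot hW i).rev w * v * (X hW.good (pRoot hW i).rev w)⁻¹ ∈
      rootGen hW.good F (negCompl hW i) := by
  set a := (pRoot hW i).rev
  have ha : half D ≤ key true a := by
    simp only [a, key, if_true, Fin.rev_rev]; exact pRoot_pos hW i
  have hC : GoodComm D := hW.toGoodComm
  refine (rootGen_le hW.good (K := (rootGen hW.good F (negCompl hW i)).comap
    (MulAut.conj (X hW.good a w)).toMonoidHom) fun s hs z => ?_) hv
  show X hC.good a w * X hC.good s z * (X hC.good a w)⁻¹ ∈ rootGen hW.good F (negCompl hW i)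
  have hs' : half D ≤ key true s := (key_true_iff hW.good s).2 hs.1
  have hsa : a ≠ s.rev := hC.good.rev_ne_of_key (b := true) hs' ha
  rw [X_comm hC s a hs.2.symm hsa z w,
    show ∀ p q W : GL D.Idx F, p * q * W * q⁻¹ = p * (q * W * q⁻¹) from fun p q W => by group]
  refine mul_mem (X_mem_rootGen _ hs _) ?_
  have hmem : X hC.good a w * commRhs hC.good s a z w * (X hC.good a w)⁻¹ ∈
      uGe hC.good F true (key true a + 1) :=
    conj_mem_uGe hC ha w _ (commRhs_mem_uGe (b := true) hC hs' ha (Or.inr le_rfl) z w)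
  refine (Subgroup.closure_le _).2 ?_ hmem
  rintro _ ⟨r, hr, hra, t, rfl⟩
  exact X_mem_rootGen _ (S := negCompl hW i) (show (r : ℕ) < half D ∧ r ≠ a from
    ⟨(key_true_iff hW.good r).1 hr, fun e => by subst e; omega⟩) t

theorem exists_split_neg (hW : GoodWeyl D) (i : Fin D.rank) {v : GL D.Idx F}
    (hv : v ∈ D.negUnipotent F) :
    ∃ w ∈ rootGen hW.good F (negCompl hW i), ∃ t : F, v = w * X hW.good (pRoot hW i).rev t := by
  rw [negUnipotent_eq_rootGen hW.good] at hv
  induction hv using Subgroup.closure_induction with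
  | mem x hx =>
    obtain ⟨r, hr, t, rfl⟩ := hx
    by_cases h : r = (pRoot hW i).rev
    · subst h; exact ⟨1, one_mem _, t, by rw [one_mul]⟩
    · exact ⟨_, X_mem_rootGen _ (S := negCompl hW i) (show (r : ℕ) < half D ∧ _ from ⟨hr, h⟩) t, 0,
        by rw [X_zero, mul_one]⟩
  | one => exact ⟨1, one_mem _, 0, by rw [X_zero, mul_one]⟩
  | mul x y _ _ hx hy =>
    obtain ⟨w, hw, t, rfl⟩ := hx
    obtain ⟨w', hw', t', rfl⟩ := hy
    refine ⟨w * (X hW.good (pRoot hW i).rev t * w' * (X hW.good (pRoot hW i).rev t)⁻¹),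
      mul_mem hw (Y_conj_negCompl hW i t hw'), t + t', ?_⟩
    rw [← X_mul]
    group
  | inv x _ hx =>
    obtain ⟨w, hw, t, rfl⟩ := hx
    refine ⟨_, Y_conj_negCompl hW i (-t) (inv_mem hw), -t, ?_⟩
    rw [mul_inv_rev, X_inv]
    group

theorem exists_split_neg' (hW : GoodWeyl D) (i : Fin D.rank) {v : GL D.Idx F}
    (hv : v ∈ D.negUnipotent F) :
    ∃ t : F, ∃ w ∈ rootGen hW.good F (negCompl hW i), v = X hW.good (pRoot hW i).rev t * w := by
  obtain ⟨w, hw, t, e⟩ := exists_split_neg hW i (inv_mem hv)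
  exact ⟨-t, w⁻¹, inv_mem hw, by rw [← inv_inv v, e, mul_inv_rev, X_inv]⟩

/-! ### The rank one subgroups -/

/-- The homomorphism of the `i`-th rank one subgroup. -/
noncomputable abbrev phi (hW : GoodWeyl D) (i : Fin D.rank) :
    Matrix.SpecialLinearGroup (Fin 2) F →* GL D.Idx F := (rankOneAt hW F i).hom

theorem phi_u (hW : GoodWeyl D) (i : Fin D.rank) (t : F) :
    phi hW i (RankOneRel.uMat F t) = X hW.good (pRoot hW i) t := (rankOneAt hW F i).map_uMat t

theorem phi_v (hW : GoodWeyl D) (i : Fin D.rank) (t : F) :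
    phi hW i (RankOneRel.vMat F t) = X hW.good (pRoot hW i).rev t := (rankOneAt hW F i).map_vMat t

theorem phi_w (hW : GoodWeyl D) (i : Fin D.rank) :
    phi hW i (RankOneRel.wMat F) = nR hW i := (rankOneAt hW F i).map_wMat

/-- The diagonal element of `SL₂`. -/
def dMat (z : Fˣ) : Matrix.SpecialLinearGroup (Fin 2) F :=
  ⟨!![(z : F), 0; 0, ((z⁻¹ : Fˣ) : F)], by simp [Matrix.det_fin_two]⟩

theorem dMat_val (z : Fˣ) : (dMat z).1 = !![(z : F), 0; 0, ((z⁻¹ : Fˣ) : F)] := rfl

theorem hT_pRoot_eq (hW : GoodWeyl D) (i : Fin D.rank) (z : Fˣ) :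
    hT F (pRoot hW i) z = torC D (Pi.mulSingle i z) := by
  rw [hT_eq_torC]
  congr 1
  funext k
  rw [show ((pRoot hW i : Root D) : ℕ) = D.simple i from rfl,
    hW.good.coroot_simple i.isLt k.isLt]
  by_cases h : i = k
  · subst h; simp
  · rw [if_neg (fun e => h (Fin.ext e)), zpow_zero, Pi.mulSingle_eq_of_ne (Ne.symm h)]

theorem phi_d (hW : GoodWeyl D) (i : Fin D.rank) (z : Fˣ) :
    phi hW i (dMat z) = torC D (Pi.mulSingle i z) := by
  rw [← hT_pRoot_eq hW]
  show (rankOneAt hW F i).map (dMat z) = _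
  rw [(rankOneAt hW F i).map_lower _ (by simp [dMat]) z (by simp [dMat])]
  simp [dMat, RankOneRel.x_zero]
  rfl

theorem phi_mem_group (hW : GoodWeyl D) (i : Fin D.rank) (k : Matrix.SpecialLinearGroup (Fin 2) F) :
    phi hW i k ∈ D.group F := by
  have : k ∈ ((D.group F).toSubmonoid.comap (phi hW i)) := by
    refine (show Submonoid.closure _ ≤ _ from Submonoid.closure_le.2 ?_)
      (RankOneRel.closure_eq_top (F := F) ▸ Submonoid.mem_top k)
    rintro x (⟨t, rfl⟩ | hx)
    · show phi hW i _ ∈ D.group F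
      rw [phi_u]; exact X_mem_group _ _ _
    · rw [Set.mem_singleton_iff.1 hx]
      show phi hW i _ ∈ D.group F
      rw [phi_w]; exact nR_mem_group hW i
  exact this

theorem phi_conj (hW : GoodWeyl D) (i : Fin D.rank) (k : Matrix.SpecialLinearGroup (Fin 2) F) :
    (∀ u ∈ rootGen hW.good F (posCompl hW i),
      phi hW i k * u * (phi hW i k)⁻¹ ∈ rootGen hW.good F (posCompl hW i)) ∧
    ∀ v ∈ rootGen hW.good F (negCompl hW i),
      phi hW i k * v * (phi hW i k)⁻¹ ∈ rootGen hW.good F (negCompl hW i) := by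
  let P : GL D.Idx F → Prop := fun g =>
    (∀ u ∈ rootGen hW.good F (posCompl hW i), g * u * g⁻¹ ∈ rootGen hW.good F (posCompl hW i)) ∧
      ∀ v ∈ rootGen hW.good F (negCompl hW i), g * v * g⁻¹ ∈ rootGen hW.good F (negCompl hW i)
  have hmul : ∀ a b, P a → P b → P (a * b) := fun a b ha hb =>
    ⟨fun u hu => by
      have := ha.1 _ (hb.1 u hu)
      rwa [show a * (b * u * b⁻¹) * a⁻¹ = a * b * u * (a * b)⁻¹ by group] at this,
    fun u hu => by
      have := ha.2 _ (hb.2 u hu)
      rwa [show a * (b * u * b⁻¹) * a⁻¹ = a * b * u * (a * b)⁻¹ by group] at this⟩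
  have hn : P (nR hW i) :=
    ⟨fun u hu => nR_conj_posCompl hW i hu, fun v hv => (nR_conj_negCompl hW i hv).1⟩
  let K : Submonoid (Matrix.SpecialLinearGroup (Fin 2) F) :=
    { carrier := {g | P (phi hW i g)}
      one_mem' := by simp [P]
      mul_mem' := fun {a b} ha hb => by
        show P _
        rw [map_mul]; exact hmul _ _ ha hb }
  suffices k ∈ K from this
  refine (show Submonoid.closure _ ≤ K from Submonoid.closure_le.2 ?_)
    (RankOneRel.closure_eq_top (F := F) ▸ Submonoid.mem_top k)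
  rintro x (⟨t, rfl⟩ | hx)
  · show P (phi hW i _)
    rw [phi_u]
    refine ⟨fun u hu => X_conj_posCompl hW i t hu, fun v hv => ?_⟩
    have e : X hW.good (pRoot hW i) t =
        (nR hW i)⁻¹ * X hW.good (pRoot hW i).rev (-t) * nR hW i := by
      have h : nR hW i * X hW.good (pRoot hW i) t * (nR hW i)⁻¹ =
          X hW.good (pRoot hW i).rev (-t) := (rankOneAt hW F i).n_x t
      rw [← h]
      group
    have := (nR_conj_negCompl hW i (Y_conj_negCompl hW i (-t) (nR_conj_negCompl hW i hv).1)).2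
    rw [e]
    simpa [mul_assoc] using this
  · rw [Set.mem_singleton_iff.1 hx]
    show P (phi hW i _)
    rw [phi_w]; exact hn

theorem phi_mul_pos (hW : GoodWeyl D) (i : Fin D.rank) (k : Matrix.SpecialLinearGroup (Fin 2) F)
    {u : GL D.Idx F} (hu : u ∈ rootGen hW.good F (posCompl hW i)) :
    ∃ u' ∈ rootGen hW.good F (posCompl hW i), phi hW i k * u = u' * phi hW i k :=
  ⟨_, (phi_conj hW i k).1 u hu, by group⟩

theorem phi_mul_neg (hW : GoodWeyl D) (i : Fin D.rank) (k : Matrix.SpecialLinearGroup (Fin 2) F)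
    {v : GL D.Idx F} (hv : v ∈ rootGen hW.good F (negCompl hW i)) :
    ∃ v' ∈ rootGen hW.good F (negCompl hW i), phi hW i k * v = v' * phi hW i k :=
  ⟨_, (phi_conj hW i k).2 v hv, by group⟩

theorem neg_mul_phi (hW : GoodWeyl D) (i : Fin D.rank) (k : Matrix.SpecialLinearGroup (Fin 2) F)
    {v : GL D.Idx F} (hv : v ∈ rootGen hW.good F (negCompl hW i)) :
    ∃ v' ∈ rootGen hW.good F (negCompl hW i), v * phi hW i k = phi hW i k * v' :=
  ⟨_, (phi_conj hW i k⁻¹).2 v hv, by rw [map_inv]; group⟩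

/-! ### The cover -/

theorem sl2_uvdu (g : Matrix.SpecialLinearGroup (Fin 2) F) :
    ∃ (p d e : F) (z : Fˣ),
      g = RankOneRel.uMat F p * RankOneRel.vMat F d * dMat z * RankOneRel.uMat F e := by
  have hdet := RankOneRel.det_eq g
  obtain ⟨p, hp⟩ : ∃ p : F, g.1 0 0 - p * g.1 1 0 ≠ 0 := by
    by_cases ha : g.1 0 0 = 0
    · refine ⟨1, fun h => ?_⟩
      rw [ha, one_mul, zero_sub, neg_eq_zero] at h
      simp [ha, h] at hdet
    · exact ⟨0, by simpa using ha⟩
  refine ⟨p, g.1 1 0 / (g.1 0 0 - p * g.1 1 0), (g.1 0 1 - p * g.1 1 1) / (g.1 0 0 - p * g.1 1 0),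
    Units.mk0 _ hp, Subtype.ext (Matrix.ext fun a b => ?_)⟩
  fin_cases a <;> fin_cases b <;>
    simp [Matrix.SpecialLinearGroup.coe_mul, RankOneRel.uMat_val, RankOneRel.vMat_val, dMat_val, Matrix.mul_apply, Fin.sum_univ_two] <;>
    generalize hA : g.1 0 0 - p * g.1 1 0 = A at hp ⊢ <;>
    field_simp <;> subst hA <;>
    first
      | ring1
      | linear_combination p * hdet
      | linear_combination hdet

/-- `g = u v h u'`. -/
def InCover (D : ChevalleyDatum) (g : GL D.Idx F) : Prop :=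
  ∃ u ∈ D.posUnipotent F, ∃ v ∈ D.negUnipotent F, ∃ c : Fin D.rank → Fˣ, ∃ u' ∈ D.posUnipotent F,
    g = u * v * torC D c * u'

theorem torC_mul_X (hW : GoodWeyl D) (c : Fin D.rank → Fˣ) (r : Root D) (t : F) :
    torC D c * X hW.good r t = X hW.good r ((chi c r : F) * t) * torC D c := by
  rw [← torC_conj_X hW.good c r t, inv_mul_cancel_right]

theorem X_mul_torC (hW : GoodWeyl D) (c : Fin D.rank → Fˣ) (r : Root D) (t : F) :
    X hW.good r t * torC D c = torC D c * X hW.good r (((chi c r)⁻¹ : Fˣ) * t) := by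
  rw [torC_mul_X hW, ← mul_assoc, ← Units.val_mul, mul_inv_cancel, Units.val_one, one_mul]

theorem InCover.phi_mul (hW : GoodWeyl D) (i : Fin D.rank) (k : Matrix.SpecialLinearGroup (Fin 2) F)
    {g : GL D.Idx F} (hg : InCover D g) : InCover D (phi hW i k * g) := by
  obtain ⟨u, hu, v, hv, c, u', hu', rfl⟩ := hg
  obtain ⟨t, u₁, hu₁, rfl⟩ := exists_split_pos' hW i hu
  obtain ⟨b, v₁, hv₁, rfl⟩ := exists_split_neg' hW i hv
  obtain ⟨u₂, hu₂, e₁⟩ := phi_mul_pos hW i (k * RankOneRel.uMat F t) hu₁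
  obtain ⟨v₂, hv₂, e₂⟩ := phi_mul_neg hW i (k * RankOneRel.uMat F t * RankOneRel.vMat F b) hv₁
  obtain ⟨p, d, e, z, e₃⟩ := sl2_uvdu (k * RankOneRel.uMat F t * RankOneRel.vMat F b)
  obtain ⟨v₃, hv₃, e₄⟩ := neg_mul_phi hW i (RankOneRel.uMat F p) hv₂
  refine ⟨u₂ * X hW.good (pRoot hW i) p, mul_mem (rootGen_posCompl_le hW i hu₂)
      (X_mem_pos _ (pRoot_pos hW i) _), v₃ * X hW.good (pRoot hW i).rev d,
    mul_mem (rootGen_negCompl_le hW i hv₃) (X_mem_neg _ (pRoot_rev_neg hW i) _),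
    Pi.mulSingle i z * c, X hW.good (pRoot hW i) (((chi c (pRoot hW i))⁻¹ : Fˣ) * e) * u',
    mul_mem (X_mem_pos _ (pRoot_pos hW i) _) hu', ?_⟩
  have e₁' : phi hW i k * X hW.good (pRoot hW i) t * u₁ =
      u₂ * phi hW i (k * RankOneRel.uMat F t) := by
    rw [← phi_u hW i t, ← map_mul, e₁]
  calc phi hW i k * (X hW.good (pRoot hW i) t * u₁ * (X hW.good (pRoot hW i).rev b * v₁) *
          torC D c * u')
      = (phi hW i k * X hW.good (pRoot hW i) t * u₁) * X hW.good (pRoot hW i).rev b * v₁ *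
          (torC D c * u') := by group
    _ = u₂ * (phi hW i (k * RankOneRel.uMat F t * RankOneRel.vMat F b) * v₁) * (torC D c * u') := by
        rw [e₁', ← phi_v hW i b, map_mul (phi hW i) (k * _)]; group
    _ = u₂ * (v₂ * phi hW i (RankOneRel.uMat F p)) *
          (X hW.good (pRoot hW i).rev d * torC D (Pi.mulSingle i z)) *
          (X hW.good (pRoot hW i) e * torC D c) * u' := by
        rw [e₂, e₃, map_mul, map_mul, map_mul, phi_v, phi_d, phi_u hW i e]; group
    _ = u₂ * X hW.good (pRoot hW i) p * (v₃ * X hW.good (pRoot hW i).rev d) *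
          torC D (Pi.mulSingle i z * c) *
          (X hW.good (pRoot hW i) (((chi c (pRoot hW i))⁻¹ : Fˣ) * e) * u') := by
        rw [e₄, phi_u, X_mul_torC hW c (pRoot hW i) e, ← torC_mul]; group

theorem inCover (hW : GoodWeyl D) {g : GL D.Idx F} (hg : g ∈ D.group F) : InCover D g := by
  let K : Subgroup (GL D.Idx F) :=
    { carrier := {x | (∀ y, InCover D y → InCover D (x * y)) ∧ ∀ y, InCover D y → InCover D (x⁻¹ * y)}
      one_mem' := by simp
      mul_mem' := fun {a b} ha hb =>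
        ⟨fun y hy => by rw [mul_assoc]; exact ha.1 _ (hb.1 y hy),
          fun y hy => by rw [mul_inv_rev, mul_assoc]; exact hb.2 _ (ha.2 y hy)⟩
      inv_mem' := fun {a} ha => ⟨ha.2, by simpa using ha.1⟩ }
  have hK : D.group F ≤ K := by
    refine ChevTorus.group_le_of_simple hW (fun i t => ?_) (fun i t => ?_)
    · rw [← phi_u hW i t]
      exact ⟨fun y hy => hy.phi_mul hW i _, fun y hy => by rw [← map_inv]; exact hy.phi_mul hW i _⟩
    · rw [← phi_v hW i t]
      exact ⟨fun y hy => hy.phi_mul hW i _, fun y hy => by rw [← map_inv]; exact hy.phi_mul hW i _⟩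
  have h1 : InCover D (1 : GL D.Idx F) :=
    ⟨1, one_mem _, 1, one_mem _, 1, 1, one_mem _, by
      rw [show torC D (1 : Fin D.rank → Fˣ) = 1 from (torHom D F).map_one]; simp⟩
  simpa using (hK hg).1 1 h1

end CfsgLib.ClassSquare.Gauss
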