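import Cfsg.Agent.ClassSquare.Levi
import Cfsg.Agent.ClassSquare.Field

/-!
# `PSL_n` is the square of a class
-/

set_option autoImplicit false
set_option linter.unusedSectionVars false
set_option linter.style.haveILetI false

namespace CfsgLib.ClassSquare

open Matrix CfsgLib.SourourProduct

variable {F : Type*} [Field F] [Fintype F]

theorem emb_diagonal {k l : ℕ} (a : Fin k → F) (b : Fin (l + 1) → F) :
    emb (Matrix.diagonal a) (Matrix.diagonal b) = Matrix.diagonal (Fin.append a b) := by
  rw [emb, Matrix.fromBlocks_diagonal, Matrix.submatrix_diagonal_equiv]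
  refine congrArg _ (funext fun i => ?_)
  induction i using Fin.addCases <;> simp

theorem center_of_scalar {n : ℕ} (g : Matrix.SpecialLinearGroup (Fin n) F)
    (h : Scalar (g : Matrix (Fin n) (Fin n) F)) : g ∈ Subgroup.center (Matrix.SpecialLinearGroup (Fin n) F) := by
  obtain ⟨c, hc⟩ := h
  refine Subgroup.mem_center_iff.2 fun x => Subtype.ext ?_
  simp only [Matrix.SpecialLinearGroup.coe_mul, hc]
  simp

variable {k : ℕ}

/-- The levels give the value of the diagonal element. -/
def slVal (γ : Fˣ) (r : ℤ) : F := if r = 0 then 1 else if r = 1 then (γ : F) else ((γ⁻¹ : Fˣ) : F)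

theorem slVal_inj {γ : Fˣ} (hγ : 8 ≤ orderOf γ) {r s : ℤ} (hr : 0 ≤ r ∧ r ≤ 2) (hs : 0 ≤ s ∧ s ≤ 2)
    (hrs : r ≠ s) : slVal γ r ≠ slVal γ s := by
  have h1 : (γ : F) ≠ 1 := by simpa using pow_ne_one hγ (i := 1) (by omega) (by omega)
  have h2 : (γ : F) * γ ≠ 1 := by simpa [pow_two] using pow_ne_one hγ (i := 2) (by omega) (by omega)
  have h3 : ((γ⁻¹ : Fˣ) : F) ≠ 1 := by simpa using h1
  have h4 : (γ : F) ≠ ((γ⁻¹ : Fˣ) : F) := fun e => h2 (by
    nth_rewrite 2 [e]
    exact Units.mul_inv γ)
  have h4' : (γ : F) ≠ (γ : F)⁻¹ := by simpa using h4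
  obtain ⟨hr0, hr2⟩ := hr
  obtain ⟨hs0, hs2⟩ := hs
  interval_cases r <;> interval_cases s <;>
    simp [slVal, h1, h1.symm, h4', h4'.symm] at hrs ⊢

theorem hasClassSquare_psl (hF : 9 ≤ Fintype.card F) (k : ℕ) :
    HasClassSquare (Matrix.ProjectiveSpecialLinearGroup (Fin (k + 2)) F) := by
  classical
  obtain ⟨p, hp⟩ := CharP.exists F
  haveI : Fact p.Prime := ⟨CharP.char_is_prime F p⟩
  obtain ⟨γ, hγ⟩ := exists_big_order hF
  let D : Matrix (Fin 2) (Fin 2) F := Matrix.diagonal ![(γ : F), ((γ⁻¹ : Fˣ) : F)]
  let D' : Matrix (Fin 2) (Fin 2) F := Matrix.diagonal ![((γ⁻¹ : Fˣ) : F), (γ : F)]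
  let W : Matrix (Fin 2) (Fin 2) F := !![0, 1; -1, 0]
  have hτdet : (emb (1 : Matrix (Fin k) (Fin k) F) D).det = 1 := by
    rw [det_emb, Matrix.det_one, one_mul, Matrix.det_diagonal, Fin.prod_univ_two]
    exact Units.mul_inv γ
  have hwdet : (emb (1 : Matrix (Fin k) (Fin k) F) W).det = 1 := by
    rw [det_emb, Matrix.det_one, one_mul, Matrix.det_fin_two]
    simp [W]
  let τ : Matrix.SpecialLinearGroup (Fin (k + (1 + 1))) F := ⟨_, hτdet⟩
  let w : Matrix.SpecialLinearGroup (Fin (k + (1 + 1))) F := ⟨_, hwdet⟩
  let d : Fin (k + (1 + 1)) → F := fun i => slVal γ (rk k 1 i)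
  have hd : (τ : Matrix (Fin (k + (1 + 1))) (Fin (k + (1 + 1))) F) = Matrix.diagonal d := by
    show emb 1 D = _
    rw [← Matrix.diagonal_one, emb_diagonal]
    refine congrArg _ (funext fun i => ?_)
    induction i using Fin.addCases with
    | left i => simp [d, rk_castAdd, slVal]
    | right i => fin_cases i <;> simp [d, rk_natAdd, slVal]
  have hbnd : ∀ i : Fin (k + (1 + 1)), 0 ≤ rk k 1 i ∧ rk k 1 i ≤ 2 := fun i =>
    ⟨rk_nonneg i, by have := rk_le_last (k := k) (l := 1) i; omega⟩
  have hreal : IsConj (τ * blockJSL k 1) (τ⁻¹ * blockJSL k 1) := by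
    have hinv : τ⁻¹ = ⟨emb (1 : Matrix (Fin k) (Fin k) F) D', by
        rw [det_emb, Matrix.det_one, one_mul, Matrix.det_diagonal, Fin.prod_univ_two]
        exact Units.inv_mul γ⟩ := by
      refine inv_eq_of_mul_eq_one_right (Subtype.ext ?_)
      show emb 1 D * emb 1 D' = 1
      rw [emb_mul, mul_one, Matrix.diagonal_mul_diagonal]
      convert emb_one (F := F) (k := k) (l := 1) using 2
      rw [← Matrix.diagonal_one]
      refine congrArg _ (funext fun i => ?_)
      fin_cases i <;> simp
    refine isConj_iff.2 ⟨w, ?_⟩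
    rw [mul_inv_eq_iff_eq_mul, hinv]
    refine Subtype.ext ?_
    show emb 1 W * (emb 1 D * emb (jordan k) 1) = emb 1 D' * emb (jordan k) 1 * emb 1 W
    simp only [emb_mul, one_mul, mul_one]
    congr 1
    ext i j
    fin_cases i <;> fin_cases j <;> simp [W, D, D', Matrix.mul_apply, Fin.sum_univ_two]
  let L : LeviData (Matrix.SpecialLinearGroup (Fin (k + (1 + 1))) F) (Fin (k + (1 + 1))) F k 1 :=
    { f := slHom _
      ι := MonoidHom.id _
      R := rk k 1
      τ := τ
      d := d
      e := fun i => i.val
      B := k + (1 + 1)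
      f_τ := hd
      bd := fun s hs => hs.1
      low := fun V hV => hV
      up := fun U hU => hU
      comm := fun s hs => by
        refine Subtype.ext ?_
        show (τ : Matrix _ _ F) * (s : Matrix (Fin (k + (1 + 1))) (Fin (k + (1 + 1))) F) = _ * _
        ext i j
        rw [hd, Matrix.diagonal_mul, Matrix.mul_diagonal]
        by_cases h : rk k 1 i = rk k 1 j
        · simp only [d, h, MonoidHom.id_apply, mul_comm]
        · simp only [MonoidHom.id_apply, hs.1 i j h, mul_zero, zero_mul]
      e_lt := fun i => i.isLt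
      tri := fun i j hij => by
        show (blockJ k 1 - 1 : Matrix (Fin (k + (1 + 1))) (Fin (k + (1 + 1))) F) i j = 0
        rw [blockJ, Matrix.sub_apply]
        revert hij
        induction i using Fin.addCases with
        | left i =>
          induction j using Fin.addCases with
          | left j =>
            intro hij
            have hij' : j ≤ i := Fin.le_def.2 (by simpa using hij)
            rcases hij'.lt_or_eq with h | h
            · simp [emb, Matrix.one_apply, (isUpper_jordan k).2.1 i j h, h.ne']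
            · subst h; simp [emb, Matrix.one_apply, (isUpper_jordan k).1]
          | right j => intro hij; simp at hij; omega
        | right i =>
          induction j using Fin.addCases with
          | left j => intro hij; simp [emb, Matrix.one_apply, Fin.ext_iff]; omega
          | right j => intro hij; simp [emb, Matrix.one_apply, Fin.ext_iff]
      kill := fun g hg hcg => by
        refine Subtype.ext ?_
        ext i j
        by_cases h : rk k 1 i = rk k 1 j
        · rcases hg with hg | hg
          · exact (uniTri_iff.1 hg) i j h.le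
          · exact (uniTri_iff.1 hg) i j (by simp [h])
        · have := eq_one_apply_of_commute_diag hcg (slVal_inj hγ (hbnd i) (hbnd j) h)
          rw [show (slHom _ g) i j = (g : Matrix (Fin (k + (1 + 1))) (Fin (k + (1 + 1))) F) i j from rfl] at this
          rw [this, Matrix.SpecialLinearGroup.coe_one, Matrix.one_apply_ne fun e => h (by rw [e])]
      real := hreal }
  refine hasClassSquare_center_quotient L.c L.isConj_c_inv fun g hg => ?_
  have := L.twoConj p (four_le_mk hF) (by omega) ⊥ ⊥
    (fun a ha => by rw [Subgroup.mem_bot] at ha; subst ha; rw [map_one]; exact uniTri_one _)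
    (fun a ha => by rw [Subgroup.mem_bot] at ha; subst ha; rw [map_one]; exact uniTri_one _)
    (fun x a ha => by rw [Subgroup.mem_bot] at ha; subst ha; simp)
    (fun x a ha => by rw [Subgroup.mem_bot] at ha; subst ha; simp)
    g (Or.inl fun hs => hg (center_of_scalar g hs)) (Subgroup.one_mem _) (Subgroup.one_mem _)
  simpa [L] using this

end CfsgLib.ClassSquare
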