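import Cfsg.Agent.ClassSquare.OrthPlusBasic

/-!
# Non-central elements of `Ω⁺_{2n}` have conjugates in the big cell
-/

set_option autoImplicit false
set_option linter.unusedSectionVars false
set_option linter.style.haveILetI false

namespace CfsgLib.ClassSquare.Plus

open Matrix Module CfsgLib.SourourProduct CfsgLib.Spinor CfsgLib.StdForms CfsgLib.OmegaOrbits

variable {F : Type*} [Field F] [Fintype F] {n : ℕ}

set_option quotPrecheck false in
local notation "O" => ↥(Cfsg.isometryGroup F ⇑(plusQ n F))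
set_option quotPrecheck false in
local notation "Ω" => Cfsg.Omega F ⇑(plusQ n F)

theorem isAlt_of_quad {N : ℕ} {S : Matrix (Fin N) (Fin N) F} (h : ∀ x, x ⬝ᵥ S *ᵥ x = 0) : IsAlt S := by
  have hd : ∀ i, S i i = 0 := fun i => by
    simpa [mulVec_single_one, single_dotProduct] using h (Pi.single i 1)
  refine ⟨?_, hd⟩
  ext i j
  have := h (Pi.single i 1 + Pi.single j 1)
  simp [mulVec_add, mulVec_single_one, single_dotProduct, hd] at this
  rw [transpose_apply, Matrix.neg_apply]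
  linear_combination this

theorem quad_blocks (g : O) {A B C D : Matrix (Fin n) (Fin n) F}
    (e : mat (plusQ n F) g = fromBlocks A B C D) (x y : Fin n → F) :
    (A *ᵥ x + B *ᵥ y) ⬝ᵥ (C *ᵥ x + D *ᵥ y) = x ⬝ᵥ y := by
  have := quad_mulVec (plusQ n F) g (Sum.elim x y)
  rwa [e, fromBlocks_mulVec, plusQ_elim, plusQ_elim] at this

/-- `h = V · diag(A, A⁻ᵀ) · U` once `A` is invertible. -/
theorem exists_factor (hn : 3 ≤ n) (hF : 9 ≤ Fintype.card F) (g : O) (hg : g ∈ Ω)
    {A B C D : Matrix (Fin n) (Fin n) F} (e : mat (plusQ n F) g = fromBlocks A B C D) (hA : A.det ≠ 0) :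
    IsSquare A.det ∧ ∃ (Au : GL (Fin n) F) (S₁ S₂ : Matrix (Fin n) (Fin n) F) (h₁ : IsAlt S₁) (h₂ : IsAlt S₂),
      Au.1 = A ∧ g = low S₁ h₁ * levi Au * up S₂ h₂ := by
  classical
  have hu : IsUnit A.det := isUnit_iff_ne_zero.2 hA
  have hq : ∀ x, (A *ᵥ x) ⬝ᵥ (C *ᵥ x) = 0 := fun x => by simpa using quad_blocks g e x 0
  have h₁ : IsAlt (C * A⁻¹) := isAlt_of_quad fun x => by
    have := hq (A⁻¹ *ᵥ x)
    rwa [mulVec_inv_cancel hA, mulVec_mulVec] at this
  let Au : GL (Fin n) F := ⟨A, A⁻¹, Matrix.mul_nonsing_inv A hu, Matrix.nonsing_inv_mul A hu⟩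
  set m : O := (low (C * A⁻¹) h₁ * levi Au)⁻¹ * g with hm
  obtain ⟨P, T, R, E, em⟩ : ∃ P T R E, mat (plusQ n F) m = fromBlocks P T R E :=
    ⟨_, _, _, _, (fromBlocks_toBlocks _).symm⟩
  have hprod : fromBlocks A B C D = fromBlocks 1 0 (C * A⁻¹) 1 * fromBlocks A 0 0 (A⁻¹)ᵀ * fromBlocks P T R E := by
    rw [← e, ← em]
    conv_lhs => rw [show g = low (C * A⁻¹) h₁ * levi Au * m by rw [hm, mul_inv_cancel_left]]
    rw [mat_mul, mat_mul, mat_low, mat_levi]
    rfl
  simp only [fromBlocks_multiply, Matrix.one_mul, Matrix.zero_mul, Matrix.mul_zero, add_zero, zero_add,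
    Matrix.nonsing_inv_mul_cancel_right _ _ hu, fromBlocks_inj] at hprod
  obtain ⟨h11, -, h21, -⟩ := hprod
  have hP : P = 1 := by
    have := congrArg (fun M => A⁻¹ * M) h11
    simpa [Matrix.nonsing_inv_mul_cancel_left _ _ hu, Matrix.nonsing_inv_mul _ hu] using this.symm
  have hR : R = 0 := by
    rw [hP, Matrix.mul_one, left_eq_add] at h21
    have := congrArg (fun M => Aᵀ * M) h21
    simpa [← Matrix.mul_assoc, ← transpose_mul, Matrix.nonsing_inv_mul _ hu] using this
  subst hP hR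
  have hqm := quad_blocks m em
  simp only [one_mulVec, zero_mulVec, zero_add] at hqm
  have hTE : ∀ y, (T *ᵥ y) ⬝ᵥ (E *ᵥ y) = 0 := fun y => by simpa using hqm 0 y
  have hE : E = 1 := by
    refine Matrix.ext_iff_mulVec.2 fun y => ?_
    rw [one_mulVec, ← sub_eq_zero]
    refine dotProduct_eq_zero _ fun z => ?_
    have := hqm z y
    rw [add_dotProduct, hTE, add_zero] at this
    rw [sub_dotProduct, dotProduct_comm, this, dotProduct_comm z, sub_self]
  subst hE
  have h₂ : IsAlt T := isAlt_of_quad fun y => by rw [dotProduct_comm]; simpa using hTE y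
  have hg' : g = low (C * A⁻¹) h₁ * levi Au * up T h₂ := by
    have hmU : m = up T h₂ := mat_ext _ (by rw [em, mat_up])
    rw [← hmU, hm, mul_inv_cancel_left]
  refine ⟨?_, Au, _, _, h₁, h₂, rfl, hg'⟩
  refine isSquare_of_levi_mem hn Au ?_
  rw [hg', Subgroup.mul_mem_cancel_right _ (up_mem hF T h₂), Subgroup.mul_mem_cancel_left _ (low_mem hF _ h₁)] at hg
  exact hg

theorem mem_center_of_mat {g : ↥(Ω)} {c : F} (h : mat (plusQ n F) g.1 = c • 1) :
    g ∈ Subgroup.center ↥(Ω) := by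
  refine Subgroup.mem_center_iff.2 fun x => Subtype.ext (mat_ext _ ?_)
  show mat _ (x.1 * g.1) = mat _ (g.1 * x.1)
  rw [mat_mul, mat_mul, h]
  simp

theorem scalar_of_alt_commute {N : ℕ} (hN : 3 ≤ N) {A D : Matrix (Fin N) (Fin N) F}
    (h : ∀ S, IsAlt S → S * D = A * S) : ∃ c : F, A = c • 1 ∧ D = c • 1 := by
  classical
  have e : ∀ a b i j : Fin N, (altPair (1 : F) (Pi.single a 1) (Pi.single b 1) * D) i j =
      (A * altPair (1 : F) (Pi.single a 1) (Pi.single b 1)) i j := fun a b i j =>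
    congrFun (congrFun (h _ (isAlt_altPair _ _ _)) i) j
  simp only [altPair, one_smul, Matrix.sub_mul, Matrix.mul_sub, vecMulVec_mul, mul_vecMulVec,
    single_one_vecMul, mulVec_single_one, Matrix.sub_apply, vecMulVec_apply] at e
  have hthird : ∀ a b : Fin N, ∃ c, c ≠ a ∧ c ≠ b := fun a b => by
    by_contra hc
    push Not at hc
    have : (Finset.univ : Finset (Fin N)) ⊆ {a, b} := fun x _ => by
      by_cases hxa : x = a
      · simp [hxa]
      · simp [hc x hxa]
    have := (Finset.card_le_card this).trans Finset.card_le_two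
    simp at this
    omega
  have hDoff : ∀ b j : Fin N, b ≠ j → D b j = 0 := fun b j hbj => by
    obtain ⟨a, ha, ha'⟩ := hthird b j
    simpa [Pi.single_apply, ha, ha', ha.symm, ha'.symm, hbj, hbj.symm] using e a b a j
  have hAoff : ∀ i a : Fin N, i ≠ a → A i a = 0 := fun i a hia => by
    obtain ⟨b, hb, hb'⟩ := hthird i a
    simpa [Pi.single_apply, hb, hb', hb.symm, hb'.symm, hia, hia.symm] using (e a b i b).symm
  have hDA : ∀ a b : Fin N, a ≠ b → D b b = A a a := fun a b hab => by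
    simpa [Pi.single_apply, hab, hab.symm] using e a b a b
  let i₀ : Fin N := ⟨0, by omega⟩
  have hA : ∀ a, A a a = A i₀ i₀ := fun a => by
    obtain ⟨b, hb, hb'⟩ := hthird a i₀
    rw [← hDA a b hb.symm, hDA i₀ b hb'.symm]
  refine ⟨A i₀ i₀, ?_, ?_⟩
  · ext i j
    rcases eq_or_ne i j with rfl | hij
    · simp [hA i]
    · simp [hij, hAoff i j hij]
  · ext i j
    rcases eq_or_ne i j with rfl | hij
    · obtain ⟨a, ha, -⟩ := hthird i i
      simp [hDA a i ha, hA a]
    · simp [hij, hDoff i j hij]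

/-- A non-central element has a conjugate with `C ≠ 0`. -/
theorem exists_conj_lower_ne (hn : 3 ≤ n) (hF : 9 ≤ Fintype.card F) {g : ↥(Ω)}
    (hg : g ∉ Subgroup.center ↥(Ω)) :
    ∃ h : ↥(Ω), IsConj g h ∧ ∃ A B C D, mat (plusQ n F) h.1 = fromBlocks A B C D ∧ C ≠ 0 := by
  classical
  have key : ∀ {h : ↥(Ω)} {A B C D : Matrix (Fin n) (Fin n) F}, mat (plusQ n F) h.1 = fromBlocks A B C D →
      B ≠ 0 → ∃ h' : ↥(Ω), IsConj h h' ∧ ∃ A' B' C' D', mat (plusQ n F) h'.1 = fromBlocks A' B' C' D' ∧ C' ≠ 0 := by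
    intro h A B C D e hB
    obtain ⟨a, b, hab⟩ : ∃ a b, B a b ≠ 0 := by
      by_contra hc; push Not at hc; exact hB (Matrix.ext fun i j => by simpa using hc i j)
    obtain ⟨b', hb', -⟩ : ∃ b', b' ≠ a ∧ True := by
      haveI : Nontrivial (Fin n) := Fin.nontrivial_iff_two_le.2 (by omega)
      obtain ⟨b', hb'⟩ := exists_ne a
      exact ⟨b', hb', trivial⟩
    let T : Finset (Fin n) := if a = b then {a, b'} else {a, b}
    have ha : a ∈ T := by simp only [T]; split_ifs <;> simp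
    have hb : b ∈ T := by simp only [T]; split_ifs with h' <;> simp [h']
    have hT : Even T.card := by
      simp only [T]; split_ifs with h'
      · rw [Finset.card_pair hb'.symm]; exact ⟨1, rfl⟩
      · rw [Finset.card_pair h']; exact ⟨1, rfl⟩
    let w : ↥(Ω) := ⟨swap T, swap_mem_omega hT⟩
    refine ⟨w * h * w⁻¹, isConj_iff.2 ⟨w, rfl⟩, _, _, _, _, (fromBlocks_toBlocks _).symm, fun h0 => hab ?_⟩
    have e2 : mat (plusQ n F) (w * h * w⁻¹).1 = mat (plusQ n F) (swap T * h.1 * (swap T)⁻¹) := rfl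
    rw [e2, swap_inv, mat_mul, mat_mul, mat_swap, e, fromBlocks_multiply, fromBlocks_multiply,
      toBlocks_fromBlocks₂₁] at h0
    have := congrFun (congrFun h0 a) b
    simpa [Matrix.add_apply, Matrix.mul_diagonal, Matrix.diagonal_mul, ind, indC, ha, hb] using this
  obtain ⟨A, B, C, D, e⟩ : ∃ A B C D, mat (plusQ n F) g.1 = fromBlocks A B C D :=
    ⟨_, _, _, _, (fromBlocks_toBlocks _).symm⟩
  by_cases hC : C = 0
  swap
  · exact ⟨g, IsConj.refl g, A, B, C, D, e, hC⟩
  by_cases hB : B = 0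
  swap
  · exact key e hB
  subst hC hB
  obtain ⟨S, hS, hne⟩ : ∃ S, IsAlt S ∧ S * D ≠ A * S := by
    by_contra hno
    push Not at hno
    obtain ⟨c, hA, hD⟩ := scalar_of_alt_commute hn hno
    refine hg (mem_center_of_mat (c := c) ?_)
    rw [e, hA, hD, ← fromBlocks_one, fromBlocks_smul]
    simp
  let u : ↥(Ω) := ⟨up S hS, up_mem hF S hS⟩
  obtain ⟨h, hh, r⟩ := key (h := u * g * u⁻¹) (A := A) (B := S * D - A * S) (C := 0) (D := D) (by
    show mat (plusQ n F) (up S hS * g.1 * (up S hS)⁻¹) = _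
    rw [up_inv, mat_mul, mat_mul, mat_up, mat_up, e]
    simp [fromBlocks_multiply, ← sub_eq_add_neg, add_comm]) (sub_ne_zero.2 hne)
  exact ⟨h, (isConj_iff.2 ⟨u, rfl⟩).trans hh, r⟩

/-- An invertible alternating matrix in even size. -/
theorem exists_alt_det_ne {d : ℕ} (hd : Even d) : ∃ P : Matrix (Fin d) (Fin d) F, IsAlt P ∧ P.det ≠ 0 := by
  let P : Matrix (Fin d) (Fin d) F :=
    Matrix.of fun i j => if i.rev = j then (if i < j then (1 : F) else -1) else 0
  have hne : ∀ i : Fin d, i.rev ≠ i := fun i h => by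
    have h' := congrArg Fin.val h
    rw [Fin.val_rev] at h'
    obtain ⟨r, hr⟩ := hd
    have := i.isLt
    omega
  refine ⟨P, ⟨?_, fun i => by simp [P, hne i]⟩, det_ne_zero_of_forall P fun x hx => funext fun j => ?_⟩
  · ext i j
    simp only [P, transpose_apply, Matrix.of_apply, Matrix.neg_apply]
    by_cases h : i.rev = j
    · have hj : j.rev = i := by rw [← h, Fin.rev_rev]
      have hij : i ≠ j := fun e => hne i (h.trans e.symm)
      rcases lt_or_gt_of_ne hij with h' | h'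
      · simp [h, hj, h', not_lt.2 h'.le]
      · simp [h, hj, h', not_lt.2 h'.le]
    · have hj : ¬ j.rev = i := fun e => h (by rw [← e, Fin.rev_rev])
      simp [h, hj]
  · have := congrFun hx j.rev
    simp only [mulVec, dotProduct, P, Matrix.of_apply, Fin.rev_rev, ite_mul, zero_mul,
      Finset.sum_ite_eq, Finset.mem_univ, if_true, Pi.zero_apply] at this
    split_ifs at this with h <;> simpa using this

/-- The parity of the defect of the leading block. -/
theorem even_defect (hF : 9 ≤ Fintype.card F) {g : O} (hg : g ∈ Ω) {A B C D : Matrix (Fin n) (Fin n) F}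
    (e : mat (plusQ n F) g = fromBlocks A B C D) : Even (finrank F (LinearMap.ker A.mulVecLin)) := by
  classical
  have hexc : Nat.card F ≠ 2 ∨ Fintype.card (Fin n ⊕ Fin n) ≠ 4 := Or.inl (by rw [Nat.card_eq_fintype_card]; omega)
  have hQ := plusQ_nondegenerate (F := F) n
  obtain ⟨vs, hvs⟩ := CfsgLib.Forms.exists_isReflProd_finite hQ hexc g
  have hev := ((mem_omega_iff_even hQ hexc hvs).1 hg).1
  let Y : Submodule F (Fin n ⊕ Fin n → F) :=
    LinearMap.ker (LinearMap.funLeft F F (Sum.inl : Fin n → Fin n ⊕ Fin n))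
  have hY : finrank F Y = n := by
    have h := LinearMap.finrank_range_add_finrank_ker (LinearMap.funLeft F F (Sum.inl : Fin n → Fin n ⊕ Fin n))
    rw [LinearMap.range_eq_top.2 (LinearMap.funLeft_surjective_of_injective F F _ Sum.inl_injective), finrank_top,
      finrank_fin_fun, finrank_fintype_fun_eq_card, Fintype.card_sum, Fintype.card_fin] at h
    show finrank F ↥(LinearMap.ker (LinearMap.funLeft F F (Sum.inl : Fin n → Fin n ⊕ Fin n))) = n
    omega
  have hY0 : ∀ v ∈ Y, plusQ n F v = 0 := fun v hv => by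
    rw [plusQ_apply]
    exact Finset.sum_eq_zero fun i _ => by rw [show v (Sum.inl i) = 0 from congrFun hv i, zero_mul]
  have h := even_finrank_inf_gmap hQ (card_split n) hY hY0 (finrank_baseLag n) (plusQ_baseLag n) vs g hvs
  have hYX : Y ⊓ baseLag n F = ⊥ := by
    rw [eq_bot_iff]
    rintro v ⟨h1, h2⟩
    refine (Submodule.mem_bot F).2 (funext fun i => ?_)
    rcases i with i | i
    · exact congrFun h1 i
    · exact congrFun h2 i
  rw [hYX, finrank_bot, add_zero, Nat.even_add] at h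
  let φ : (Fin n → F) →ₗ[F] (Fin n ⊕ Fin n → F) :=
    { toFun := fun x => mat (plusQ n F) g *ᵥ Sum.elim x 0
      map_add' := fun x y => by rw [← mulVec_add]; congr 1; funext i; rcases i with i | i <;> simp
      map_smul' := fun c x => by
        rw [RingHom.id_apply, ← mulVec_smul]; congr 1; funext i; rcases i with i | i <;> simp }
  have hφ : Function.Injective φ := fun x y hxy => funext fun i =>
    congrFun (mulVec_injective g hxy) (Sum.inl i)
  have himg : Y ⊓ gmap g (baseLag n F) = (LinearMap.ker A.mulVecLin).map φ := by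
    have hval : ∀ x, φ x = Sum.elim (A *ᵥ x) (C *ᵥ x) := fun x => by
      show mat (plusQ n F) g *ᵥ Sum.elim x 0 = _
      rw [e, fromBlocks_mulVec]; simp
    ext v
    constructor
    · rintro ⟨hv, u, hu, rfl⟩
      have hu' : Sum.elim (u ∘ Sum.inl) 0 = u := by
        funext i; rcases i with i | i
        · rfl
        · exact (congrFun hu i).symm
      refine ⟨u ∘ Sum.inl, ?_, ?_⟩
      · have h1 : (φ (u ∘ Sum.inl)) ∘ Sum.inl = 0 := by
          show (mat (plusQ n F) g *ᵥ Sum.elim (u ∘ Sum.inl) 0) ∘ Sum.inl = 0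
          rw [hu']; exact hv
        rw [hval] at h1
        exact h1
      · show mat (plusQ n F) g *ᵥ Sum.elim (u ∘ Sum.inl) 0 = _
        rw [hu']; rfl
    · rintro ⟨x, hx, rfl⟩
      refine ⟨?_, ⟨Sum.elim x 0, funext fun i => rfl, rfl⟩⟩
      show (φ x) ∘ Sum.inl = 0
      rw [hval]
      exact hx
  rw [himg, ← (Submodule.equivMapOfInjective φ hφ _).finrank_eq] at h
  exact h.2 hev

/-- A non-central element of `Ω` has a conjugate in `V · SL_n · U`, with a non-scalar middle factor. -/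
theorem exists_conj_big_cell (hn : 3 ≤ n) (hF : 9 ≤ Fintype.card F) {g : ↥(Ω)}
    (hg : g ∉ Subgroup.center ↥(Ω)) :
    ∃ (A : Matrix.SpecialLinearGroup (Fin n) F) (h : ↥(Ω)) (S₁ S₂ : Matrix (Fin n) (Fin n) F)
      (h₁ : IsAlt S₁) (h₂ : IsAlt S₂), ¬ Scalar (A : Matrix (Fin n) (Fin n) F) ∧ IsConj g h ∧
      h.1 = low S₁ h₁ * levi (Matrix.SpecialLinearGroup.toGL A) * up S₂ h₂ := by
  classical
  obtain ⟨h, hgh, A, B, C, D, e, hC⟩ := exists_conj_lower_ne hn hF hg
  have hq : ∀ x, (A *ᵥ x) ⬝ᵥ (C *ᵥ x) = 0 := fun x => by simpa using quad_blocks h.1 e x 0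
  have horth : ∀ x y, A *ᵥ y = 0 → (A *ᵥ x) ⬝ᵥ (C *ᵥ y) = 0 := fun x y hy => by
    have := hq (x + y)
    rw [mulVec_add, mulVec_add, hy, add_zero, dotProduct_add, hq, zero_add] at this
    exact this
  have hinj : ∀ x, A *ᵥ x = 0 → C *ᵥ x = 0 → x = 0 := fun x hA hC' => by
    have h1 : mat (plusQ n F) h.1 *ᵥ Sum.elim x 0 = mat (plusQ n F) h.1 *ᵥ 0 := by
      rw [e, mulVec_zero, fromBlocks_mulVec]; simp [hA, hC']
    exact funext fun i => congrFun (mulVec_injective h.1 h1) (Sum.inl i)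
  obtain ⟨d, R, hd, hR, hR'⟩ := exists_splitting A C hinj horth
  obtain ⟨P, hP, hPdet⟩ := exists_alt_det_ne (F := F) (hd ▸ even_defect hF h.2 e : Even d)
  set S₀ := Rᵀ * P * R
  have hS₀ : IsAlt S₀ := isAlt_of_quad fun x => by
    rw [← mulVec_mulVec, ← mulVec_mulVec, dotProduct_mulVec, vecMul_transpose, hP.quad]
  have hA₁ : (A + S₀ * C).det ≠ 0 := inj_add_split hR hR' hPdet
  have shift : ∀ (h' : ↥(Ω)) (A' B' D' : Matrix (Fin n) (Fin n) F) (S : Matrix (Fin n) (Fin n) F) (hS : IsAlt S),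
      mat (plusQ n F) h'.1 = fromBlocks A' B' C D' →
      ∃ h'' : ↥(Ω), IsConj h' h'' ∧ ∃ B'' D'', mat (plusQ n F) h''.1 = fromBlocks (A' + S * C) B'' C D'' := by
    intro h' A' B' D' S hS e'
    let u : ↥(Ω) := ⟨up S hS, up_mem hF S hS⟩
    refine ⟨u * h' * u⁻¹, isConj_iff.2 ⟨u, rfl⟩, ?_⟩
    have e2 : mat (plusQ n F) (u * h' * u⁻¹).1 = mat (plusQ n F) (up S hS * h'.1 * (up S hS)⁻¹) := rfl
    rw [e2, up_inv, mat_mul, mat_mul, mat_up, mat_up, e', fromBlocks_multiply, fromBlocks_multiply]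
    exact ⟨_, _, fromBlocks_inj.2 ⟨by simp, rfl, by simp, rfl⟩⟩
  obtain ⟨k, hhk, B₁, D₁, e₁⟩ := shift h A B D S₀ hS₀ e
  have hsq := (exists_factor hn hF k.1 k.2 e₁ hA₁).1
  obtain ⟨S, hS, hdet, hns⟩ := exists_alt_adjust (by omega) hA₁ hC
    (fun x => by simpa using quad_blocks k.1 e₁ x 0) hsq
  obtain ⟨l, hkl, B₂, D₂, e₂⟩ := shift k _ B₁ D₁ S hS e₁
  obtain ⟨-, Au, S₁, S₂, h₁, h₂, hAu, hfac⟩ := exists_factor hn hF l.1 l.2 e₂ (by rw [hdet]; exact one_ne_zero)
  refine ⟨⟨A + S₀ * C + S * C, hdet⟩, l, S₁, S₂, h₁, h₂, ?_, (hgh.trans hhk).trans hkl, ?_⟩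
  · exact hns.resolve_right fun h' => by omega
  · rw [hfac]
    congr 3
    exact Units.ext hAu

end CfsgLib.ClassSquare.Plus
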