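import Cfsg.Agent.ClassSquare.OrthOddBasic
import Cfsg.Agent.ClassSquare.OrthPlusCell

/-!
# Non-central elements of `Ω_{2n+1}` have conjugates in the big cell
-/

set_option autoImplicit false
set_option linter.unusedSectionVars false
set_option linter.style.haveILetI false

namespace CfsgLib.ClassSquare.OddO

open Matrix Module CfsgLib.SourourProduct CfsgLib.Spinor CfsgLib.StdForms

variable {F : Type*} [Field F] [Fintype F] {n : ℕ}

set_option quotPrecheck false in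
local notation "O" => ↥(Cfsg.isometryGroup F ⇑(oddQ n F))
set_option quotPrecheck false in
local notation "Ω" => Cfsg.Omega F ⇑(oddQ n F)
local notation "Idx" => Unit ⊕ (Fin n ⊕ Fin n)
local notation "Mat" => Matrix Idx Idx F

/-- The middle row of the first block column. -/
def midRow (M : Mat) : Fin n → F := fun j => M (Sum.inl ()) (Sum.inr (Sum.inl j))

/-- The first block. -/
def blkA (M : Mat) : Matrix (Fin n) (Fin n) F := Matrix.of fun i j => M (Sum.inr (Sum.inl i)) (Sum.inr (Sum.inl j))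

/-- The lower left block. -/
def blkC (M : Mat) : Matrix (Fin n) (Fin n) F := Matrix.of fun i j => M (Sum.inr (Sum.inr i)) (Sum.inr (Sum.inl j))

theorem mulVec_first (M : Mat) (x : Fin n → F) :
    M *ᵥ vec 0 x 0 = vec (midRow M ⬝ᵥ x) (blkA M *ᵥ x) (blkC M *ᵥ x) := by
  funext i
  rcases i with u | i | i <;> simp [vec, midRow, blkA, blkC, mulVec, dotProduct, Fintype.sum_sum_type]

theorem eq_zero_of_act {M : Mat} {c : Fin n → F} {A C : Matrix (Fin n) (Fin n) F}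
    (h : ∀ x, M *ᵥ vec 0 x 0 = vec (c ⬝ᵥ x) (A *ᵥ x) (C *ᵥ x)) :
    midRow M = c ∧ blkA M = A ∧ blkC M = C := by
  have e : ∀ x, midRow M ⬝ᵥ x = c ⬝ᵥ x ∧ blkA M *ᵥ x = A *ᵥ x ∧ blkC M *ᵥ x = C *ᵥ x := fun x =>
    vec_inj.1 ((mulVec_first M x).symm.trans (h x))
  exact ⟨dotProduct_eq _ _ fun x => (e x).1, Matrix.ext_iff_mulVec.2 fun x => (e x).2.1,
    Matrix.ext_iff_mulVec.2 fun x => (e x).2.2⟩

theorem quad_first (g : O) (x : Fin n → F) :
    (midRow (mat (oddQ n F) g) ⬝ᵥ x) * (midRow (mat (oddQ n F) g) ⬝ᵥ x) +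
      (blkA (mat (oddQ n F) g) *ᵥ x) ⬝ᵥ (blkC (mat (oddQ n F) g) *ᵥ x) = 0 := by
  have := quad_mulVec (oddQ n F) g (vec 0 x 0)
  rw [mulVec_first, oddQ_vec, oddQ_vec] at this
  simpa using this

theorem polar_vec (z z' : F) (x x' y y' : Fin n → F) :
    QuadraticMap.polar (⇑(oddQ n F)) (vec z x y) (vec z' x' y') = 2 * (z * z') + (x ⬝ᵥ y' + x' ⬝ᵥ y) := by
  have hadd : vec z x y + vec z' x' y' = vec (z + z') (x + x') (y + y') := by
    funext j; rcases j with u | j | j <;> simp [vec]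
  rw [QuadraticMap.polar, hadd, oddQ_vec, oddQ_vec, oddQ_vec, add_dotProduct, dotProduct_add, dotProduct_add,
    dotProduct_comm x' y]
  ring_nf

theorem mulVec_injective' (g : O) {v w : Idx → F} (h : mat (oddQ n F) g *ᵥ v = mat (oddQ n F) g *ᵥ w) : v = w := by
  have := congrArg (fun u => mat (oddQ n F) g⁻¹ *ᵥ u) h
  simpa [mulVec_mulVec, ← mat_mul, mat_one] using this

/-- An element fixing `V⁺` pointwise. -/
theorem exists_of_fix (hF : 9 ≤ Fintype.card F) (m : O) (hdet : (mat (oddQ n F) m).det = 1)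
    (hfix : ∀ x, mat (oddQ n F) m *ᵥ vec 0 x 0 = vec 0 x 0) :
    ∃ (b : Fin n → F) (S : Matrix (Fin n) (Fin n) F) (h : IsAlt S), m = up b S h := by
  classical
  set M := mat (oddQ n F) m with hM
  have hy : ∀ z x y, ∃ z' x', M *ᵥ vec z x y = vec z' x' y := fun z x y => by
    obtain ⟨z', x', y', e⟩ := exists_vec (M *ᵥ vec z x y)
    refine ⟨z', x', e.trans (vec_inj.2 ⟨rfl, rfl, dotProduct_eq _ _ fun w => ?_⟩)⟩
    have := polar_mulVec (oddQ n F) m (vec 0 w 0) (vec z x y)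
    rw [← hM, hfix, e, polar_vec, polar_vec] at this
    simpa [dotProduct_comm w] using this
  obtain ⟨a, ξ, hz⟩ := hy 1 0 0
  choose β T hT using fun y => hy 0 0 y
  let β' : Fin n → F := fun j => β (Pi.single j 1)
  let T' : Matrix (Fin n) (Fin n) F := Matrix.of fun i j => T (Pi.single j 1) i
  have hlin : ∀ y, M *ᵥ vec 0 0 y = vec (β' ⬝ᵥ y) (T' *ᵥ y) y := fun y => by
    let L : (Fin n → F) →ₗ[F] (Idx → F) :=
      { toFun := fun y => M *ᵥ vec 0 0 y
        map_add' := fun y y' => by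
          rw [← mulVec_add]; congr 1; funext j; rcases j with u | j | j <;> simp [vec]
        map_smul' := fun c y => by
          rw [RingHom.id_apply, ← mulVec_smul]; congr 1; funext j; rcases j with u | j | j <;> simp [vec] }
    let L' : (Fin n → F) →ₗ[F] (Idx → F) :=
      { toFun := fun y => vec (β' ⬝ᵥ y) (T' *ᵥ y) y
        map_add' := fun y y' => by
          funext j; rcases j with u | j | j <;> simp [vec, dotProduct_add, mulVec_add]
        map_smul' := fun c y => by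
          funext j; rcases j with u | j | j <;> simp [vec, mulVec_smul] }
    refine LinearMap.congr_fun (f := L) (g := L') ((Pi.basisFun F (Fin n)).ext fun j => ?_) y
    show M *ᵥ vec 0 0 (Pi.basisFun F (Fin n) j) = vec _ _ _
    rw [Pi.basisFun_apply, hT, vec_inj]
    refine ⟨by simp [β'], ?_, rfl⟩
    rw [mulVec_single_one]
    rfl
  have hgen : ∀ z x y, M *ᵥ vec z x y = vec (z * a + β' ⬝ᵥ y) (x + z • ξ + T' *ᵥ y) y := fun z x y => by
    have e : vec z x y = z • vec 1 0 0 + vec 0 x 0 + vec 0 0 y := by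
      funext j; rcases j with u | j | j <;> simp [vec]
    rw [e, mulVec_add, mulVec_add, mulVec_smul, hz, hfix, hlin]
    funext j
    rcases j with u | j | j <;> simp [vec]
    ring
  have hq := fun z y => quad_mulVec (oddQ n F) m (vec z 0 y)
  simp only [← hM, hgen, oddQ_vec, zero_add, zero_dotProduct, add_zero] at hq
  have hS : IsAlt (T' + vecMulVec β' β') := Plus.isAlt_of_quad fun y => by
    have := hq 0 y
    simp only [zero_mul, zero_add, zero_smul] at this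
    rw [add_mulVec, vecMulVec_mulVec, op_smul_eq_smul, dotProduct_add, dotProduct_smul, smul_eq_mul,
      dotProduct_comm y (T' *ᵥ y), dotProduct_comm y β']
    linear_combination this
  set S := T' + vecMulVec β' β' with hSdef
  have ha : a * a = 1 := by simpa using hq 1 0
  have hξ : ∀ y, ξ ⬝ᵥ y = -(2 * a * (β' ⬝ᵥ y)) := fun y => by
    have h1 := hq 1 y
    have h0 := hq 0 y
    simp only [add_dotProduct, smul_dotProduct, smul_eq_mul, one_mul, zero_mul, zero_add, zero_smul] at h1 h0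
    linear_combination h1 - h0 - ha
  let D : Mat := diagonal (Sum.elim (fun _ => a) fun _ => 1)
  have hfac : M = upMat β' S * D := mat_eq_of_vec fun z x y => by
    have hD : D *ᵥ vec z x y = vec (a * z) x y := by
      funext j; rcases j with u | j | j <;> simp [D, vec, mulVec_diagonal]
    rw [hgen, ← mulVec_mulVec, hD, upMat_act, vec_inj]
    refine ⟨by ring, ?_, rfl⟩
    have hξ' : ξ = (-(2 * a)) • β' := dotProduct_eq _ _ fun y => by
      rw [hξ, smul_dotProduct, smul_eq_mul]; ring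
    rw [hξ', hSdef, add_mulVec, vecMulVec_mulVec, op_smul_eq_smul]
    module
  have hdu : (upMat β' S).det = 1 := det_eq_one_of_mem (g := up β' S hS) (up_mem hF β' S hS)
  have ha1 : a = 1 := by
    rw [hfac, det_mul, hdu, one_mul, det_diagonal, Fintype.prod_sum_type] at hdet
    simpa using hdet
  refine ⟨β', S, hS, mat_ext _ ?_⟩
  show M = upMat β' S
  rw [hfac, show D = 1 from by
    rw [← diagonal_one]; refine congrArg diagonal (funext fun i => ?_); rcases i with u | i <;> simp [ha1], Matrix.mul_one]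

/-- `h = V · diag(1, A, A⁻ᵀ) · U` once `A` is invertible. -/
theorem exists_factor (hn : 3 ≤ n) (hF : 9 ≤ Fintype.card F) (h2 : (2 : F) ≠ 0) (g : O) (hg : g ∈ Ω)
    (hA : (blkA (mat (oddQ n F) g)).det ≠ 0) :
    IsSquare (blkA (mat (oddQ n F) g)).det ∧ ∃ (Au : GL (Fin n) F) (b₁ b₂ : Fin n → F)
      (S₁ S₂ : Matrix (Fin n) (Fin n) F) (h₁ : IsAlt S₁) (h₂ : IsAlt S₂),
      Au.1 = blkA (mat (oddQ n F) g) ∧ g = low b₁ S₁ h₁ * levi Au * up b₂ S₂ h₂ ∧
      b₁ = midRow (mat (oddQ n F) g) ᵥ* (blkA (mat (oddQ n F) g))⁻¹ ∧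
      S₁ = blkC (mat (oddQ n F) g) * (blkA (mat (oddQ n F) g))⁻¹ + vecMulVec b₁ b₁ := by
  classical
  set A := blkA (mat (oddQ n F) g)
  set C := blkC (mat (oddQ n F) g)
  set c₀ := midRow (mat (oddQ n F) g)
  have hu : IsUnit A.det := isUnit_iff_ne_zero.2 hA
  set m₀ := c₀ ᵥ* A⁻¹ with hm₀
  have h₁ : IsAlt (C * A⁻¹ + vecMulVec m₀ m₀) := Plus.isAlt_of_quad fun x => by
    have := quad_first g (A⁻¹ *ᵥ x)
    rw [mulVec_inv_cancel hA, mulVec_mulVec, dotProduct_mulVec c₀, ← hm₀] at this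
    rw [add_mulVec, vecMulVec_mulVec, op_smul_eq_smul, dotProduct_add, dotProduct_smul, smul_eq_mul,
      dotProduct_comm x m₀]
    linear_combination this
  let Au : GL (Fin n) F := ⟨A, A⁻¹, Matrix.mul_nonsing_inv A hu, Matrix.nonsing_inv_mul A hu⟩
  set v := low m₀ _ h₁ * levi Au with hv
  have hvfirst : ∀ x, mat (oddQ n F) v *ᵥ vec 0 x 0 = mat (oddQ n F) g *ᵥ vec 0 x 0 := fun x => by
    rw [hv, mat_mul, ← mulVec_mulVec, levi_act, low_act, mulVec_first, vec_inj]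
    have hmA : m₀ ⬝ᵥ (Au.1 *ᵥ x) = c₀ ⬝ᵥ x := by
      rw [dotProduct_mulVec, hm₀, vecMul_vecMul]
      show (c₀ ᵥ* (A⁻¹ * A)) ⬝ᵥ x = _
      rw [Matrix.nonsing_inv_mul A hu, vecMul_one]
    refine ⟨by simpa using hmA, rfl, ?_⟩
    rw [hmA, mulVec_zero, add_mulVec, vecMulVec_mulVec, op_smul_eq_smul, hmA, mulVec_mulVec]
    show _ = C *ᵥ x
    rw [show C * A⁻¹ * Au.1 = C from by rw [Matrix.mul_assoc]; show C * (A⁻¹ * A) = C; rw [Matrix.nonsing_inv_mul A hu, Matrix.mul_one]]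
    module
  set m := v⁻¹ * g with hm
  have hfix : ∀ x, mat (oddQ n F) m *ᵥ vec 0 x 0 = vec 0 x 0 := fun x => mulVec_injective' v (by
    rw [hvfirst x, mulVec_mulVec, ← mat_mul, hm, mul_inv_cancel_left])
  have hlow : (mat (oddQ n F) (low m₀ _ h₁)).det = 1 := det_eq_one_of_mem (low_mem hF _ _ h₁)
  have hdet : (mat (oddQ n F) m).det = 1 := by
    have e := det_eq_one_of_mem hg
    rw [show g = v * m by rw [hm, mul_inv_cancel_left], mat_mul, det_mul, hv, mat_mul, det_mul, hlow, det_levi,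
      one_mul, one_mul] at e
    exact e
  obtain ⟨b₂, S₂, h₂, hm2⟩ := exists_of_fix hF m hdet hfix
  have hg' : g = low m₀ _ h₁ * levi Au * up b₂ S₂ h₂ := by
    rw [← hm2, ← hv, hm, mul_inv_cancel_left]
  refine ⟨?_, Au, m₀, b₂, _, S₂, h₁, h₂, rfl, hg', rfl, rfl⟩
  refine isSquare_of_levi_mem hn h2 Au ?_
  have hg2 := hg
  rw [hg', Subgroup.mul_mem_cancel_right _ (up_mem hF _ _ h₂), Subgroup.mul_mem_cancel_left _ (low_mem hF _ _ h₁)] at hg2
  exact hg2

theorem mem_center_of_eq_one {g : ↥(Ω)} (h : g.1 = 1) : g ∈ Subgroup.center ↥(Ω) := by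
  have : g = 1 := Subtype.ext h
  rw [this]; exact Subgroup.one_mem _

theorem exists_conj_lower_ne (hn : 3 ≤ n) (hF : 9 ≤ Fintype.card F) (h2 : (2 : F) ≠ 0) {g : ↥(Ω)}
    (hg : g ∉ Subgroup.center ↥(Ω)) :
    ∃ h : ↥(Ω), IsConj g h ∧ blkC (mat (oddQ n F) h.1) ≠ 0 := by
  classical
  have key : ∀ h : ↥(Ω), (∃ a b, mat (oddQ n F) h.1 (Sum.inr (Sum.inl a)) (Sum.inr (Sum.inr b)) ≠ 0) →
      ∃ h' : ↥(Ω), IsConj h h' ∧ blkC (mat (oddQ n F) h'.1) ≠ 0 := by
    rintro h ⟨a, b, hab⟩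
    obtain ⟨b', hb'⟩ : ∃ b', b' ≠ a := by
      haveI : Nontrivial (Fin n) := Fin.nontrivial_iff_two_le.2 (by omega)
      exact exists_ne a
    let T : Finset (Fin n) := if a = b then {a, b'} else {a, b}
    have ha : a ∈ T := by simp only [T]; split_ifs <;> simp
    have hb : b ∈ T := by simp only [T]; split_ifs with h' <;> simp [h']
    have hT : Even T.card := by
      simp only [T]; split_ifs with h'
      · rw [Finset.card_pair hb'.symm]; exact ⟨1, rfl⟩
      · rw [Finset.card_pair h']; exact ⟨1, rfl⟩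
    let w : ↥(Ω) := ⟨embO (Plus.swap T), embO_mem (Plus.swap_mem_omega hT)⟩
    refine ⟨w * h * w⁻¹, isConj_iff.2 ⟨w, rfl⟩, fun h0 => hab ?_⟩
    have hw : ∀ z x y, mat (oddQ n F) (embO (Plus.swap T) : O) *ᵥ vec z x y =
        vec z (fun i => if i ∈ T then y i else x i) (fun i => if i ∈ T then x i else y i) := fun z x y => by
      rw [mat_embO, embMat_mulVec, Plus.mat_swap, fromBlocks_mulVec]
      funext j
      rcases j with u | j | j
      · rfl
      all_goals by_cases hj : j ∈ T <;> simp [vec, Plus.ind, Plus.indC, mulVec_diagonal, hj]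
    have hwi : (embO (Plus.swap T) : O)⁻¹ = embO (Plus.swap T) := by rw [← map_inv, Plus.swap_inv]
    have hbT : (fun i => if i ∈ T then (Pi.single b (1 : F) : Fin n → F) i else (0 : Fin n → F) i) = Pi.single b 1 := by
      funext i
      rcases eq_or_ne i b with rfl | hi
      · simp [hb]
      · simp [hi]
    have hbT' : (fun i => if i ∈ T then (0 : Fin n → F) i else (Pi.single b (1 : F) : Fin n → F) i) = 0 := by
      funext i
      rcases eq_or_ne i b with rfl | hi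
      · simp [hb]
      · simp [hi]
    have e : mat (oddQ n F) (w * h * w⁻¹).1 *ᵥ vec 0 (Pi.single b 1) 0 =
        mat (oddQ n F) (embO (Plus.swap T) : O) *ᵥ (mat (oddQ n F) h.1 *ᵥ vec 0 0 (Pi.single b 1)) := by
      show mat (oddQ n F) (embO (Plus.swap T) * h.1 * (embO (Plus.swap T))⁻¹) *ᵥ _ = _
      rw [hwi, mat_mul, mat_mul, ← mulVec_mulVec, ← mulVec_mulVec, hw, hbT', hbT]
    obtain ⟨z', x', y', e'⟩ := exists_vec (mat (oddQ n F) h.1 *ᵥ vec 0 0 (Pi.single b 1))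
    rw [e', hw, mulVec_first, vec_inj, h0, zero_mulVec] at e
    have hx := congrFun e.2.2 a
    rw [if_pos ha] at hx
    have hs : vec (n := n) (0 : F) 0 (Pi.single b 1) = Pi.single (Sum.inr (Sum.inr b)) 1 := by
      funext i; rcases i with u | i | i <;> simp [vec, Pi.single_apply]
    rw [hs, mulVec_single_one] at e'
    have := congrFun e' (Sum.inr (Sum.inl a))
    exact this.trans hx.symm
  by_cases hC : blkC (mat (oddQ n F) g.1) = 0
  swap
  · exact ⟨g, IsConj.refl g, hC⟩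
  have hc₀ : midRow (mat (oddQ n F) g.1) = 0 := dotProduct_eq_zero _ fun x => by
    have := quad_first g.1 x
    rw [hC, zero_mulVec, dotProduct_zero, add_zero] at this
    exact mul_self_eq_zero.1 this
  have hA : (blkA (mat (oddQ n F) g.1)).det ≠ 0 := det_ne_zero_of_forall _ fun x hx => by
    have e : mat (oddQ n F) g.1 *ᵥ vec 0 x 0 = mat (oddQ n F) g.1 *ᵥ vec 0 0 0 := by
      rw [mulVec_first, mulVec_first, hx, hC, hc₀]; simp
    exact (vec_inj.1 (mulVec_injective' g.1 e)).2.1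
  obtain ⟨-, Au, b₁, β, S₁, S, h₁, hS, hAu, hfac, hb₁, hS₁⟩ := exists_factor hn hF h2 g.1 g.2 hA
  rw [hc₀, zero_vecMul] at hb₁
  rw [hC, Matrix.zero_mul, hb₁, zero_add] at hS₁
  have hlow : low b₁ S₁ h₁ = 1 := mat_ext _ (mat_eq_of_vec fun z x y => by
    rw [low_act, mat_one, one_mulVec, vec_inj, hS₁, hb₁]
    simp)
  rw [hlow, one_mul] at hfac
  by_cases hB : ∀ a b, mat (oddQ n F) g.1 (Sum.inr (Sum.inl a)) (Sum.inr (Sum.inr b)) = 0
  swap
  · push Not at hB
    exact key g hB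
  -- now `g = diag(1, A, A⁻ᵀ)`
  have hT : ∀ y, Au.1 *ᵥ (S *ᵥ y - (β ⬝ᵥ y) • β) = 0 := fun y => by
    funext i
    have e : mat (oddQ n F) g.1 *ᵥ vec 0 0 y =
        vec (β ⬝ᵥ y) (Au.1 *ᵥ (S *ᵥ y - (β ⬝ᵥ y) • β)) ((Au⁻¹).1ᵀ *ᵥ y) := by
      rw [hfac, mat_mul, ← mulVec_mulVec, up_act, levi_act, vec_inj]
      refine ⟨by simp, ?_, rfl⟩
      simp
    have hi := congrFun e (Sum.inr (Sum.inl i))
    refine hi.symm.trans ?_
    simp [mulVec, dotProduct, Fintype.sum_sum_type, vec, hB]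
  have hT0 : ∀ y, S *ᵥ y - (β ⬝ᵥ y) • β = 0 := fun y =>
    Matrix.eq_zero_of_mulVec_eq_zero ((Matrix.isUnit_iff_isUnit_det _).1 Au.isUnit).ne_zero (hT y)
  have hβ : β = 0 := funext fun i => by
    have := congrFun (hT0 (Pi.single i 1)) i
    simpa [mulVec_single_one, hS.2 i] using this
  have hS0 : S = 0 := Matrix.ext_iff_mulVec.2 fun y => by
    have := hT0 y
    simpa [hβ] using this
  have hgl : g.1 = levi Au := by
    rw [hfac, show up β S hS = 1 from mat_ext _ (mat_eq_of_vec fun z x y => by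
      rw [up_act, mat_one, one_mulVec, vec_inj, hS0, hβ]; simp), mul_one]
  have conj : ∀ (b : Fin n → F) (S' : Matrix (Fin n) (Fin n) F) (hS' : IsAlt S') (y : Fin n → F),
      (∃ i, (Au.1 *ᵥ (-(S' *ᵥ y) - (b ⬝ᵥ y) • b) + (2 * (b ⬝ᵥ y)) • b + S' *ᵥ ((Au⁻¹).1ᵀ *ᵥ y) -
        (b ⬝ᵥ ((Au⁻¹).1ᵀ *ᵥ y)) • b) i ≠ 0) →
      ∃ h : ↥(Ω), IsConj g h ∧ blkC (mat (oddQ n F) h.1) ≠ 0 := by
    rintro b S' hS' y ⟨i, hi⟩
    let u : ↥(Ω) := ⟨up b S' hS', up_mem hF b S' hS'⟩
    obtain ⟨h', hh', r⟩ := key (u * g * u⁻¹) (by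
      by_contra hall
      push Not at hall
      refine hi ?_
      have e : mat (oddQ n F) (u * g * u⁻¹).1 *ᵥ vec 0 0 y =
          vec (-(b ⬝ᵥ y) + b ⬝ᵥ ((Au⁻¹).1ᵀ *ᵥ y))
            (Au.1 *ᵥ (-(S' *ᵥ y) - (b ⬝ᵥ y) • b) + (2 * (b ⬝ᵥ y)) • b + S' *ᵥ ((Au⁻¹).1ᵀ *ᵥ y) -
              (b ⬝ᵥ ((Au⁻¹).1ᵀ *ᵥ y)) • b) ((Au⁻¹).1ᵀ *ᵥ y) := by
        show mat (oddQ n F) (up b S' hS' * g.1 * (up b S' hS')⁻¹) *ᵥ _ = _
        rw [hgl, up_inv, mat_mul, mat_mul, ← mulVec_mulVec, ← mulVec_mulVec, up_act, levi_act, up_act, vec_inj]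
        refine ⟨by simp, ?_, rfl⟩
        simp only [neg_dotProduct, neg_mulVec, mul_zero, zero_smul, sub_zero, zero_sub, zero_add, smul_neg,
          neg_smul, neg_neg, mul_neg, sub_neg_eq_add]
      have := congrFun e (Sum.inr (Sum.inl i))
      refine this.symm.trans ?_
      simp only [Subgroup.coe_mul, InvMemClass.coe_inv] at hall
      simp [mulVec, dotProduct, Fintype.sum_sum_type, vec, hall])
    exact ⟨h', (isConj_iff.2 ⟨u, rfl⟩).trans hh', r⟩
  by_cases hex : ∃ S', IsAlt S' ∧ S' * (Au⁻¹).1ᵀ ≠ Au.1 * S'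
  · obtain ⟨S', hS', hne⟩ := hex
    obtain ⟨y, hy⟩ : ∃ y, (S' * (Au⁻¹).1ᵀ - Au.1 * S') *ᵥ y ≠ 0 := by
      by_contra hno
      push Not at hno
      exact hne (sub_eq_zero.1 (Matrix.ext_iff_mulVec.2 fun y => by rw [hno y, zero_mulVec]))
    obtain ⟨i, hi⟩ := Function.ne_iff.1 hy
    refine conj 0 S' hS' y ⟨i, ?_⟩
    simpa [mulVec_neg, sub_mulVec, mulVec_mulVec, neg_add_eq_sub] using hi
  push Not at hex
  obtain ⟨c, hcA, hcD⟩ := Plus.scalar_of_alt_commute hn hex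
  let i₀ : Fin n := ⟨0, by omega⟩
  have hcc : c * c = 1 := by
    have e : (Au⁻¹).1 * Au.1 = 1 := by rw [← Units.val_mul, inv_mul_cancel]; rfl
    rw [← transpose_transpose (Au⁻¹).1, hcD, hcA, transpose_smul, transpose_one] at e
    have := congrFun (congrFun e i₀) i₀
    simpa using this
  rcases mul_self_eq_one_iff.1 hcc with rfl | rfl
  · refine absurd (mem_center_of_eq_one ?_) hg
    rw [hgl, show Au = 1 from Units.ext (by rw [hcA, one_smul]; rfl), map_one]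
  · refine conj (Pi.single i₀ 1) 0 isAlt_zero (Pi.single i₀ 1) ⟨i₀, ?_⟩
    rw [hcA, hcD]
    simp [smul_mulVec, two_ne_zero, h2, neg_mulVec, one_mulVec, Matrix.col]
    intro h4
    apply mul_ne_zero h2 h2
    linear_combination h4

/-- A non-central element of `Ω` has a conjugate in `V · SL_n · U`, with a non-scalar middle factor. -/
theorem exists_conj_big_cell (hn : 3 ≤ n) (hF : 9 ≤ Fintype.card F) (h2 : (2 : F) ≠ 0) {g : ↥(Ω)}
    (hg : g ∉ Subgroup.center ↥(Ω)) :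
    ∃ (A : Matrix.SpecialLinearGroup (Fin n) F) (h : ↥(Ω)) (b₁ b₂ : Fin n → F)
      (S₁ S₂ : Matrix (Fin n) (Fin n) F) (h₁ : IsAlt S₁) (h₂ : IsAlt S₂),
      ¬ Scalar (A : Matrix (Fin n) (Fin n) F) ∧ IsConj g h ∧
      h.1 = low b₁ S₁ h₁ * levi (Matrix.SpecialLinearGroup.toGL A) * up b₂ S₂ h₂ := by
  classical
  obtain ⟨h, hgh, hC⟩ := exists_conj_lower_ne hn hF h2 hg
  set A := blkA (mat (oddQ n F) h.1)
  set C := blkC (mat (oddQ n F) h.1)
  set c₀ := midRow (mat (oddQ n F) h.1)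
  have hq := quad_first h.1
  have hc₀ : ∀ x, A *ᵥ x = 0 → c₀ ⬝ᵥ x = 0 := fun x hx => by
    have := hq x
    rw [hx, zero_dotProduct, add_zero] at this
    exact mul_self_eq_zero.1 this
  have horth : ∀ x y, A *ᵥ y = 0 → (A *ᵥ x) ⬝ᵥ (C *ᵥ y) = 0 := fun x y hy => by
    have h1 := hq (x + y)
    rw [mulVec_add, mulVec_add, hy, add_zero, dotProduct_add, dotProduct_add, hc₀ y hy] at h1
    linear_combination h1 - hq x
  have hinj : ∀ x, A *ᵥ x = 0 → C *ᵥ x = 0 → x = 0 := fun x hA hC' => by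
    have e : mat (oddQ n F) h.1 *ᵥ vec 0 x 0 = mat (oddQ n F) h.1 *ᵥ vec 0 0 0 := by
      rw [mulVec_first, mulVec_first, hA, hC', hc₀ x hA]; simp
    exact (vec_inj.1 (mulVec_injective' h.1 e)).2.1
  obtain ⟨d, R, -, hR, hR'⟩ := exists_splitting A C hinj horth
  let Sd : Matrix (Fin d) (Fin d) F := Matrix.of fun i j => if i < j then -1 else if j < i then 1 else 0
  have hSd : IsAlt Sd := by
    refine ⟨?_, fun i => by simp [Sd]⟩
    ext i j
    rcases lt_trichotomy i j with hij | rfl | hij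
    · simp [Sd, hij, not_lt.2 hij.le]
    · simp [Sd]
    · simp [Sd, hij, not_lt.2 hij.le]
  let J : Matrix (Fin d) (Fin d) F := Sd - Matrix.of fun _ _ => 1
  have hJ : J.det ≠ 0 := by
    rw [Matrix.det_of_isUpperTriangular (fun i j hij => by
      have h' : j < i := hij
      simp [J, Sd, h', not_lt.2 h'.le])]
    exact Finset.prod_ne_zero_iff.2 fun i _ => by simp [J, Sd]
  set b₀ : Fin n → F := (1 : Fin d → F) ᵥ* R with hb₀
  set S₀ := Rᵀ * Sd * R with hS₀def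
  have hS₀ : IsAlt S₀ := Plus.isAlt_of_quad fun x => by
    rw [hS₀def, ← mulVec_mulVec, ← mulVec_mulVec, dotProduct_mulVec, vecMul_transpose, hSd.quad]
  have hA₁ : (A + oddShift b₀ S₀ c₀ C).det ≠ 0 := det_ne_zero_of_forall _ fun x hx => by
    have e : (A + oddShift b₀ S₀ c₀ C) *ᵥ x =
        A *ᵥ x + Rᵀ *ᵥ ((-2 * (c₀ ⬝ᵥ x)) • (1 : Fin d → F) + J *ᵥ (R *ᵥ (C *ᵥ x))) := by
      have hb : ∀ (s : F), s • b₀ = Rᵀ *ᵥ (s • (1 : Fin d → F)) := fun s => by
        rw [mulVec_smul, mulVec_transpose, hb₀]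
      have hJv : ∀ w : Fin d → F, J *ᵥ w = Sd *ᵥ w - ((1 : Fin d → F) ⬝ᵥ w) • (1 : Fin d → F) := fun w => by
        rw [show J = Sd - Matrix.of (fun _ _ => (1 : F)) from rfl, sub_mulVec]
        congr 1
        funext a
        simp [mulVec, dotProduct]
      rw [oddShift, add_mulVec, add_mulVec, vecMulVec_mulVec, op_smul_eq_smul, ← mulVec_mulVec, sub_mulVec,
        vecMulVec_mulVec, op_smul_eq_smul, hJv, hb₀, ← dotProduct_mulVec, ← hb₀, hS₀def, ← mulVec_mulVec,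
        ← mulVec_mulVec, mulVec_add, mulVec_sub, ← hb, ← hb, smul_smul, mul_comm (c₀ ⬝ᵥ x)]
    rw [e] at hx
    obtain ⟨hA', hy⟩ := hR x _ hx
    rw [hc₀ x hA', mul_zero, zero_smul, zero_add] at hy
    exact hR' x hA' (Matrix.eq_zero_of_mulVec_eq_zero hJ hy)
  have shift : ∀ (h' : ↥(Ω)) (b : Fin n → F) (S : Matrix (Fin n) (Fin n) F) (hS : IsAlt S),
      ∃ h'' : ↥(Ω), IsConj h' h'' ∧
        blkA (mat (oddQ n F) h''.1) = blkA (mat (oddQ n F) h'.1) +
          oddShift b S (midRow (mat (oddQ n F) h'.1)) (blkC (mat (oddQ n F) h'.1)) ∧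
        blkC (mat (oddQ n F) h''.1) = blkC (mat (oddQ n F) h'.1) := by
    intro h' b S hS
    let u : ↥(Ω) := ⟨up b S hS, up_mem hF b S hS⟩
    refine ⟨u * h' * u⁻¹, isConj_iff.2 ⟨u, rfl⟩, ?_⟩
    have e := eq_zero_of_act (M := mat (oddQ n F) (u * h' * u⁻¹).1)
      (c := midRow (mat (oddQ n F) h'.1) + b ᵥ* blkC (mat (oddQ n F) h'.1))
      (A := blkA (mat (oddQ n F) h'.1) + oddShift b S (midRow (mat (oddQ n F) h'.1)) (blkC (mat (oddQ n F) h'.1)))
      (C := blkC (mat (oddQ n F) h'.1)) fun x => by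
        show mat (oddQ n F) (up b S hS * h'.1 * (up b S hS)⁻¹) *ᵥ _ = _
        rw [up_inv, mat_mul, mat_mul, ← mulVec_mulVec, ← mulVec_mulVec, up_act]
        simp only [dotProduct_zero, add_zero, mul_zero, zero_smul, sub_zero, mulVec_zero]
        rw [mulVec_first, up_act, vec_inj]
        refine ⟨by rw [add_dotProduct, ← dotProduct_mulVec], ?_, rfl⟩
        rw [add_mulVec, oddShift, add_mulVec, vecMulVec_mulVec, op_smul_eq_smul, ← mulVec_mulVec, sub_mulVec,
          vecMulVec_mulVec, op_smul_eq_smul]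
        module
    exact ⟨e.2.1, e.2.2⟩
  obtain ⟨k, hhk, hkA, hkC⟩ := shift h b₀ S₀ hS₀
  have hkdet : (blkA (mat (oddQ n F) k.1)).det ≠ 0 := by rw [hkA]; exact hA₁
  have hsq := (exists_factor hn hF h2 k.1 k.2 hkdet).1
  obtain ⟨b, S, hS, hdet, hns⟩ := exists_odd_adjust hn h2 hkdet (by rw [hkC]; exact hC)
    (fun y => quad_first k.1 y) hsq
  obtain ⟨l, hkl, hlA, -⟩ := shift k b S hS
  obtain ⟨-, Au, b₁, b₂, S₁, S₂, h₁, h₂, hAu, hfac, -, -⟩ :=
    exists_factor hn hF h2 l.1 l.2 (by rw [hlA, hdet]; exact one_ne_zero)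
  refine ⟨⟨_, hdet⟩, l, b₁, b₂, S₁, S₂, h₁, h₂, hns, (hgh.trans hhk).trans hkl, ?_⟩
  rw [hfac]
  congr 3
  exact Units.ext (hAu.trans hlA)

end CfsgLib.ClassSquare.OddO
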