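import Cfsg.Agent.ClassSquare.Split
import Cfsg.Agent.ClassSquare.OrthOddCell

/-!
# `PΩ_{2n+1}` is the square of a class

The element is `diag(1, λ,…,λ,μ, λ⁻¹,…,λ⁻¹,μ⁻¹)` times a regular unipotent of the first block.
-/

set_option autoImplicit false
set_option linter.unusedSectionVars false
set_option linter.style.haveILetI false

namespace CfsgLib.ClassSquare.OddO

open Matrix CfsgLib.SourourProduct CfsgLib.Spinor CfsgLib.StdForms

variable {F : Type*} [Field F] [Fintype F] {k : ℕ}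

/-- The exponent of the last entry: `k + e` is even. -/
def expo (k : ℕ) : ℕ := if Even k then 2 else 3

/-- The value at a level. -/
def odVal (γ : F) (k : ℕ) (r : ℤ) : F :=
  if r = 0 then γ else if r = 1 then γ ^ expo k else if r = 3 then (γ ^ expo k)⁻¹ else if r = 4 then γ⁻¹ else 1

theorem odVal_inj {γ : Fˣ} (hγ : 8 ≤ orderOf γ) {r s : ℤ} (hr : 0 ≤ r ∧ r ≤ 4) (hs : 0 ≤ s ∧ s ≤ 4)
    (hrs : r ≠ s) : odVal (γ : F) k r ≠ odVal (γ : F) k s := by
  -- every value is a power of `γ`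
  let c : ℤ → ℤ := fun r =>
    if r = 0 then 1 else if r = 1 then (expo k : ℤ) else if r = 3 then -(expo k : ℤ) else if r = 4 then -1 else 0
  have hval : ∀ t : ℤ, odVal (γ : F) k t = ((γ ^ c t : Fˣ) : F) := fun t => by
    simp only [odVal, c]
    split_ifs <;> simp
  have hc : c r ≠ c s ∧ -6 ≤ c r - c s ∧ c r - c s ≤ 6 := by
    have he : expo k = 2 ∨ expo k = 3 := by unfold expo; split_ifs <;> simp
    obtain ⟨hr0, hr4⟩ := hr
    obtain ⟨hs0, hs4⟩ := hs
    rcases he with he | he <;> interval_cases r <;> interval_cases s <;> simp [c, he] at hrs ⊢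
  rw [hval, hval]
  intro e
  have e' : γ ^ (c r - c s) = 1 := by rw [_root_.zpow_sub, Units.ext e, mul_inv_cancel]
  have h := Int.natAbs_dvd_natAbs.2 (orderOf_dvd_iff_zpow_eq_one.2 e')
  have h' := Nat.le_of_dvd (by omega) h
  simp at h'
  omega

set_option quotPrecheck false in
local notation "ΩB" => ↥(Cfsg.Omega F ⇑(oddQ (k + (0 + 1)) F))
local notation "Idx" => Unit ⊕ (Fin (k + (0 + 1)) ⊕ Fin (k + (0 + 1)))

/-- The coordinates. -/
noncomputable def toMat : ΩB →* Matrix Idx Idx F where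
  toFun g := mat _ g.1
  map_one' := rfl
  map_mul' _ _ := rfl

/-- `SL_n` in `Ω`. -/
noncomputable def leviSL (hk : 2 ≤ k) : Matrix.SpecialLinearGroup (Fin (k + (0 + 1))) F →* ΩB :=
  MonoidHom.codRestrict (levi.comp Matrix.SpecialLinearGroup.toGL) _ fun A => levi_sl_mem (by omega) A

theorem leviSL_act (hk : 2 ≤ k) (A : Matrix.SpecialLinearGroup (Fin (k + (0 + 1))) F) (z : F)
    (x y : Fin (k + (0 + 1)) → F) :
    mat _ (leviSL hk A).1 *ᵥ vec z x y = vec z ((A : Matrix (Fin (k + (0 + 1))) (Fin (k + (0 + 1))) F) *ᵥ x)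
      (((A⁻¹ : Matrix.SpecialLinearGroup (Fin (k + (0 + 1))) F) : Matrix (Fin (k + (0 + 1))) (Fin (k + (0 + 1))) F)ᵀ *ᵥ y) := by
  show mat _ (levi (Matrix.SpecialLinearGroup.toGL A)) *ᵥ _ = _
  rw [levi_act, ← map_inv]
  rfl

theorem toMat_leviSL (hk : 2 ≤ k) (A : Matrix.SpecialLinearGroup (Fin (k + (0 + 1))) F) :
    toMat (leviSL hk A) = splitLevi (A : Matrix (Fin (k + (0 + 1))) (Fin (k + (0 + 1))) F)
      ((A⁻¹ : Matrix.SpecialLinearGroup (Fin (k + (0 + 1))) F) : Matrix (Fin (k + (0 + 1))) (Fin (k + (0 + 1))) F)ᵀ := by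
  show mat _ (levi (Matrix.SpecialLinearGroup.toGL A)) = _
  rw [show levi (Matrix.SpecialLinearGroup.toGL A) = embO (Plus.levi (Matrix.SpecialLinearGroup.toGL A)) from rfl,
    mat_embO, Plus.mat_levi, ← map_inv]
  rfl

theorem emb_transpose (X : Matrix (Fin k) (Fin k) F) :
    (emb X (1 : Matrix (Fin (0 + 1)) (Fin (0 + 1)) F))ᵀ = emb Xᵀ 1 := by
  rw [emb, emb, transpose_submatrix, fromBlocks_transpose, transpose_zero, transpose_zero, transpose_one]

theorem real_odd (hk : 2 ≤ k) (h2 : (2 : F) ≠ 0) (τ : ΩB) (a b : Fin (k + (0 + 1)) → F)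
    (ha : ∀ i j, rk k 0 i = rk k 0 j → a i = a j) (hb : ∀ i j, rk k 0 i = rk k 0 j → b i = b j)
    (hτ : ∀ z x y, mat _ τ.1 *ᵥ vec z x y = vec z (fun i => a i * x i) fun i => b i * y i)
    (hτ' : ∀ z x y, mat _ (τ⁻¹).1 *ᵥ vec z x y = vec z (fun i => b i * x i) fun i => a i * y i) :
    IsConj (τ * leviSL hk (blockJSL k 0)) (τ⁻¹ * leviSL hk (blockJSL k 0)) := by
  obtain ⟨P, hP, hPJ⟩ := exists_conj_jordan_inv_transpose (F := F) k
  have hJu : IsUnit (jordan k : Matrix (Fin k) (Fin k) F).det := by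
    rw [det_upper (isUpper_jordan k)]; exact isUnit_one
  let Js : Matrix.SpecialLinearGroup (Fin (k + (0 + 1))) F := ⟨emb ((jordan k)⁻¹)ᵀ 1, by
    rw [det_emb, det_transpose, det_nonsing_inv, det_upper (isUpper_jordan k)]; simp⟩
  let G : Matrix.SpecialLinearGroup (Fin (k + (0 + 1))) F := ⟨emb P (diagonal fun _ => P.det⁻¹), by
    rw [det_emb, det_diagonal]; simp [mul_inv_cancel₀ hP]⟩
  have hGJ : G * Js = blockJSL k 0 * G := by
    refine Subtype.ext ?_
    show emb P _ * emb _ _ = emb _ _ * emb P _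
    rw [emb_mul, emb_mul, hPJ, Matrix.mul_one, Matrix.one_mul]
  have hJinv : (((blockJSL k 0)⁻¹ : Matrix.SpecialLinearGroup (Fin (k + (0 + 1))) F) :
      Matrix (Fin (k + (0 + 1))) (Fin (k + (0 + 1))) F) = emb (jordan k)⁻¹ 1 := by
    refine left_inv_eq_right_inv (a := blockJ k 0) ?_ ?_
    · show ((blockJSL k 0)⁻¹ * blockJSL k 0 : Matrix.SpecialLinearGroup (Fin (k + (0 + 1))) F).1 = 1
      rw [inv_mul_cancel]; rfl
    · rw [blockJ, emb_mul, Matrix.mul_nonsing_inv _ hJu, Matrix.one_mul, emb_one]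
  have hJsinv : ((Js⁻¹ : Matrix.SpecialLinearGroup (Fin (k + (0 + 1))) F) :
      Matrix (Fin (k + (0 + 1))) (Fin (k + (0 + 1))) F) = emb (jordan k)ᵀ 1 := by
    refine left_inv_eq_right_inv (a := (Js : Matrix (Fin (k + (0 + 1))) (Fin (k + (0 + 1))) F)) ?_ ?_
    · show (Js⁻¹ * Js : Matrix.SpecialLinearGroup (Fin (k + (0 + 1))) F).1 = 1
      rw [inv_mul_cancel]; rfl
    · show emb _ 1 * emb _ 1 = 1
      rw [emb_mul, ← transpose_mul, Matrix.mul_nonsing_inv _ hJu, transpose_one, Matrix.one_mul, emb_one]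
  let lst : Fin (k + (0 + 1)) := Fin.natAdd k 0
  let sg : Fin (k + (0 + 1)) → F := fun i => if i = lst then -1 else 1
  have hrlast : ∀ i, i = lst ↔ rk k 0 i ≠ 0 := fun i => by
    induction i using Fin.addCases with
    | left i => simp [rk_castAdd, lst, Fin.ext_iff]; omega
    | right i => rw [Fin.fin_one_eq_zero i]; simp [lst, rk_natAdd]
  -- the powers of the correction are diagonal
  have hrho : ∀ m : ℕ, ∀ z x y, mat _ (rho h2 lst ^ m) *ᵥ vec z x y =
      vec ((-1) ^ m * z) (fun i => sg i ^ m * x i) fun i => sg i ^ m * y i := by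
    intro m
    induction m with
    | zero => intro z x y; simp [mat_one]
    | succ m ih =>
      intro z x y
      rw [pow_succ, mat_mul, ← mulVec_mulVec, rho_act, ih, vec_inj]
      refine ⟨by ring, ?_, ?_⟩ <;> funext i <;> by_cases h : i = lst <;> simp [sg, h, pow_succ]
  obtain ⟨w, hw⟩ : ∃ w : ΩB, ∀ z x y, mat _ w.1 *ᵥ vec z x y = vec ((-1) ^ (k + (0 + 1)) * z)
      (fun i => sg i ^ (k + (0 + 1)) * y i) fun i => sg i ^ (k + (0 + 1)) * x i :=
    ⟨⟨flip * rho h2 lst ^ (k + (0 + 1)), flip_rho_mem h2 lst⟩, fun z x y => by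
      rw [mat_mul, ← mulVec_mulVec, hrho, flip_act]⟩
  have hwτ : w * τ * w⁻¹ = τ⁻¹ := by
    rw [mul_inv_eq_iff_eq_mul]
    refine Subtype.ext (mat_ext _ (mat_eq_of_vec fun z x y => ?_))
    show mat _ (w.1 * τ.1) *ᵥ _ = mat _ ((τ⁻¹).1 * w.1) *ᵥ _
    rw [mat_mul, mat_mul, ← mulVec_mulVec, ← mulVec_mulVec, hτ, hw, hw, hτ', vec_inj]
    exact ⟨rfl, funext fun i => by ring, funext fun i => by ring⟩
  have hwJ : w * leviSL hk (blockJSL k 0) * w⁻¹ = leviSL hk Js := by
    rw [mul_inv_eq_iff_eq_mul]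
    refine Subtype.ext (mat_ext _ (mat_eq_of_vec fun z x y => ?_))
    show mat _ (w.1 * (leviSL hk (blockJSL k 0)).1) *ᵥ _ = mat _ ((leviSL hk Js).1 * w.1) *ᵥ _
    have hc : ∀ X : Matrix (Fin k) (Fin k) F, ∀ v : Fin (k + (0 + 1)) → F,
        (fun i => sg i ^ (k + (0 + 1)) * ((emb X (1 : Matrix (Fin (0 + 1)) (Fin (0 + 1)) F)) *ᵥ v) i) =
          (emb X (1 : Matrix (Fin (0 + 1)) (Fin (0 + 1)) F)) *ᵥ fun i => sg i ^ (k + (0 + 1)) * v i := fun X v => by
      have hcm := (blockDiag_commute_diag (d := fun i => sg i ^ (k + (0 + 1))) (r := rk k 0)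
        (fun i j h => by simp only [sg, hrlast, h]) (M := emb X 1)
        (by rw [← diagonal_one]; exact emb_blockDiag X _)).eq
      have h1 := congrArg (fun M => M *ᵥ v) hcm
      simp only [← mulVec_mulVec] at h1
      have hd : ∀ u : Fin (k + (0 + 1)) → F, diagonal (fun i => sg i ^ (k + (0 + 1))) *ᵥ u =
          fun i => sg i ^ (k + (0 + 1)) * u i := fun u => funext fun i => mulVec_diagonal _ _ i
      simpa only [hd] using h1
    rw [mat_mul, mat_mul, ← mulVec_mulVec, ← mulVec_mulVec, leviSL_act, hw, hw, leviSL_act, hJinv, hJsinv,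
      emb_transpose, emb_transpose, transpose_transpose, vec_inj]
    exact ⟨rfl, hc _ y, hc _ x⟩
  refine isConj_of_parts ?_ hwτ hwJ (g := leviSL hk G) (by rw [← map_mul, hGJ, map_mul])
  refine Subtype.ext (mat_ext _ (mat_eq_of_vec fun z x y => ?_))
  show mat _ ((leviSL hk G).1 * τ.1) *ᵥ _ = mat _ (τ.1 * (leviSL hk G).1) *ᵥ _
  have hG : BD k 0 G := ⟨emb_blockDiag P _, blockDiag_hom_inv (f := slHom (F := F) _) (emb_blockDiag P _)⟩
  have hG2 : BlockDiag (rk k 0) ((G⁻¹ : Matrix.SpecialLinearGroup (Fin (k + (0 + 1))) F) :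
      Matrix (Fin (k + (0 + 1))) (Fin (k + (0 + 1))) F)ᵀ := fun i j h => hG.2 j i (Ne.symm h)
  have hd : ∀ (d u : Fin (k + (0 + 1)) → F), diagonal d *ᵥ u = fun i => d i * u i := fun d u =>
    funext fun i => mulVec_diagonal _ _ i
  rw [mat_mul, mat_mul, ← mulVec_mulVec, ← mulVec_mulVec, hτ, leviSL_act, leviSL_act, hτ, vec_inj]
  refine ⟨rfl, ?_, ?_⟩
  · rw [← hd a, ← hd a, mulVec_mulVec, mulVec_mulVec, (blockDiag_commute_diag ha hG.1).eq]
  · rw [← hd b, ← hd b, mulVec_mulVec, mulVec_mulVec, (blockDiag_commute_diag hb hG2).eq]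

theorem hasClassSquare_pOmega (hF : 9 ≤ Fintype.card F) (h2 : (2 : F) ≠ 0) (hk : 2 ≤ k) :
    HasClassSquare (ΩB ⧸ Subgroup.center ΩB) := by
  classical
  obtain ⟨γ, hγ⟩ := exists_big_order hF
  let av : Fin (k + (0 + 1)) → Fˣ := fun i => if rk k 0 i = 0 then γ else γ ^ expo k
  let t : GL (Fin (k + (0 + 1))) F := ⟨diagonal fun i => (av i : F), diagonal fun i => (((av i)⁻¹ : Fˣ) : F),
    by rw [diagonal_mul_diagonal, ← diagonal_one]; congr 1; funext i; simp,
    by rw [diagonal_mul_diagonal, ← diagonal_one]; congr 1; funext i; simp⟩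
  have hav : ∀ i, (av i : F) = odVal (γ : F) k (rk k 0 i) ∧ (((av i)⁻¹ : Fˣ) : F) = odVal (γ : F) k (4 - rk k 0 i) := by
    intro i
    have h1 := rk_nonneg i; have h2 := rk_le_last i
    rcases (show rk k 0 i = 0 ∨ rk k 0 i = 1 by omega) with h | h <;> simp [av, h, odVal]
  have hdet : IsSquare t.1.det := by
    show IsSquare (diagonal fun i => (av i : F)).det
    rw [det_diagonal, Fin.prod_univ_add, Fin.prod_univ_one]
    simp only [av, rk_castAdd, rk_natAdd, if_true, Finset.prod_const, Finset.card_fin]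
    rw [if_neg (by simp), Units.val_pow_eq_pow_val, ← pow_add]
    refine Even.isSquare_pow ?_ _
    by_cases he : Even k
    · rw [expo, if_pos he]; exact he.add even_two
    · rw [expo, if_neg he]; exact (Nat.not_even_iff_odd.1 he).add_odd ⟨1, rfl⟩
  let τ : ΩB := ⟨levi t, levi_mem_of_isSquare (by omega) t hdet⟩
  have hτ : ∀ z x y, mat _ τ.1 *ᵥ vec z x y =
      vec z (fun i => (av i : F) * x i) fun i => (((av i)⁻¹ : Fˣ) : F) * y i := fun z x y => by
    show mat _ (levi t) *ᵥ _ = _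
    rw [levi_act, vec_inj]
    refine ⟨rfl, funext fun i => mulVec_diagonal _ _ i, funext fun i => ?_⟩
    show ((diagonal fun i => (((av i)⁻¹ : Fˣ) : F))ᵀ *ᵥ y) i = _
    rw [diagonal_transpose, mulVec_diagonal]
  have hτ' : ∀ z x y, mat _ (τ⁻¹).1 *ᵥ vec z x y =
      vec z (fun i => (((av i)⁻¹ : Fˣ) : F) * x i) fun i => (av i : F) * y i := fun z x y => by
    show mat _ (levi t)⁻¹ *ᵥ _ = _
    rw [← map_inv, levi_act, inv_inv, vec_inj]
    refine ⟨rfl, funext fun i => mulVec_diagonal _ _ i, funext fun i => ?_⟩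
    show ((diagonal fun i => (av i : F))ᵀ *ᵥ y) i = _
    rw [diagonal_transpose, mulVec_diagonal]
  have hval : ∀ i j : Idx, splitR Unit k i ≠ splitR Unit k j →
      odVal (γ : F) k (splitR Unit k i) ≠ odVal (γ : F) k (splitR Unit k j) :=
    fun i j h => odVal_inj hγ (splitR_mem i) (splitR_mem j) h
  refine hasClassSquare_split hk hF toMat (leviSL hk) (toMat_leviSL hk)
    (fun a b h => Subtype.ext (mat_ext _ h)) τ (odVal (γ : F) k) ?_ (fun g hg hc => ?_)
    (real_odd hk h2 τ (fun i => (av i : F)) (fun i => (((av i)⁻¹ : Fˣ) : F))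
      (fun i j h => by simp only [av, h]) (fun i j h => by simp only [av, h]) hτ hτ') (fun g hg => ?_)
  · refine mat_eq_of_vec fun z x y => ?_
    show mat _ τ.1 *ᵥ _ = _
    rw [hτ]
    funext i
    rcases i with u | i | i <;> simp [vec, mulVec_diagonal, splitR, hav]
    simp [odVal]
  · exact Subtype.ext (mat_ext _ (eq_one_of_uniTri_commute hval hg hc))
  · obtain ⟨A, h, b₁, b₂, S₁, S₂, h₁, h₂', hA, hgh, hh⟩ := exists_conj_big_cell (by omega) hF h2 hg
    refine ⟨A, ⟨low b₁ S₁ h₁, low_mem hF _ _ h₁⟩, ⟨up b₂ S₂ h₂', up_mem hF _ _ h₂'⟩, hA, ?_, ?_, ?_⟩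
    · show UniTri _ (mat _ (low b₁ S₁ h₁))
      have he : mat (oddQ (k + (0 + 1)) F) (low b₁ S₁ h₁) = fromBlocks 1 (Matrix.of fun _ => Sum.elim b₁ 0)
          (Matrix.of fun i _ => Sum.elim 0 ((-2 : F) • b₁) i) (fromBlocks 1 0 (S₁ - vecMulVec b₁ b₁) 1) := by
        refine mat_eq_of_vec fun z x y => ?_
        rw [low_act]
        funext i
        rcases i with u | i | i <;>
          simp [vec, mulVec, dotProduct, Fintype.sum_sum_type, Matrix.one_apply, vecMulVec_apply,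
            Finset.sum_sub_distrib, Finset.sum_mul, sub_mul]
        have : ∑ a, b₁ i * b₁ a * x a = ∑ a, b₁ a * x a * b₁ i := Finset.sum_congr rfl fun a _ => by ring
        rw [this]
        ring
      rw [he, uniTri_iff]
      rintro (i | i | i) (j | j | j) hij <;> simp [splitCoarse, Matrix.one_apply] at hij ⊢
    · show UniTri _ (upMat b₂ S₂)
      rw [upMat, uniTri_iff]
      rintro (i | i | i) (j | j | j) hij <;> simp [splitCoarse, Matrix.one_apply] at hij ⊢
    · have : h = ⟨low b₁ S₁ h₁, low_mem hF _ _ h₁⟩ * leviSL hk A * ⟨up b₂ S₂ h₂', up_mem hF _ _ h₂'⟩ :=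
        Subtype.ext hh
      rwa [← this]

end CfsgLib.ClassSquare.OddO
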