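import Cfsg.Agent.ClassSquare.OrthPlusBasic

/-!
# Elements of `Ω_{2n+1}`

Everything is computed on vectors `vec z x y`.
-/

set_option autoImplicit false
set_option linter.unusedSectionVars false
set_option linter.style.haveILetI false

namespace CfsgLib.ClassSquare.OddO

open Matrix CfsgLib.SourourProduct CfsgLib.Spinor CfsgLib.StdForms
open scoped commutatorElement

variable {F : Type*} [Field F] [Fintype F] {n : ℕ}

set_option quotPrecheck false in
local notation "O" => ↥(Cfsg.isometryGroup F ⇑(oddQ n F))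
set_option quotPrecheck false in
local notation "O⁺" => ↥(Cfsg.isometryGroup F ⇑(plusQ n F))
local notation "Idx" => Unit ⊕ (Fin n ⊕ Fin n)
local notation "Mat" => Matrix Idx Idx F

/-- The vector with middle coordinate `z` and halves `x`, `y`. -/
def vec (z : F) (x y : Fin n → F) : Idx → F := Sum.elim (fun _ => z) (Sum.elim x y)

theorem exists_vec (v : Idx → F) : ∃ z x y, v = vec z x y :=
  ⟨v (Sum.inl ()), fun i => v (Sum.inr (Sum.inl i)), fun i => v (Sum.inr (Sum.inr i)),
    funext fun i => by rcases i with ⟨⟩ | i | i <;> rfl⟩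

theorem vec_inj {z z' : F} {x x' y y' : Fin n → F} :
    vec z x y = vec z' x' y' ↔ z = z' ∧ x = x' ∧ y = y' :=
  ⟨fun h => ⟨congrFun h (Sum.inl ()), funext fun i => congrFun h (Sum.inr (Sum.inl i)),
    funext fun i => congrFun h (Sum.inr (Sum.inr i))⟩, by rintro ⟨rfl, rfl, rfl⟩; rfl⟩

theorem mat_eq_of_vec {M N : Mat} (h : ∀ z x y, M *ᵥ vec z x y = N *ᵥ vec z x y) : M = N :=
  Matrix.ext_iff_mulVec.2 fun v => by obtain ⟨z, x, y, rfl⟩ := exists_vec v; exact h z x y

theorem oddQ_vec (z : F) (x y : Fin n → F) : oddQ n F (vec z x y) = z * z + x ⬝ᵥ y := by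
  simp [oddQ_apply, Cfsg.quadFormOdd, vec, dotProduct, pow_two]

/-- An isometry from a matrix, its inverse and the effect on vectors. -/
def mkIso (M N : Mat) (h : M * N = 1)
    (hQ : ∀ z x y, oddQ n F (M *ᵥ vec z x y) = oddQ n F (vec z x y)) : O :=
  ⟨⟨M, N, h, mul_eq_one_comm.1 h⟩, fun u _ => by
    obtain ⟨z, x, y, rfl⟩ := exists_vec u
    exact hQ z x y⟩

theorem embMat_mulVec (M : Matrix (Fin n ⊕ Fin n) (Fin n ⊕ Fin n) F) (z : F) (x y : Fin n → F) :
    fromBlocks (1 : Matrix Unit Unit F) 0 0 M *ᵥ vec z x y =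
      Sum.elim (fun _ => z) (M *ᵥ Sum.elim x y) := by
  rw [vec, fromBlocks_mulVec]
  simp

/-- `O⁺_{2n}` inside `O_{2n+1}`. -/
noncomputable def embO : O⁺ →* O where
  toFun g := mkIso (fromBlocks 1 0 0 (mat _ g)) (fromBlocks 1 0 0 (mat _ g⁻¹))
    (by rw [fromBlocks_multiply]; simp [← mat_mul, mat_one])
    (fun z x y => by
      rw [embMat_mulVec]
      conv_lhs => rw [← Sum.elim_comp_inl_inr (mat (plusQ n F) g *ᵥ Sum.elim x y)]
      change oddQ n F (vec z _ _) = _
      rw [oddQ_vec, oddQ_vec, ← Plus.plusQ_elim, Sum.elim_comp_inl_inr, quad_mulVec, Plus.plusQ_elim])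
  map_one' := mat_ext _ (show fromBlocks 1 0 0 (mat _ (1 : O⁺)) = 1 by rw [mat_one, fromBlocks_one])
  map_mul' g h := mat_ext _ (show fromBlocks 1 0 0 (mat _ (g * h)) =
    fromBlocks 1 0 0 (mat _ g) * fromBlocks 1 0 0 (mat _ h) by rw [fromBlocks_multiply]; simp [mat_mul])

theorem mat_embO (g : O⁺) : mat (oddQ n F) (embO g) = fromBlocks 1 0 0 (mat _ g) := rfl

theorem embO_mem {g : O⁺} (h : g ∈ Cfsg.Omega F ⇑(plusQ n F)) : embO g ∈ Cfsg.Omega F ⇑(oddQ n F) := by
  have : (commutator O⁺).map embO ≤ commutator O := by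
    rw [commutator_def, commutator_def, Subgroup.map_commutator]
    exact Subgroup.commutator_mono le_top le_top
  exact this ⟨g, h, rfl⟩

/-- `diag(1, A, A⁻ᵀ)`. -/
noncomputable def levi : GL (Fin n) F →* O := embO.comp Plus.levi

theorem levi_act (A : GL (Fin n) F) (z : F) (x y : Fin n → F) :
    mat (oddQ n F) (levi A) *ᵥ vec z x y = vec z (A.1 *ᵥ x) ((A⁻¹).1ᵀ *ᵥ y) := by
  show mat (oddQ n F) (embO (Plus.levi A)) *ᵥ _ = _
  rw [mat_embO, embMat_mulVec, Plus.mat_levi, fromBlocks_mulVec]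
  simp [vec]

/-- The swap of `V⁺` and `V⁻`. -/
noncomputable def flip : O := embO (Plus.swap Finset.univ)

theorem flip_act (z : F) (x y : Fin n → F) :
    mat (oddQ n F) (flip : O) *ᵥ vec z x y = vec z y x := by
  show mat (oddQ n F) (embO (Plus.swap Finset.univ)) *ᵥ _ = _
  rw [mat_embO, embMat_mulVec, Plus.mat_swap, fromBlocks_mulVec]
  have h0 : (Plus.indC (Finset.univ : Finset (Fin n)) : Fin n → F) = 0 := funext fun i => by simp [Plus.indC]
  have h1 : (Plus.ind (Finset.univ : Finset (Fin n)) : Fin n → F) = 1 := funext fun i => by simp [Plus.ind]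
  simp [-fromBlocks_diagonal, h0, h1, vec, diagonal_zero', diagonal_one]

/-- The matrix of a radical element. -/
def upMat (b : Fin n → F) (S : Matrix (Fin n) (Fin n) F) : Mat :=
  fromBlocks 1 (Matrix.of fun _ => Sum.elim 0 b) (Matrix.of fun i _ => Sum.elim ((-2 : F) • b) 0 i)
    (fromBlocks 1 (S - vecMulVec b b) 0 1)

theorem upMat_act (b : Fin n → F) (S : Matrix (Fin n) (Fin n) F) (z : F) (x y : Fin n → F) :
    upMat b S *ᵥ vec z x y = vec (z + b ⬝ᵥ y) (x - (2 * z) • b + S *ᵥ y - (b ⬝ᵥ y) • b) y := by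
  funext i
  rcases i with u | i | i <;>
    simp [upMat, vec, mulVec, dotProduct, Fintype.sum_sum_type, Matrix.one_apply, vecMulVec_apply,
      Finset.sum_sub_distrib, Finset.sum_mul, sub_mul]
  have : ∑ a, b i * b a * y a = ∑ a, b a * y a * b i := Finset.sum_congr rfl fun a _ => by ring
  rw [this]
  ring

theorem quad_up (b : Fin n → F) (S : Matrix (Fin n) (Fin n) F) (h : IsAlt S) (z : F) (x y : Fin n → F) :
    oddQ n F (upMat b S *ᵥ vec z x y) = oddQ n F (vec z x y) := by
  rw [upMat_act, oddQ_vec, oddQ_vec]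
  simp only [sub_dotProduct, add_dotProduct, smul_dotProduct, smul_eq_mul]
  rw [dotProduct_comm (S *ᵥ y), h.quad]
  ring

theorem upMat_mul_neg (b : Fin n → F) (S : Matrix (Fin n) (Fin n) F) :
    upMat b S * upMat (-b) (-S) = 1 := mat_eq_of_vec fun z x y => by
  rw [← mulVec_mulVec, upMat_act, upMat_act, one_mulVec, vec_inj]
  refine ⟨by simp, ?_, rfl⟩
  simp only [neg_dotProduct, smul_neg, neg_mulVec, neg_smul]
  module

/-- The radical of the stabiliser of `V⁺`. -/
def up (b : Fin n → F) (S : Matrix (Fin n) (Fin n) F) (h : IsAlt S) : O :=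
  mkIso (upMat b S) (upMat (-b) (-S)) (upMat_mul_neg b S) (quad_up b S h)

theorem up_act (b : Fin n → F) (S : Matrix (Fin n) (Fin n) F) (h : IsAlt S) (z : F) (x y : Fin n → F) :
    mat (oddQ n F) (up b S h) *ᵥ vec z x y = vec (z + b ⬝ᵥ y) (x - (2 * z) • b + S *ᵥ y - (b ⬝ᵥ y) • b) y :=
  upMat_act b S z x y

theorem up_inv (b : Fin n → F) (S : Matrix (Fin n) (Fin n) F) (h : IsAlt S) :
    (up b S h : O)⁻¹ = up (-b) (-S) (Plus.isAlt_neg h) :=
  inv_eq_of_mul_eq_one_right (mat_ext _ (upMat_mul_neg b S))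

/-- The opposite radical. -/
noncomputable def low (b : Fin n → F) (S : Matrix (Fin n) (Fin n) F) (h : IsAlt S) : O :=
  flip * up b S h * flip

theorem low_act (b : Fin n → F) (S : Matrix (Fin n) (Fin n) F) (h : IsAlt S) (z : F) (x y : Fin n → F) :
    mat (oddQ n F) (low b S h) *ᵥ vec z x y =
      vec (z + b ⬝ᵥ x) x (y - (2 * z) • b + S *ᵥ x - (b ⬝ᵥ x) • b) := by
  rw [low, mat_mul, mat_mul, ← mulVec_mulVec, ← mulVec_mulVec, flip_act, up_act, flip_act]

theorem flip_inv : (flip : O)⁻¹ = flip :=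
  inv_eq_of_mul_eq_one_right (by rw [flip, ← map_mul, Plus.swap_mul_self, map_one])

theorem levi_sl_mem (hn : 3 ≤ n) (A : Matrix.SpecialLinearGroup (Fin n) F) :
    (levi (Matrix.SpecialLinearGroup.toGL A) : O) ∈ Cfsg.Omega F ⇑(oddQ n F) :=
  embO_mem (Plus.levi_sl_mem hn A)

theorem levi_mem_of_isSquare (hn : 3 ≤ n) (A : GL (Fin n) F) (h : IsSquare A.1.det) :
    (levi A : O) ∈ Cfsg.Omega F ⇑(oddQ n F) :=
  embO_mem (Plus.levi_mem_of_isSquare hn A h)

theorem up_zero_eq (S : Matrix (Fin n) (Fin n) F) (h : IsAlt S) : (up 0 S h : O) = embO (Plus.up S h) := by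
  refine mat_ext _ (mat_eq_of_vec fun z x y => ?_)
  rw [up_act, mat_embO, embMat_mulVec, Plus.mat_up, fromBlocks_mulVec]
  simp [vec]

theorem up_mem (hF : 9 ≤ Fintype.card F) (b : Fin n → F) (S : Matrix (Fin n) (Fin n) F) (h : IsAlt S) :
    (up b S h : O) ∈ Cfsg.Omega F ⇑(oddQ n F) := by
  obtain ⟨γ, hγ⟩ := exists_big_order hF
  have hc : (γ : F) - 1 ≠ 0 := sub_ne_zero.2 (by simpa using pow_ne_one hγ (i := 1) (by omega) (by omega))
  obtain ⟨b', rfl⟩ : ∃ b', b = ((γ : F) - 1) • b' :=
    ⟨((γ : F) - 1)⁻¹ • b, by rw [smul_smul, mul_inv_cancel₀ hc, one_smul]⟩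
  let c : GL (Fin n) F := Units.map (algebraMap F (Matrix (Fin n) (Fin n) F)).toMonoidHom γ
  have hc1 : c.1 = (γ : F) • (1 : Matrix (Fin n) (Fin n) F) := by
    show algebraMap F _ (γ : F) = _
    rw [Algebra.algebraMap_eq_smul_one]
  have hc2 : (c⁻¹).1 = ((γ : F))⁻¹ • (1 : Matrix (Fin n) (Fin n) F) := by
    show algebraMap F _ ((γ⁻¹ : Fˣ) : F) = _
    rw [Algebra.algebraMap_eq_smul_one, Units.val_inv_eq_inv_val]
  have e1 : (up (((γ : F) - 1) • b') S h : O) = up 0 S h * up (((γ : F) - 1) • b') 0 isAlt_zero := by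
    refine mat_ext _ (mat_eq_of_vec fun z x y => ?_)
    rw [mat_mul, ← mulVec_mulVec, up_act, up_act, up_act, vec_inj]
    refine ⟨by simp, ?_, rfl⟩
    simp
    abel
  have e2 : (up (((γ : F) - 1) • b') 0 isAlt_zero : O) = ⁅(levi c : O), up b' 0 isAlt_zero⁆ := by
    rw [commutatorElement_def, eq_mul_inv_iff_mul_eq, eq_mul_inv_iff_mul_eq]
    refine mat_ext _ (mat_eq_of_vec fun z x y => ?_)
    have hγ0 := γ.ne_zero
    simp only [mat_mul, ← mulVec_mulVec, levi_act, up_act, hc1, hc2, transpose_smul, transpose_one, smul_mulVec,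
      one_mulVec, dotProduct_smul, smul_eq_mul, zero_mulVec, add_zero, vec_inj]
    refine ⟨?_, ?_, ?_⟩
    · simp only [smul_dotProduct, smul_eq_mul]; field_simp; ring
    · funext i
      simp
      field_simp
      ring
    · trivial
  rw [e1, up_zero_eq, e2]
  exact Subgroup.mul_mem _ (embO_mem (Plus.up_mem hF S h))
    (Subgroup.commutator_mem_commutator (Subgroup.mem_top _) (Subgroup.mem_top _))

theorem low_mem (hF : 9 ≤ Fintype.card F) (b : Fin n → F) (S : Matrix (Fin n) (Fin n) F) (h : IsAlt S) :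
    (low b S h : O) ∈ Cfsg.Omega F ⇑(oddQ n F) := by
  have := (inferInstance : (commutator O).Normal).conj_mem _ (up_mem hF b S h) flip
  rwa [flip_inv] at this

theorem det_eq_one_of_mem {g : O} (hg : g ∈ Cfsg.Omega F ⇑(oddQ n F)) : (mat (oddQ n F) g).det = 1 := by
  let φ : O →* Fˣ := Matrix.GeneralLinearGroup.det.comp (Cfsg.isometryGroup F ⇑(oddQ n F)).subtype
  have h := Abelianization.commutator_subset_ker φ hg
  exact congrArg Units.val (MonoidHom.mem_ker.1 h)

theorem det_levi (A : GL (Fin n) F) : (mat (oddQ n F) (levi A)).det = 1 := by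
  show (mat (oddQ n F) (embO (Plus.levi A))).det = 1
  rw [mat_embO, Plus.mat_levi, det_fromBlocks_zero₂₁, det_one, one_mul, det_fromBlocks_zero₂₁, det_transpose,
    ← det_mul, ← Units.val_mul, mul_inv_cancel, Units.val_one, det_one]

theorem refl_embO (v : Fin n ⊕ Fin n → F) (hv : plusQ n F v ≠ 0) :
    ∃ hv' : oddQ n F (Sum.elim (fun _ => 0) v) ≠ 0,
      embO (reflIso (plusQ n F) v hv) = reflIso (oddQ n F) (Sum.elim (fun _ => 0) v) hv' := by
  have hQ : ∀ w : Fin n ⊕ Fin n → F, ∀ z : F, oddQ n F (Sum.elim (fun _ => z) w) = z * z + plusQ n F w := by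
    intro w z
    rw [← Sum.elim_comp_inl_inr w]
    exact (oddQ_vec z _ _).trans (by rw [Plus.plusQ_elim])
  refine ⟨by rw [hQ]; simpa using hv, mat_ext _ (mat_eq_of_vec fun z x y => ?_)⟩
  have hp : QuadraticMap.polar (⇑(oddQ n F)) (Sum.elim (fun _ => 0) v) (vec z x y) =
      QuadraticMap.polar (⇑(plusQ n F)) v (Sum.elim x y) := by
    have hadd : (Sum.elim (fun _ => (0 : F)) v : Idx → F) + vec z x y = Sum.elim (fun _ => z) (v + Sum.elim x y) := by
      funext i; rcases i with u | i <;> simp [vec]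
    rw [QuadraticMap.polar, QuadraticMap.polar, hadd, vec, hQ, hQ, hQ]
    ring
  rw [mat_embO, embMat_mulVec, mat_reflIso, mat_reflIso, reflectionMatrix_mulVec, reflectionMatrix_mulVec,
    refl_apply, refl_apply, hp, hQ]
  funext i
  rcases i with u | i <;> simp [vec]

theorem isSquare_of_levi_mem (hn : 3 ≤ n) (h2 : (2 : F) ≠ 0) (A : GL (Fin n) F)
    (h : (levi A : O) ∈ Cfsg.Omega F ⇑(oddQ n F)) : IsSquare A.1.det := by
  let i₀ : Fin n := ⟨0, by omega⟩
  let dU : Fˣ := Matrix.GeneralLinearGroup.det A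
  let s := Plus.single i₀ dU
  have hs : s.1.det = A.1.det := by
    show (diagonal (Function.update (1 : Fin n → F) i₀ (dU : F))).det = _
    rw [det_diagonal, Finset.prod_update_of_mem (Finset.mem_univ _)]
    simp [dU]
  let A₁ : Matrix.SpecialLinearGroup (Fin n) F := ⟨(A * s⁻¹).1, by
    have : (s⁻¹).1.det = (A.1.det)⁻¹ := by
      refine eq_inv_of_mul_eq_one_right ?_
      rw [← hs, ← det_mul, ← Units.val_mul, mul_inv_cancel, Units.val_one, det_one]
    rw [Units.val_mul, det_mul, this, mul_inv_cancel₀ ((Matrix.isUnit_iff_isUnit_det _).1 A.isUnit).ne_zero]⟩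
  have e : A = Matrix.SpecialLinearGroup.toGL A₁ * s := by
    refine Units.ext ?_
    show A.1 = (A * s⁻¹).1 * s.1
    rw [← Units.val_mul, inv_mul_cancel_right]
  rw [e, map_mul, Subgroup.mul_mem_cancel_left _ (levi_sl_mem hn A₁)] at h
  have hiso : (Plus.levi s : O⁺) = CfsgLib.AutPOmega.isoTorus (Pi.mulSingle i₀ dU) := by
    refine mat_ext _ ?_
    rw [Plus.mat_levi]
    show fromBlocks (diagonal _) 0 0 (diagonal _)ᵀ = Matrix.diagonal _
    rw [diagonal_transpose, fromBlocks_diagonal]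
    congr 1
    funext j
    rcases j with j | j <;> by_cases hj : j = i₀ <;>
      simp [CfsgLib.AutPOmega.torusDiag, Pi.mulSingle_apply, hj]
  obtain ⟨u, w, huw, hQuw⟩ := CfsgLib.AutPOmega.isReflProd_mulSingle i₀ dU
  have hu := huw.1 u (by simp)
  have hw := huw.1 w (by simp)
  have hg : (Plus.levi s : O⁺) = reflIso _ u hu * reflIso _ w hw := by
    rw [hiso]; exact mat_ext _ (by rw [huw.2]; simp [mat_mul, mat_reflIso])
  obtain ⟨hu', eu⟩ := refl_embO u hu
  obtain ⟨hw', ew⟩ := refl_embO w hw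
  have hprod : IsReflProd (oddQ n F) (levi s) [Sum.elim (fun _ => (0 : F)) u, Sum.elim (fun _ => (0 : F)) w] := by
    show IsReflProd _ (embO (Plus.levi s)) _
    rw [hg, map_mul, eu, ew]
    exact (IsReflProd.reflIso _ hu').mul (IsReflProd.reflIso _ hw')
  have hsq := ((mem_omega_iff h2 (oddQ_nondegenerate h2 n) hprod).1 h).2
  have hQ : ∀ v : Fin n ⊕ Fin n → F, oddQ n F (Sum.elim (fun _ => (0 : F)) v) = plusQ n F v := fun v => by
    rw [← Sum.elim_comp_inl_inr v]
    exact (oddQ_vec 0 _ _).trans (by rw [Plus.plusQ_elim]; ring)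
  simpa [hQ, hQuw, dU] using hsq

/-- The reflection of the middle vector, times `diag(-1)` on one pair. -/
noncomputable def rho (h2 : (2 : F) ≠ 0) (i : Fin n) : O :=
  reflIso (oddQ n F) (vec 1 0 0) (by rw [oddQ_vec]; simp) * levi (Plus.single i (-1))

theorem rho_act (h2 : (2 : F) ≠ 0) (i : Fin n) (z : F) (x y : Fin n → F) :
    mat (oddQ n F) (rho h2 i) *ᵥ vec z x y =
      vec (-z) (fun a => if a = i then -x a else x a) (fun a => if a = i then -y a else y a) := by
  rw [rho, mat_mul, ← mulVec_mulVec, levi_act, mat_reflIso, reflectionMatrix_mulVec, refl_apply]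
  have hpolar : ∀ (z : F) (x y : Fin n → F),
      QuadraticMap.polar (⇑(oddQ n F)) (vec 1 0 0) (vec z x y) = 2 * z := fun z x y => by
    have hadd : vec 1 (0 : Fin n → F) 0 + vec z x y = vec (1 + z) x y := by
      funext j; rcases j with u | j | j <;> simp [vec]
    rw [QuadraticMap.polar, hadd, oddQ_vec, oddQ_vec, oddQ_vec, dotProduct_zero]
    ring
  rw [hpolar, oddQ_vec, dotProduct_zero]
  have hd : ∀ (v : Fin n → F) (s : F), diagonal (Function.update (1 : Fin n → F) i s) *ᵥ v =
      fun a => if a = i then s * v a else v a := fun v s => by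
    funext a
    by_cases ha : a = i
    · subst ha; simp [mulVec_diagonal]
    · simp [mulVec_diagonal, ha]
  funext j
  rcases j with u | j | j
  · simp [vec]; ring
  · simp [vec, Plus.single, hd]
  · simp [vec, Plus.single, hd, diagonal_transpose]

theorem rho_class (h2 : (2 : F) ≠ 0) (i : Fin n) :
    Abelianization.of (rho h2 i) = Abelianization.of (embO (Plus.swap {i}) : O) := by
  have hu : oddQ n F (vec 0 (Pi.single i 1) (Pi.single i 1)) ≠ 0 := by rw [oddQ_vec]; simp
  obtain ⟨h, hh⟩ := exists_conj_reflIso (Q := oddQ n F) h2 hu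
    (show oddQ n F (vec (n := n) (1 : F) 0 0) ≠ 0 by rw [oddQ_vec]; simp) one_ne_zero
    (by rw [oddQ_vec, oddQ_vec]; simp)
  have e : (levi (Plus.single i (-1)) : O) =
      reflIso (oddQ n F) _ hu * embO (Plus.swap {i}) := by
    refine mat_ext _ (mat_eq_of_vec fun z x y => ?_)
    have hswap : mat (oddQ n F) (embO (Plus.swap {i}) : O) *ᵥ vec z x y =
        vec z (fun a => if a = i then y a else x a) (fun a => if a = i then x a else y a) := by
      rw [mat_embO, embMat_mulVec, Plus.mat_swap, fromBlocks_mulVec]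
      funext j
      rcases j with u | j | j
      · rfl
      all_goals by_cases hj : j = i <;> simp [vec, Plus.ind, Plus.indC, mulVec_diagonal, hj]
    rw [mat_mul, ← mulVec_mulVec, hswap, levi_act, mat_reflIso, reflectionMatrix_mulVec, refl_apply]
    have hpolar : ∀ (z : F) (x y : Fin n → F),
        QuadraticMap.polar (⇑(oddQ n F)) (vec 0 (Pi.single i 1) (Pi.single i 1)) (vec z x y) = x i + y i :=
      fun z x y => by
      have hadd : vec 0 (Pi.single i (1 : F)) (Pi.single i 1) + vec z x y =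
          vec z (Pi.single i 1 + x) (Pi.single i 1 + y) := by
        funext j; rcases j with u | j | j <;> simp [vec]
      rw [QuadraticMap.polar, hadd, oddQ_vec, oddQ_vec, oddQ_vec]
      simp
      ring
    rw [hpolar, oddQ_vec]
    funext j
    rcases j with u | j | j
    · simp [vec]
    all_goals by_cases hj : j = i <;>
      simp [vec, Plus.single, mulVec_diagonal, diagonal_transpose, hj]
  have e' : Abelianization.of (reflIso (oddQ n F) (vec (n := n) (1 : F) 0 0) (by rw [oddQ_vec]; simp)) =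
      Abelianization.of (reflIso (oddQ n F) _ hu) := by
    rw [← hh, map_mul, map_mul, map_inv, mul_comm (Abelianization.of h), mul_inv_cancel_right]
  rw [rho, map_mul, e', e, map_mul, ← mul_assoc, ← map_mul,
    show reflIso (oddQ n F) _ hu * reflIso (oddQ n F) _ hu = 1 from mat_ext _ (reflectionMatrix_mul_self _ hu),
    map_one, one_mul]

/-- The flip, corrected to lie in `Ω`. -/
theorem flip_rho_mem (h2 : (2 : F) ≠ 0) (i : Fin n) :
    flip * rho h2 i ^ n ∈ Cfsg.Omega F ⇑(oddQ n F) := by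
  classical
  have hs : ∀ T : Finset (Fin n),
      Abelianization.of (embO (Plus.swap T) : O) = Abelianization.of (embO (Plus.swap {i}) : O) ^ T.card := by
    intro T
    induction T using Finset.induction with
    | empty =>
      rw [Finset.card_empty, pow_zero, ← map_one Abelianization.of]
      refine congrArg _ ?_
      rw [← map_one embO]
      refine congrArg _ (mat_ext _ ?_)
      rw [Plus.mat_swap, mat_one, ← fromBlocks_one, ← diagonal_one, ← diagonal_zero]; rfl
    | insert a T ha ih =>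
      obtain ⟨σ, hσ⟩ := Plus.swap_single_conj (F := F) a i
      have e : Abelianization.of (embO (Plus.swap {a}) : O) = Abelianization.of (embO (Plus.swap {i}) : O) := by
        have := congrArg (fun g => Abelianization.of (embO g : O)) hσ
        simp only [map_mul] at this
        rw [mul_comm] at this
        exact mul_right_cancel this
      rw [Plus.swap_insert ha, map_mul, map_mul, ih, e, Finset.card_insert_of_notMem ha, pow_succ]
  rw [Cfsg.Omega, ← Abelianization.ker_of, MonoidHom.mem_ker, map_mul, map_pow, rho_class, flip, hs,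
    Finset.card_univ, Fintype.card_fin, ← mul_pow, ← map_mul, ← map_mul, Plus.swap_mul_self, map_one, map_one,
    one_pow]

end CfsgLib.ClassSquare.OddO
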