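import Cfsg.Agent.ClassSquare.Split
import Cfsg.Agent.ClassSquare.OrthPlusCell

/-!
# `PΩ⁺_{2n}` is the square of a class

The element is `diag(λ,…,λ,1, λ⁻¹,…,λ⁻¹,1)` times a regular unipotent of the first block.
-/

set_option autoImplicit false
set_option linter.unusedSectionVars false
set_option linter.style.haveILetI false

namespace CfsgLib.ClassSquare.Plus

open Matrix CfsgLib.SourourProduct CfsgLib.Spinor CfsgLib.StdForms

variable {F : Type*} [Field F] [Fintype F] {k : ℕ}

/-- The value at a level. -/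
def plVal (γ : F) (r : ℤ) : F := if r = 0 then γ * γ else if r = 4 then (γ * γ)⁻¹ else 1

theorem plVal_ne {γ : Fˣ} (hγ : 8 ≤ orderOf γ) :
    plVal (γ : F) 0 ≠ 1 ∧ plVal (γ : F) 4 ≠ 1 ∧ plVal (γ : F) 0 ≠ plVal (γ : F) 4 := by
  have h2 : (γ : F) * γ ≠ 1 := by simpa [pow_two] using pow_ne_one hγ (i := 2) (by omega) (by omega)
  have h4 := pow_ne_one hγ (i := 4) (by omega) (by omega)
  have h0 := γ.ne_zero
  refine ⟨by simpa [plVal] using h2, fun e => h2 (inv_eq_one.1 e), fun e => h4 ?_⟩
  simp [plVal] at e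
  field_simp at e
  linear_combination e

local notation "Idx" => Empty ⊕ (Fin (k + (0 + 1)) ⊕ Fin (k + (0 + 1)))
set_option quotPrecheck false in
local notation "ΩG" => ↥(Cfsg.Omega F ⇑(plusQ (k + (0 + 1)) F))

/-- The coordinates, padded with an empty middle part. -/
noncomputable def toSplit : ΩG →* Matrix Idx Idx F where
  toFun g := (mat _ g.1).submatrix (Equiv.emptySum Empty _) (Equiv.emptySum Empty _)
  map_one' := Matrix.submatrix_one_equiv _
  map_mul' a b := (Matrix.submatrix_mul_equiv (mat _ a.1) (mat _ b.1) _ (Equiv.emptySum Empty _) _).symm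

theorem toSplit_inr (g : ΩG) (i j : Fin (k + (0 + 1)) ⊕ Fin (k + (0 + 1))) :
    toSplit g (Sum.inr i) (Sum.inr j) = mat _ g.1 i j := rfl

theorem toSplit_injective : Function.Injective (toSplit (F := F) (k := k)) := fun a b h =>
  Subtype.ext (mat_ext _ (Matrix.ext fun i j => by
    have e := congrFun (congrFun h (Sum.inr i)) (Sum.inr j)
    rwa [toSplit_inr, toSplit_inr] at e))

/-- `SL_n` in `Ω`. -/
noncomputable def leviSL (hk : 2 ≤ k) : Matrix.SpecialLinearGroup (Fin (k + (0 + 1))) F →* ΩG :=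
  MonoidHom.codRestrict (levi.comp Matrix.SpecialLinearGroup.toGL) _ fun A => levi_sl_mem (by omega) A

theorem mat_leviSL (hk : 2 ≤ k) (A : Matrix.SpecialLinearGroup (Fin (k + (0 + 1))) F) :
    mat _ (leviSL hk A).1 = fromBlocks (A : Matrix (Fin (k + (0 + 1))) (Fin (k + (0 + 1))) F) 0 0
      ((A⁻¹ : Matrix.SpecialLinearGroup (Fin (k + (0 + 1))) F) : Matrix (Fin (k + (0 + 1))) (Fin (k + (0 + 1))) F)ᵀ := by
  show mat _ (levi (Matrix.SpecialLinearGroup.toGL A)) = _
  rw [mat_levi, ← map_inv]
  rfl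

theorem toSplit_leviSL (hk : 2 ≤ k) (A : Matrix.SpecialLinearGroup (Fin (k + (0 + 1))) F) :
    toSplit (leviSL hk A) = splitLevi (A : Matrix (Fin (k + (0 + 1))) (Fin (k + (0 + 1))) F)
      ((A⁻¹ : Matrix.SpecialLinearGroup (Fin (k + (0 + 1))) F) : Matrix (Fin (k + (0 + 1))) (Fin (k + (0 + 1))) F)ᵀ := by
  ext i j
  rcases i with i | i
  · exact i.elim
  rcases j with j | j
  · exact j.elim
  rw [toSplit_inr, mat_leviSL]
  rfl

theorem kill_plus {γ : Fˣ} (hγ : 8 ≤ orderOf γ) (g : ΩG)
    (hg : UniTri (splitR Empty k) (toSplit g) ∨ UniTri (fun i => -splitR Empty k i) (toSplit g))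
    (hc : diagonal (fun i => plVal (γ : F) (splitR Empty k i)) * toSplit g =
      toSplit g * diagonal (fun i => plVal (γ : F) (splitR Empty k i))) : g = 1 := by
  obtain ⟨hv0, hv4, hv04⟩ := plVal_ne hγ
  refine toSplit_injective ?_
  rw [map_one]
  let M := toSplit g
  have hoff : ∀ i j, plVal (γ : F) (splitR Empty k i) ≠ plVal (γ : F) (splitR Empty k j) → M i j = 0 :=
    fun i j h => eq_one_apply_of_commute_diag hc h
  have hsame : ∀ i j, splitR Empty k i = splitR Empty k j → M i j = (1 : Matrix _ _ F) i j := fun i j h => by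
    rcases hg with hg | hg
    · exact (uniTri_iff.1 hg) i j h.le
    · exact (uniTri_iff.1 hg) i j (by simp [h])
  set lst : Fin (k + (0 + 1)) := Fin.natAdd k 0 with hlst
  have hlast : ∀ i : Fin (k + (0 + 1)), rk k 0 i = 0 ∨ i = lst := fun i => by
    induction i using Fin.addCases with
    | left i => exact Or.inl (rk_castAdd i)
    | right i => exact Or.inr (by rw [hlst, Fin.fin_one_eq_zero i])
  have hrl : rk k 0 lst = 1 := by simp [hlst, rk_natAdd]
  have hone : plVal (γ : F) 1 = 1 ∧ plVal (γ : F) 3 = 1 := by simp [plVal]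
  have hcol : ∀ (s : Fin (k + (0 + 1)) ⊕ Fin (k + (0 + 1))), s = Sum.inl lst ∨ s = Sum.inr lst →
      ∀ v, v ≠ Sum.inr (Sum.inl lst) → v ≠ Sum.inr (Sum.inr lst) → M v (Sum.inr s) = 0 := by
    intro s hs v hv1 hv2
    refine hoff v _ ?_
    have hs1 : plVal (γ : F) (splitR Empty k (Sum.inr s)) = 1 := by
      rcases hs with rfl | rfl <;> simp [splitR, hrl, hone.1, hone.2]
    rw [hs1]
    rcases v with v | v | v
    · exact v.elim
    · rcases hlast v with h | rfl
      · simpa [splitR, h] using hv0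
      · exact absurd rfl hv1
    · rcases hlast v with h | rfl
      · simpa [splitR, h] using hv4
      · exact absurd rfl hv2
  have hpair : M (Sum.inr (Sum.inr lst)) (Sum.inr (Sum.inl lst)) = 0 ∧
      M (Sum.inr (Sum.inl lst)) (Sum.inr (Sum.inr lst)) = 0 := by
    have hQ : ∀ s : Fin (k + (0 + 1)) ⊕ Fin (k + (0 + 1)), (∑ i, M (Sum.inr (Sum.inl i)) (Sum.inr s) *
        M (Sum.inr (Sum.inr i)) (Sum.inr s)) = plusQ _ F (Pi.single s 1) := fun s => by
      rw [← quad_mulVec _ g.1 (Pi.single s 1), mulVec_single_one, plusQ_apply]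
      rfl
    have h1 := hQ (Sum.inl lst)
    have h2 := hQ (Sum.inr lst)
    rw [Finset.sum_eq_single lst (fun i _ hi => by
      rw [hcol _ (Or.inl rfl) _ (by simp [hi]) (by simp), zero_mul]) (fun h => absurd (Finset.mem_univ _) h),
      hsame (Sum.inr (Sum.inl lst)) (Sum.inr (Sum.inl lst)) rfl, one_apply_eq, one_mul] at h1
    rw [Finset.sum_eq_single lst (fun i _ hi => by
      rw [hcol _ (Or.inr rfl) _ (by simp [hi]) (by simp), zero_mul]) (fun h => absurd (Finset.mem_univ _) h),
      hsame (Sum.inr (Sum.inr lst)) (Sum.inr (Sum.inr lst)) rfl, one_apply_eq, mul_one] at h2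
    exact ⟨h1.trans (by simp [plusQ_apply, Cfsg.quadFormPlus, Pi.single_apply]),
      h2.trans (by simp [plusQ_apply, Cfsg.quadFormPlus, Pi.single_apply])⟩
  show M = 1
  ext i j
  by_cases h : splitR Empty k i = splitR Empty k j
  · exact hsame i j h
  by_cases hv : plVal (γ : F) (splitR Empty k i) = plVal (γ : F) (splitR Empty k j)
  swap
  · rw [hoff i j hv, one_apply_ne fun e => h (by rw [e])]
  rw [one_apply_ne fun e => h (by rw [e])]
  rcases i with i | i | i
  · exact i.elim
  all_goals rcases j with j | j | j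
  · exact j.elim
  · rcases hlast i with hi | rfl <;> rcases hlast j with hj | rfl
    · simp [splitR, hi, hj] at h
    · simp [splitR, hi, hrl, hone.1, hv0] at hv
    · simp [splitR, hj, hrl, hone.1, Ne.symm hv0] at hv
    · simp at h
  · rcases hlast i with hi | rfl <;> rcases hlast j with hj | rfl
    · simp [splitR, hi, hj, hv04] at hv
    · simp [splitR, hi, hrl, hone.2, hv0] at hv
    · simp [splitR, hj, hrl, hone.1, Ne.symm hv4] at hv
    · exact hpair.2
  · exact j.elim
  · rcases hlast i with hi | rfl <;> rcases hlast j with hj | rfl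
    · simp [splitR, hi, hj, Ne.symm hv04] at hv
    · simp [splitR, hi, hrl, hone.1, hv4] at hv
    · simp [splitR, hj, hrl, hone.2, Ne.symm hv0] at hv
    · exact hpair.1
  · rcases hlast i with hi | rfl <;> rcases hlast j with hj | rfl
    · simp [splitR, hi, hj] at h
    · simp [splitR, hi, hrl, hone.2, hv4] at hv
    · simp [splitR, hj, hrl, hone.2, Ne.symm hv4] at hv
    · simp at h

theorem real_plus (hk : 2 ≤ k) {γ : Fˣ} (τ : ΩG)
    (hτ : mat _ τ.1 = fromBlocks (diagonal fun i => plVal (γ : F) (rk k 0 i)) 0 0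
      (diagonal fun i => plVal (γ : F) (4 - rk k 0 i)))
    (hτ' : mat _ (τ⁻¹).1 = fromBlocks (diagonal fun i => plVal (γ : F) (4 - rk k 0 i)) 0 0
      (diagonal fun i => plVal (γ : F) (rk k 0 i))) :
    IsConj (τ * leviSL hk (blockJSL k 0)) (τ⁻¹ * leviSL hk (blockJSL k 0)) := by
  let c : Fin (0 + 1) → F := fun _ => if Even k then 0 else 1
  let T : Finset (Fin (k + (0 + 1))) := Finset.univ.filter fun i => i.val < k ∨ ¬ Even k
  have hT : Even T.card := by
    by_cases hev : Even k
    · have : T = Finset.univ.map (Fin.castAddEmb (0 + 1)) := by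
        ext i
        induction i using Fin.addCases with
        | left i => simp [T, hev, Fin.castAddEmb]; exact ⟨i, rfl⟩
        | right i => simp [T, hev, Fin.castAddEmb, Fin.ext_iff]; omega
      rw [this, Finset.card_map, Finset.card_fin]; exact hev
    · rw [show T = Finset.univ by ext; simp [T, hev], Finset.card_fin, Nat.even_add_one]; exact hev
  have hind : diagonal (ind T) = emb (1 : Matrix (Fin k) (Fin k) F) (diagonal c) := by
    rw [emb, ← diagonal_one, fromBlocks_diagonal, submatrix_diagonal_equiv]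
    refine congrArg _ (funext fun i => ?_)
    induction i using Fin.addCases with
    | left i => simp [T, ind]
    | right i => by_cases hev : Even k <;> simp [T, ind, c, hev]
  have hindC : diagonal (indC T) = emb (0 : Matrix (Fin k) (Fin k) F) (diagonal fun i => 1 - c i) := by
    rw [emb, ← diagonal_zero, fromBlocks_diagonal, submatrix_diagonal_equiv]
    refine congrArg _ (funext fun i => ?_)
    induction i using Fin.addCases with
    | left i => simp [T, indC]
    | right i => by_cases hev : Even k <;> simp [T, indC, c, hev]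
  obtain ⟨P, hP, hPJ⟩ := exists_conj_jordan_inv_transpose (F := F) k
  have hJu : IsUnit (jordan k : Matrix (Fin k) (Fin k) F).det := by
    rw [det_upper (isUpper_jordan k)]; exact isUnit_one
  let Js : Matrix.SpecialLinearGroup (Fin (k + (0 + 1))) F := ⟨emb ((jordan k)⁻¹)ᵀ 1, by
    rw [det_emb, det_transpose, det_nonsing_inv, det_upper (isUpper_jordan k)]; simp⟩
  let G : Matrix.SpecialLinearGroup (Fin (k + (0 + 1))) F := ⟨emb P (diagonal fun _ => P.det⁻¹), by
    rw [det_emb, det_diagonal]; simp [mul_inv_cancel₀ hP]⟩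
  have hGJ : G * Js = blockJSL k 0 * G := by
    refine Subtype.ext ?_
    show emb P _ * emb _ _ = emb _ _ * emb P _
    rw [emb_mul, emb_mul, hPJ, Matrix.mul_one, Matrix.one_mul]
  have hJinv : (((blockJSL k 0)⁻¹ : Matrix.SpecialLinearGroup (Fin (k + (0 + 1))) F) :
      Matrix (Fin (k + (0 + 1))) (Fin (k + (0 + 1))) F) = emb (jordan k)⁻¹ 1 := by
    refine left_inv_eq_right_inv (a := blockJ k 0) ?_ ?_
    · show ((blockJSL k 0)⁻¹ * blockJSL k 0 : Matrix.SpecialLinearGroup (Fin (k + (0 + 1))) F).1 = 1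
      rw [inv_mul_cancel]; rfl
    · rw [blockJ, emb_mul, Matrix.mul_nonsing_inv _ hJu, Matrix.one_mul, emb_one]
  have hJsinv : ((Js⁻¹ : Matrix.SpecialLinearGroup (Fin (k + (0 + 1))) F) :
      Matrix (Fin (k + (0 + 1))) (Fin (k + (0 + 1))) F) = emb (jordan k)ᵀ 1 := by
    refine left_inv_eq_right_inv (a := (Js : Matrix (Fin (k + (0 + 1))) (Fin (k + (0 + 1))) F)) ?_ ?_
    · show (Js⁻¹ * Js : Matrix.SpecialLinearGroup (Fin (k + (0 + 1))) F).1 = 1
      rw [inv_mul_cancel]; rfl
    · show emb _ 1 * emb _ 1 = 1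
      rw [emb_mul, ← transpose_mul, Matrix.mul_nonsing_inv _ hJu, transpose_one, Matrix.one_mul, emb_one]
  have embT : ∀ (X : Matrix (Fin k) (Fin k) F),
      (emb X (1 : Matrix (Fin (0 + 1)) (Fin (0 + 1)) F))ᵀ = emb Xᵀ 1 := fun X => by
    rw [emb, emb, transpose_submatrix, fromBlocks_transpose, transpose_zero, transpose_zero, transpose_one]
  have embAdd : ∀ (X X' : Matrix (Fin k) (Fin k) F) (Y Y' : Matrix (Fin (0 + 1)) (Fin (0 + 1)) F),
      emb X Y + emb X' Y' = emb (X + X') (Y + Y') := fun X X' Y Y' => by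
    ext i j
    rcases h1 : finSumFinEquiv.symm i with i' | i' <;> rcases h2 : finSumFinEquiv.symm j with j' | j' <;>
      simp [emb, h1, h2]
  let w : ΩG := ⟨swap T, swap_mem_omega hT⟩
  have hwJ : w * leviSL hk (blockJSL k 0) * w⁻¹ = leviSL hk Js := by
    refine Subtype.ext (mat_ext _ ?_)
    show mat _ (swap T * (leviSL hk (blockJSL k 0)).1 * (swap T)⁻¹) = mat _ (leviSL hk Js).1
    rw [swap_inv, mat_mul, mat_mul, mat_swap, mat_leviSL, mat_leviSL]
    show _ * fromBlocks (blockJ k 0) 0 0 _ * _ = fromBlocks (emb ((jordan k)⁻¹)ᵀ 1) 0 0 _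
    rw [hJinv, hJsinv, embT, embT, transpose_transpose, hind, hindC, blockJ]
    have hz : (emb (0 : Matrix (Fin k) (Fin k) F) (0 : Matrix (Fin (0 + 1)) (Fin (0 + 1)) F)) = 0 := by
      simp [emb]
    simp only [fromBlocks_multiply, Matrix.zero_mul, Matrix.mul_zero, add_zero, zero_add, emb_mul,
      Matrix.one_mul, Matrix.mul_one, embAdd, diagonal_mul_diagonal, diagonal_add]
    rw [fromBlocks_inj]
    refine ⟨?_, ?_, ?_, ?_⟩ <;>
      by_cases hev : Even k <;> simp [c, hev, hz, diagonal_one]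
  have hwτ : w * τ * w⁻¹ = τ⁻¹ := by
    refine Subtype.ext (mat_ext _ ?_)
    show mat _ (swap T * τ.1 * (swap T)⁻¹) = mat _ (τ⁻¹).1
    rw [swap_inv, mat_mul, mat_mul, mat_swap, hτ, hτ']
    simp only [fromBlocks_multiply, Matrix.zero_mul, Matrix.mul_zero, add_zero, zero_add,
      diagonal_mul_diagonal, diagonal_add]
    rw [fromBlocks_inj]
    refine ⟨?_, ?_, ?_, ?_⟩ <;> ext i j <;> rcases eq_or_ne i j with rfl | hij <;>
      first
        | simp [hij]
        | (simp only [diagonal_apply_eq, Matrix.zero_apply]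
           induction i using Fin.addCases with
           | left i => simp [T, ind, indC, rk_castAdd, plVal]
           | right i => by_cases hev : Even k <;> simp [T, ind, indC, rk_natAdd, plVal, hev])
  have hcomm : Commute (leviSL hk G) τ := by
    refine Subtype.ext (mat_ext _ ?_)
    show mat _ ((leviSL hk G).1 * τ.1) = mat _ (τ.1 * (leviSL hk G).1)
    have hG : BD k 0 G := ⟨emb_blockDiag P _, blockDiag_hom_inv (f := slHom (F := F) _) (emb_blockDiag P _)⟩
    have h1 := fun (v : ℤ → F) => (blockDiag_commute_diag (d := fun i => v (rk k 0 i))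
      (fun i j h => by simp only [h]) hG.1).eq
    have hG2 : BlockDiag (rk k 0) ((G⁻¹ : Matrix.SpecialLinearGroup (Fin (k + (0 + 1))) F) :
        Matrix (Fin (k + (0 + 1))) (Fin (k + (0 + 1))) F)ᵀ := fun i j h => hG.2 j i (Ne.symm h)
    have h2 := fun (v : ℤ → F) => (blockDiag_commute_diag (d := fun i => v (4 - rk k 0 i))
      (fun i j h => by simp only [h]) hG2).eq
    rw [mat_mul, mat_mul, hτ, mat_leviSL, fromBlocks_multiply, fromBlocks_multiply]
    simp only [Matrix.zero_mul, Matrix.mul_zero, add_zero, zero_add]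
    rw [h1 (plVal (γ : F)), h2 (plVal (γ : F))]
  exact isConj_of_parts hcomm hwτ hwJ (by rw [← map_mul, hGJ, map_mul])

theorem hasClassSquare_pOmega (hF : 9 ≤ Fintype.card F) (hk : 2 ≤ k) :
    HasClassSquare (ΩG ⧸ Subgroup.center ΩG) := by
  classical
  obtain ⟨γ, hγ⟩ := exists_big_order hF
  let a : Fin (k + (0 + 1)) → Fˣ := fun i => if rk k 0 i = 0 then γ else 1
  let t : GL (Fin (k + (0 + 1))) F := ⟨diagonal fun i => (a i : F), diagonal fun i => (((a i)⁻¹ : Fˣ) : F),
    by rw [diagonal_mul_diagonal, ← diagonal_one]; congr 1; funext i; simp,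
    by rw [diagonal_mul_diagonal, ← diagonal_one]; congr 1; funext i; simp⟩
  let τ : ΩG := ⟨levi (t * t), levi_diag_sq_mem t _ _ rfl rfl⟩
  have ht : (t * t).1 = diagonal fun i => plVal (γ : F) (rk k 0 i) := by
    rw [Units.val_mul]
    show diagonal _ * diagonal _ = _
    rw [diagonal_mul_diagonal]
    refine congrArg _ (funext fun i => ?_)
    have h1 := rk_nonneg i; have h2 := rk_le_last i
    rcases (show rk k 0 i = 0 ∨ rk k 0 i = 1 by omega) with h | h <;> simp [a, h, plVal]
  have ht' : ((t * t)⁻¹).1 = diagonal fun i => plVal (γ : F) (4 - rk k 0 i) := by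
    rw [_root_.mul_inv_rev, Units.val_mul]
    show diagonal _ * diagonal _ = _
    rw [diagonal_mul_diagonal]
    refine congrArg _ (funext fun i => ?_)
    have h1 := rk_nonneg i; have h2 := rk_le_last i
    rcases (show rk k 0 i = 0 ∨ rk k 0 i = 1 by omega) with h | h <;> simp [a, h, plVal]
  have hτ : mat _ τ.1 = fromBlocks (diagonal fun i => plVal (γ : F) (rk k 0 i)) 0 0
      (diagonal fun i => plVal (γ : F) (4 - rk k 0 i)) := by
    show mat _ (levi (t * t)) = _
    rw [mat_levi, ht, ht', diagonal_transpose]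
  have hτ' : mat _ (τ⁻¹).1 = fromBlocks (diagonal fun i => plVal (γ : F) (4 - rk k 0 i)) 0 0
      (diagonal fun i => plVal (γ : F) (rk k 0 i)) := by
    show mat _ (levi (t * t))⁻¹ = _
    rw [← map_inv, mat_levi, inv_inv, ht, ht', diagonal_transpose]
  refine hasClassSquare_split hk hF toSplit (leviSL hk) (toSplit_leviSL hk) toSplit_injective τ (plVal (γ : F)) ?_
    (fun g hg hc => kill_plus hγ g hg hc) (real_plus hk τ hτ hτ') (fun g hg => ?_)
  · ext i j
    rcases i with i | i
    · exact i.elim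
    rcases j with j | j
    · exact j.elim
    rw [toSplit_inr, hτ, fromBlocks_diagonal]
    by_cases h : i = j
    · subst h
      rw [diagonal_apply_eq, diagonal_apply_eq]
      rcases i with i | i <;> rfl
    · rw [diagonal_apply_ne _ h, diagonal_apply_ne _ fun e => h (Sum.inr_injective e)]
  · obtain ⟨A, h, S₁, S₂, h₁, h₂, hA, hgh, hh⟩ := exists_conj_big_cell (by omega) hF hg
    refine ⟨A, ⟨low S₁ h₁, low_mem hF _ h₁⟩, ⟨up S₂ h₂, up_mem hF _ h₂⟩, hA, ?_, ?_, ?_⟩
    · rw [uniTri_iff]
      rintro (i | i | i) (j | j | j) hij <;> first | exact i.elim | exact j.elim | skip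
      all_goals rw [toSplit_inr, mat_low]
      all_goals simp [splitCoarse, Matrix.one_apply] at hij ⊢
    · rw [uniTri_iff]
      rintro (i | i | i) (j | j | j) hij <;> first | exact i.elim | exact j.elim | skip
      all_goals rw [toSplit_inr, mat_up]
      all_goals simp [splitCoarse, Matrix.one_apply] at hij ⊢
    · have : h = ⟨low S₁ h₁, low_mem hF _ h₁⟩ * leviSL hk A * ⟨up S₂ h₂, up_mem hF _ h₂⟩ := Subtype.ext hh
      rwa [← this]

end CfsgLib.ClassSquare.Plus
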