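import Cfsg.Agent.ClassSquare.Levels
import Cfsg.Agent.ClassSquare.Field

/-!
# Groups of matrices for a split form, with a middle part

The matrices are indexed by `M ⊕ (Fin n ⊕ Fin n)`, the Levi subgroup is `diag(1, A, A⁻ᵀ)`.
-/

set_option autoImplicit false
set_option linter.unusedSectionVars false
set_option linter.style.haveILetI false

namespace CfsgLib.ClassSquare

open Matrix CfsgLib.SourourProduct

variable {F : Type*} [Field F] [Fintype F] {M : Type*} [Fintype M] [DecidableEq M]

/-- The levels of `V⁺`, middle, `V⁻`. -/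
def splitCoarse (M : Type*) (N : ℕ) : M ⊕ (Fin N ⊕ Fin N) → ℤ :=
  Sum.elim (fun _ => 1) (Sum.elim (fun _ => 0) fun _ => 2)

/-- The fine levels. -/
def splitR (M : Type*) (k : ℕ) : M ⊕ (Fin (k + (0 + 1)) ⊕ Fin (k + (0 + 1))) → ℤ :=
  Sum.elim (fun _ => 2) (Sum.elim (fun i => rk k 0 i) fun i => 4 - rk k 0 i)

/-- The matrix of a Levi element. -/
def splitLevi {N : ℕ} (X Y : Matrix (Fin N) (Fin N) F) :
    Matrix (M ⊕ (Fin N ⊕ Fin N)) (M ⊕ (Fin N ⊕ Fin N)) F :=
  fromBlocks 1 0 0 (fromBlocks X 0 0 Y)

theorem blockDiag_splitLevi {N : ℕ} (X Y : Matrix (Fin N) (Fin N) F) :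
    BlockDiag (splitCoarse M N) (splitLevi (M := M) X Y) := by
  rintro (i | i | i) (j | j | j) h <;> simp [splitCoarse, splitLevi] at h ⊢

theorem splitR_mem {k : ℕ} (i : M ⊕ (Fin (k + (0 + 1)) ⊕ Fin (k + (0 + 1)))) :
    0 ≤ splitR M k i ∧ splitR M k i ≤ 4 := by
  rcases i with i | i | i
  · simp [splitR]
  all_goals
    have h1 := rk_nonneg i; have h2 := rk_le_last i; simp only [splitR, Sum.elim_inl, Sum.elim_inr]; omega

theorem splitCoarse_mono {k : ℕ} (i j : M ⊕ (Fin (k + (0 + 1)) ⊕ Fin (k + (0 + 1))))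
    (h : splitR M k i ≤ splitR M k j) :
    splitCoarse M (k + (0 + 1)) i ≤ splitCoarse M (k + (0 + 1)) j := by
  rcases i with i | i | i <;> rcases j with j | j | j <;> simp [splitR] at h <;> simp [splitCoarse]
  all_goals
    first
      | (have := rk_nonneg j; have := rk_le_last j; omega)
      | (have := rk_nonneg i; have := rk_le_last i; omega)
      | (have := rk_nonneg i; have := rk_le_last i; have := rk_nonneg j; have := rk_le_last j; omega)

/-- The class is that of `τ ι(J)`. -/
theorem hasClassSquare_split {H : Type*} [Group H] [Finite H] {k : ℕ} (hk : 2 ≤ k) (hF : 9 ≤ Fintype.card F)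
    (f : H →* Matrix (M ⊕ (Fin (k + (0 + 1)) ⊕ Fin (k + (0 + 1)))) (M ⊕ (Fin (k + (0 + 1)) ⊕ Fin (k + (0 + 1)))) F)
    (ι : Matrix.SpecialLinearGroup (Fin (k + (0 + 1))) F →* H)
    (hι : ∀ A : Matrix.SpecialLinearGroup (Fin (k + (0 + 1))) F, f (ι A) =
      splitLevi (A : Matrix (Fin (k + (0 + 1))) (Fin (k + (0 + 1))) F)
        (((A⁻¹ : Matrix.SpecialLinearGroup (Fin (k + (0 + 1))) F) : Matrix (Fin (k + (0 + 1))) (Fin (k + (0 + 1))) F)ᵀ))
    (hf : Function.Injective f) (τ : H) (val : ℤ → F)
    (hτ : f τ = Matrix.diagonal (fun i => val (splitR M k i)))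
    (kill : ∀ g : H, UniTri (splitR M k) (f g) ∨ UniTri (fun i => -splitR M k i) (f g) →
      Matrix.diagonal (fun i => val (splitR M k i)) * f g = f g * Matrix.diagonal (fun i => val (splitR M k i)) → g = 1)
    (real : IsConj (τ * ι (blockJSL k 0)) (τ⁻¹ * ι (blockJSL k 0)))
    (cover : ∀ g : H, g ∉ Subgroup.center H →
      ∃ (A : Matrix.SpecialLinearGroup (Fin (k + (0 + 1))) F) (u v : H),
        ¬ Scalar (A : Matrix (Fin (k + (0 + 1))) (Fin (k + (0 + 1))) F) ∧
        UniTri (splitCoarse M (k + (0 + 1))) (f u) ∧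
        UniTri (fun i => -splitCoarse M (k + (0 + 1)) i) (f v) ∧ IsConj g (u * ι A * v)) :
    HasClassSquare (H ⧸ Subgroup.center H) := by
  classical
  obtain ⟨p, hp⟩ := CharP.exists F
  haveI : Fact p.Prime := ⟨CharP.char_is_prime F p⟩
  have hbd : ∀ s : Matrix.SpecialLinearGroup (Fin (k + (0 + 1))) F, BD k 0 s → BlockDiag (splitR M k) (f (ι s)) := by
    intro s hs
    rw [hι]
    rintro (i | i | i) (j | j | j) h <;> simp [splitR] at h <;> simp [splitLevi]
    · exact hs.1 i j h
    · simpa using hs.2 j i (Ne.symm h)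
  let L : LeviData H (M ⊕ (Fin (k + (0 + 1)) ⊕ Fin (k + (0 + 1)))) F k 0 :=
    { f := f
      ι := ι
      R := splitR M k
      τ := τ
      d := fun i => val (splitR M k i)
      e := Sum.elim (fun _ => 0) (Sum.elim (fun i => i.val) (fun i => 2 * (k + (0 + 1)) - 1 - i.val))
      B := 2 * (k + (0 + 1))
      f_τ := hτ
      bd := hbd
      low := fun V hV => by
        have h2 := uniTri_iff.1 (uniTri_inv_transpose hV)
        have h1 := uniTri_iff.1 hV
        rw [hι, uniTri_iff]
        rintro (i | i | i) (j | j | j) hij <;> simp [splitR] at hij <;> simp [splitLevi, Matrix.one_apply]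
        · simpa [Matrix.one_apply] using h1 i j hij
        · simpa [Matrix.one_apply] using h2 i j (by omega)
      up := fun U hU => by
        have h2 := uniTri_iff.1 (uniTri_inv_transpose hU)
        have h1 := uniTri_iff.1 hU
        rw [hι, uniTri_iff]
        rintro (i | i | i) (j | j | j) hij <;> simp [splitR] at hij <;> simp [splitLevi, Matrix.one_apply]
        · simpa [Matrix.one_apply] using h1 i j (by simp [rkNeg]; omega)
        · simpa [Matrix.one_apply] using h2 i j (by simp [rkNeg]; omega)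
      comm := fun s hs => hf (by
        rw [map_mul, map_mul, hτ]
        exact (blockDiag_commute_diag (fun i j h => by simp only [h]) (hbd s hs)).eq)
      e_lt := by rintro (i | i | i) <;> simp <;> omega
      tri := by
        intro i j hij
        rw [hι]
        rcases i with i | i | i <;> rcases j with j | j | j <;> simp [splitLevi, Matrix.one_apply] at hij ⊢
        · rw [show ((blockJSL k 0 : Matrix.SpecialLinearGroup (Fin (k + (0 + 1))) F) : Matrix (Fin (k + (0 + 1))) (Fin (k + (0 + 1))) F) i j =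
            blockJ k 0 i j from rfl, isUpper_blockJ i j hij, Matrix.one_apply]
          simp
        · rw [← Matrix.SpecialLinearGroup.coe_inv, show ((blockJSL k 0)⁻¹ : Matrix.SpecialLinearGroup (Fin (k + (0 + 1))) F).1 j i =
            (1 : Matrix (Fin (k + (0 + 1))) (Fin (k + (0 + 1))) F) j i from isUpper_blockJ_inv j i (by omega), Matrix.one_apply]
          simp [eq_comm]
      kill := kill
      real := real }
  refine hasClassSquare_center_quotient L.c L.isConj_c_inv fun g hg => ?_
  obtain ⟨A, u, v, hA, hu, hv, hg'⟩ := cover g hg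
  have hbdι : ∀ x : Matrix.SpecialLinearGroup (Fin (k + (0 + 1))) F, BlockDiag (splitCoarse M (k + (0 + 1))) (f (ι x)) :=
    fun x => by rw [hι]; exact blockDiag_splitLevi _ _
  exact (L.twoConj p (four_le_mk hF) (by omega) (uniSub f (splitCoarse M (k + (0 + 1))))
    (uniSub f (fun i => -splitCoarse M (k + (0 + 1)) i))
    (fun g hg => UniTri.mono splitCoarse_mono hg)
    (fun g hg => UniTri.mono (fun i j h => by simpa using splitCoarse_mono j i (by simpa [L] using h)) hg)
    (fun x g hg => uniSub_conj (hbdι x) (by rw [← map_inv]; exact hbdι _) hg)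
    (fun x g hg => uniSub_conj (hbdι x).neg (by rw [← map_inv]; exact (hbdι _).neg) hg)
    A (Or.inl hA) hu hv).of_isConj hg'.symm

end CfsgLib.ClassSquare
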