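import Cfsg.Prelude.Def_Classical
import Cfsg.Agent.ClassSquare.Levels
import Cfsg.Agent.ClassSquare.Adjust
import Cfsg.Agent.ClassSquare.Field
import Cfsg.Agent.SpnPres.Concrete

/-!
# `PSp_{2n}` is the square of a class

The element is `diag(λ,…,λ,μ, λ⁻¹,…,λ⁻¹,μ⁻¹)` times a regular unipotent of the first block.
-/

set_option autoImplicit false
set_option linter.unusedSectionVars false
set_option linter.style.haveILetI false

namespace CfsgLib.ClassSquare

open Matrix CfsgLib.SourourProduct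

variable {F : Type*} [Field F] [Fintype F]

section Basics

variable {N : ℕ}

/-- The coordinates, as a homomorphism. -/
def spHom (N : ℕ) : Matrix.symplecticGroup (Fin N) F →* Matrix (Fin N ⊕ Fin N) (Fin N ⊕ Fin N) F where
  toFun g := g
  map_one' := rfl
  map_mul' _ _ := rfl

/-- The upper unipotent radical. -/
def spUp (S : Matrix (Fin N) (Fin N) F) (h : Sᵀ = S) : Matrix.symplecticGroup (Fin N) F :=
  CfsgLib.SpnPres.up S h

/-- The lower unipotent radical. -/
def spLow (S : Matrix (Fin N) (Fin N) F) (h : Sᵀ = S) : Matrix.symplecticGroup (Fin N) F :=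
  ⟨fromBlocks 1 0 S 1, by rw [SymplecticGroup.fromBlocks_mem_iff]; simp [h]⟩

/-- The levels of the two halves. -/
def spCoarse (N : ℕ) : Fin N ⊕ Fin N → ℤ := Sum.elim (fun _ => 0) (fun _ => 1)

theorem blockDiag_spCoarse (A D : Matrix (Fin N) (Fin N) F) :
    BlockDiag (spCoarse N) (fromBlocks A 0 0 D) := by
  rintro (i | i) (j | j) h <;> simp [spCoarse] at h ⊢

theorem uniTri_spLow (S : Matrix (Fin N) (Fin N) F) (h : Sᵀ = S) :
    UniTri (spCoarse N) (spHom N (spLow S h)) := by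
  rw [uniTri_iff]
  rintro (i | i) (j | j) hij <;> simp [spCoarse, spHom, spLow, Matrix.one_apply] at hij ⊢

theorem uniTri_spUp (S : Matrix (Fin N) (Fin N) F) (h : Sᵀ = S) :
    UniTri (fun i => -spCoarse N i) (spHom N (spUp S h)) := by
  rw [uniTri_iff]
  rintro (i | i) (j | j) hij <;> simp [spCoarse, spHom, spUp, CfsgLib.SpnPres.up, Matrix.one_apply] at hij ⊢

theorem spUp_inv (S : Matrix (Fin N) (Fin N) F) (h : Sᵀ = S) :
    ((spUp S h)⁻¹ : Matrix.symplecticGroup (Fin N) F) = spUp (-S) (by rw [transpose_neg, h]) := by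
  refine inv_eq_of_mul_eq_one_right (Subtype.ext ?_)
  show fromBlocks 1 S 0 1 * fromBlocks 1 (-S) 0 1 = (1 : Matrix (Fin N ⊕ Fin N) (Fin N ⊕ Fin N) F)
  simp [fromBlocks_multiply]

theorem exists_coe_blocks (g : Matrix.symplecticGroup (Fin N) F) :
    ∃ A B C D, (g : Matrix (Fin N ⊕ Fin N) (Fin N ⊕ Fin N) F) = fromBlocks A B C D :=
  ⟨_, _, _, _, (fromBlocks_toBlocks _).symm⟩

theorem scalar_of_commute_sym {A : Matrix (Fin N) (Fin N) F}
    (h : ∀ S : Matrix (Fin N) (Fin N) F, Sᵀ = S → S * A = A * S) : Scalar A := by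
  classical
  rcases isEmpty_or_nonempty (Fin N) with hN | ⟨⟨i₀⟩⟩
  · exact ⟨0, Subsingleton.elim _ _⟩
  refine ⟨A i₀ i₀, ?_⟩
  ext a b
  rcases eq_or_ne a b with rfl | hab
  · have hs : ((Matrix.single a i₀ (1 : F)) + Matrix.single i₀ a 1)ᵀ =
        Matrix.single a i₀ (1 : F) + Matrix.single i₀ a 1 := by
      rw [transpose_add, Matrix.transpose_single, Matrix.transpose_single, add_comm]
    rcases eq_or_ne a i₀ with rfl | ha
    · simp
    · have := congrFun (congrFun (h _ hs) a) i₀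
      simpa [Matrix.add_mul, Matrix.mul_add, Matrix.single_mul_apply_same, Matrix.mul_single_apply_same,
        Matrix.single_mul_apply_of_ne, Matrix.mul_single_apply_of_ne, ha, ha.symm] using this.symm
  · have := congrFun (congrFun (h (Matrix.single a a 1) (Matrix.transpose_single _ _ _)) a) b
    simpa [Matrix.single_mul_apply_same, Matrix.mul_single_apply_of_ne, hab, hab.symm] using this

theorem mem_center_of_coe {g : Matrix.symplecticGroup (Fin N) F} {c : F}
    (h : (g : Matrix (Fin N ⊕ Fin N) (Fin N ⊕ Fin N) F) = c • 1) :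
    g ∈ Subgroup.center (Matrix.symplecticGroup (Fin N) F) := by
  refine Subgroup.mem_center_iff.2 fun x => Subtype.ext ?_
  simp only [Submonoid.coe_mul, h]
  simp

/-- A non-central element has a conjugate with non-zero lower left block. -/
theorem exists_conj_lower_ne {g : Matrix.symplecticGroup (Fin N) F}
    (hg : g ∉ Subgroup.center (Matrix.symplecticGroup (Fin N) F)) :
    ∃ h, IsConj g h ∧ ∃ A B C D,
      (h : Matrix (Fin N ⊕ Fin N) (Fin N ⊕ Fin N) F) = fromBlocks A B C D ∧ C ≠ 0 := by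
  have swap : ∀ {h : Matrix.symplecticGroup (Fin N) F} {A B C D : Matrix (Fin N) (Fin N) F},
      (h : Matrix (Fin N ⊕ Fin N) (Fin N ⊕ Fin N) F) = fromBlocks A B C D → B ≠ 0 →
      ∃ h', IsConj h h' ∧ ∃ A' B' C' D',
        (h' : Matrix (Fin N ⊕ Fin N) (Fin N ⊕ Fin N) F) = fromBlocks A' B' C' D' ∧ C' ≠ 0 := by
    intro h A B C D e hB
    let w := SymplecticGroup.symJ (Fin N) F
    refine ⟨w * h * w⁻¹, isConj_iff.2 ⟨w, rfl⟩, D, -C, -B, A, ?_, neg_ne_zero.2 hB⟩
    show Matrix.J (Fin N) F * (h : Matrix (Fin N ⊕ Fin N) (Fin N ⊕ Fin N) F) *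
      (-Matrix.J (Fin N) F * (Matrix.J (Fin N) F)ᵀ * Matrix.J (Fin N) F) = _
    simp [e, Matrix.J, fromBlocks_transpose, fromBlocks_multiply, fromBlocks_neg]
  obtain ⟨A, B, C, D, e⟩ := exists_coe_blocks g
  by_cases hC : C = 0
  swap
  · exact ⟨g, IsConj.refl g, A, B, C, D, e, hC⟩
  by_cases hB : B = 0
  swap
  · exact swap e hB
  subst hC hB
  obtain ⟨S, hS, hne⟩ : ∃ S : Matrix (Fin N) (Fin N) F, Sᵀ = S ∧ S * D ≠ A * S := by
    by_contra hno
    push Not at hno
    have hDA : D = A := by simpa using hno 1 transpose_one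
    subst hDA
    obtain ⟨c, hc⟩ := scalar_of_commute_sym hno
    refine hg (mem_center_of_coe (c := c) ?_)
    rw [e, hc, ← fromBlocks_one, fromBlocks_smul]
    simp
  obtain ⟨h, hh, r⟩ := swap (h := spUp S hS * g * (spUp S hS)⁻¹) (A := A) (B := S * D - A * S) (C := 0) (D := D) (by
    rw [spUp_inv]
    show fromBlocks 1 S 0 1 * (g : Matrix (Fin N ⊕ Fin N) (Fin N ⊕ Fin N) F) * fromBlocks 1 (-S) 0 1 = _
    rw [e]
    simp [fromBlocks_multiply, ← sub_eq_add_neg, add_comm]) (sub_ne_zero.2 hne)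
  exact ⟨h, (isConj_iff.2 ⟨spUp S hS, rfl⟩).trans hh, r⟩

/-- A non-central element has a conjugate in `V · SL_N · U`. -/
theorem exists_conj_big_cell (hN : 2 ≤ N) (hF : 9 ≤ Fintype.card F) {g : Matrix.symplecticGroup (Fin N) F}
    (hg : g ∉ Subgroup.center (Matrix.symplecticGroup (Fin N) F)) :
    ∃ (A : Matrix.SpecialLinearGroup (Fin N) F) (n m : Matrix.symplecticGroup (Fin N) F),
      (¬ Scalar (A : Matrix (Fin N) (Fin N) F) ∨ (A = 1 ∧ N = 2)) ∧
      n ∈ uniSub (spHom N) (spCoarse N) ∧ m ∈ uniSub (spHom N) (fun i => -spCoarse N i) ∧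
      IsConj g (n * CfsgLib.SpnPres.levi A * m) := by
  classical
  obtain ⟨h, hgh, A, B, C, D, e, hC⟩ := exists_conj_lower_ne hg
  have hmem := h.2
  rw [e, SymplecticGroup.fromBlocks_mem_iff] at hmem
  obtain ⟨hAC, -, -⟩ := hmem
  have hsym : ∀ x y, (A *ᵥ x) ⬝ᵥ (C *ᵥ y) = (C *ᵥ x) ⬝ᵥ (A *ᵥ y) := fun x y => by
    rw [dotProduct_mulVec, ← mulVec_transpose, mulVec_mulVec, dotProduct_mulVec (C *ᵥ x), ← mulVec_transpose,
      mulVec_mulVec, hAC]
  have hinj : ∀ x, A *ᵥ x = 0 → C *ᵥ x = 0 → x = 0 := fun x hA hC' => by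
    have h1 : (h : Matrix (Fin N ⊕ Fin N) (Fin N ⊕ Fin N) F) *ᵥ Sum.elim x 0 = 0 := by
      rw [e, fromBlocks_mulVec]
      simp [hA, hC']
    have h2 := congrArg (fun v => ((h⁻¹ : Matrix.symplecticGroup (Fin N) F) :
      Matrix (Fin N ⊕ Fin N) (Fin N ⊕ Fin N) F) *ᵥ v) h1
    simp only [mulVec_mulVec, ← Submonoid.coe_mul, inv_mul_cancel, Submonoid.coe_one, one_mulVec, mulVec_zero] at h2
    exact funext fun i => congrFun h2 (Sum.inl i)
  obtain ⟨d, R, -, hR, hR'⟩ := exists_splitting A C hinj fun x y hy => by rw [hsym, hy, dotProduct_zero]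
  set S₀ := Rᵀ * (1 : Matrix (Fin d) (Fin d) F) * R
  have hS₀ : S₀ᵀ = S₀ := by simp [S₀, Matrix.mul_assoc]
  have hA₁ : (A + S₀ * C).det ≠ 0 := inj_add_split hR hR' (by simp)
  have hsym₁ : ∀ x y, ((A + S₀ * C) *ᵥ x) ⬝ᵥ (C *ᵥ y) = (C *ᵥ x) ⬝ᵥ ((A + S₀ * C) *ᵥ y) := fun x y => by
    rw [add_mulVec, add_mulVec, add_dotProduct, dotProduct_add, hsym, ← mulVec_mulVec _ S₀ C,
      ← mulVec_mulVec _ S₀ C, dotProduct_mulVec (C *ᵥ x) S₀, ← mulVec_transpose, hS₀]
  obtain ⟨S, hS, hdet, hns⟩ := exists_sym_adjust hN hF hA₁ hC hsym₁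
  have hT : (S + S₀)ᵀ = S + S₀ := by rw [transpose_add, hS, hS₀]
  set A₂ := A + S₀ * C + S * C with hA₂
  set h' := spUp (S + S₀) hT * h * (spUp (S + S₀) hT)⁻¹ with hh'
  obtain ⟨B', D', e'⟩ : ∃ B' D', (h' : Matrix (Fin N ⊕ Fin N) (Fin N ⊕ Fin N) F) = fromBlocks A₂ B' C D' := by
    have e0 : (h' : Matrix (Fin N ⊕ Fin N) (Fin N ⊕ Fin N) F) =
        fromBlocks 1 (S + S₀) 0 1 * fromBlocks A B C D * fromBlocks 1 (-(S + S₀)) 0 1 := by
      rw [hh', spUp_inv, ← e]; rfl
    rw [fromBlocks_multiply, fromBlocks_multiply] at e0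
    refine ⟨_, _, e0.trans (fromBlocks_inj.2 ⟨?_, rfl, ?_, rfl⟩)⟩
    · simp [hA₂, Matrix.add_mul]; abel
    · simp
  have hm' := h'.2
  rw [e', SymplecticGroup.fromBlocks_mem_iff] at hm'
  obtain ⟨hAC', -, -⟩ := hm'
  let As : Matrix.SpecialLinearGroup (Fin N) F := ⟨A₂, hdet⟩
  have hu : IsUnit A₂.det := by rw [hdet]; exact isUnit_one
  have hlow : (C * A₂⁻¹)ᵀ = C * A₂⁻¹ := by
    have h2 : (A₂ᵀ)⁻¹ * (A₂ᵀ * C) * A₂⁻¹ = (A₂ᵀ)⁻¹ * (Cᵀ * A₂) * A₂⁻¹ := by rw [hAC']
    rw [Matrix.nonsing_inv_mul_cancel_left _ _ (by rwa [det_transpose]), ← Matrix.mul_assoc,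
      Matrix.mul_nonsing_inv_cancel_right _ _ hu] at h2
    rw [transpose_mul, transpose_nonsing_inv, h2]
  set n := spLow (C * A₂⁻¹) hlow
  set m := (n * CfsgLib.SpnPres.levi As)⁻¹ * h' with hm
  obtain ⟨B₁, C₁, D₁, E₁, em⟩ := exists_coe_blocks m
  have hprod : fromBlocks A₂ B' C D' = fromBlocks 1 0 (C * A₂⁻¹) 1 *
      fromBlocks A₂ 0 0 ((As⁻¹ : Matrix.SpecialLinearGroup (Fin N) F) : Matrix (Fin N) (Fin N) F)ᵀ *
      fromBlocks B₁ C₁ D₁ E₁ := by
    rw [← e', ← em]
    have : h' = n * CfsgLib.SpnPres.levi As * m := by rw [hm, mul_inv_cancel_left]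
    exact congrArg Subtype.val this
  simp only [fromBlocks_multiply, Matrix.one_mul, Matrix.zero_mul, Matrix.mul_zero, add_zero, zero_add,
    Matrix.mul_nonsing_inv_cancel_right, Matrix.nonsing_inv_mul_cancel_right _ _ hu, fromBlocks_inj] at hprod
  obtain ⟨h11, -, h21, -⟩ := hprod
  have hB₁ : B₁ = 1 := by
    have := congrArg (fun M => A₂⁻¹ * M) h11
    simpa [Matrix.nonsing_inv_mul_cancel_left _ _ hu, Matrix.nonsing_inv_mul _ hu] using this.symm
  have hD₁ : D₁ = 0 := by
    rw [hB₁, Matrix.mul_one, left_eq_add] at h21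
    have := congrArg (fun M => (A₂)ᵀ * M) h21
    simp only [← Matrix.mul_assoc, Matrix.mul_zero] at this
    rwa [← transpose_mul, show ((As⁻¹ : Matrix.SpecialLinearGroup (Fin N) F) : Matrix (Fin N) (Fin N) F) * A₂ =
      ((As⁻¹ * As : Matrix.SpecialLinearGroup (Fin N) F) : Matrix (Fin N) (Fin N) F) from rfl, inv_mul_cancel,
      Matrix.SpecialLinearGroup.coe_one, transpose_one, Matrix.one_mul] at this
  subst hB₁ hD₁
  have hE₁ : E₁ = 1 := by
    have hm'' := m.2
    rw [em, SymplecticGroup.fromBlocks_mem_iff] at hm''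
    simpa using hm''.2.2
  subst hE₁
  refine ⟨As, n, m, ?_, uniTri_spLow _ hlow, ?_, ?_⟩
  · rcases hns with h1 | ⟨h1, h2⟩
    · exact Or.inl h1
    · exact Or.inr ⟨Subtype.ext h2, h1⟩
  · show UniTri _ (m : Matrix (Fin N ⊕ Fin N) (Fin N ⊕ Fin N) F)
    rw [em, uniTri_iff]
    rintro (i | i) (j | j) hij <;> simp [spCoarse, Matrix.one_apply] at hij ⊢
  · rw [hm, mul_inv_cancel_left]
    exact hgh.trans (isConj_iff.2 ⟨_, hh'.symm⟩)

end Basics

variable {k : ℕ}

/-- The levels. -/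
def spR (k : ℕ) : Fin (k + (0 + 1)) ⊕ Fin (k + (0 + 1)) → ℤ :=
  Sum.elim (fun i => rk k 0 i) (fun i => 4 - rk k 0 i)

theorem spR_cases (i : Fin (k + (0 + 1)) ⊕ Fin (k + (0 + 1))) :
    spR k i = 0 ∨ spR k i = 1 ∨ spR k i = 3 ∨ spR k i = 4 := by
  rcases i with i | i <;> · have h1 := rk_nonneg i; have h2 := rk_le_last i; simp only [spR, Sum.elim_inl, Sum.elim_inr]; omega

/-- The value at a level. -/
def spVal (γ : F) (r : ℤ) : F :=
  if r = 0 then γ else if r = 1 then γ ^ 2 else if r = 3 then (γ ^ 2)⁻¹ else γ⁻¹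

theorem spVal_inj {γ : Fˣ} (hγ : 8 ≤ orderOf γ) {r s : ℤ} (hr : r = 0 ∨ r = 1 ∨ r = 3 ∨ r = 4)
    (hs : s = 0 ∨ s = 1 ∨ s = 3 ∨ s = 4) (hrs : r ≠ s) : spVal (γ : F) r ≠ spVal (γ : F) s := by
  have h0 : (γ : F) ≠ 0 := γ.ne_zero
  have h := fun i h1 h2 => pow_ne_one hγ (i := i) h1 h2
  have h1 := h 1 (by omega) (by omega)
  have h2 := h 2 (by omega) (by omega)
  have h3 := h 3 (by omega) (by omega)
  have h4 := h 4 (by omega) (by omega)
  intro e
  rcases hr with rfl | rfl | rfl | rfl <;> rcases hs with rfl | rfl | rfl | rfl <;>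
    simp [spVal] at hrs e <;>
    first
      | exact h1 (by field_simp at e; linear_combination e)
      | exact h1 (by field_simp at e; linear_combination -e)
      | exact h2 (by field_simp at e; linear_combination e)
      | exact h2 (by field_simp at e; linear_combination -e)
      | exact h3 (by field_simp at e; linear_combination e)
      | exact h3 (by field_simp at e; linear_combination -e)
      | exact h4 (by field_simp at e; linear_combination e)
      | exact h4 (by field_simp at e; linear_combination -e)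

theorem hasClassSquare_psp (hF : 9 ≤ Fintype.card F) (hk : 1 ≤ k) :
    HasClassSquare (Cfsg.PSp (k + (0 + 1)) F) := by
  classical
  obtain ⟨p, hp⟩ := CharP.exists F
  haveI : Fact p.Prime := ⟨CharP.char_is_prime F p⟩
  obtain ⟨γ, hγ⟩ := exists_big_order hF
  set n := k + (0 + 1) with hn
  let a : Fin n → F := fun i => spVal (γ : F) (rk k 0 i)
  let b : Fin n → F := fun i => spVal (γ : F) (4 - rk k 0 i)
  have hab : ∀ i, a i * b i = 1 := fun i => by
    have h1 := rk_nonneg i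
    have h2 := rk_le_last i
    rcases (show rk k 0 i = 0 ∨ rk k 0 i = 1 by omega) with h | h <;> simp [a, b, h, spVal]
  let τ : Matrix.symplecticGroup (Fin n) F := ⟨fromBlocks (diagonal a) 0 0 (diagonal b), by
    rw [SymplecticGroup.fromBlocks_mem_iff]
    simp [diagonal_mul_diagonal, hab]⟩
  let d : Fin n ⊕ Fin n → F := fun i => spVal (γ : F) (spR k i)
  have hτ : spHom n τ = Matrix.diagonal d := by
    show fromBlocks (diagonal a) 0 0 (diagonal b) = _
    rw [fromBlocks_diagonal]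
    refine congrArg _ (funext fun i => ?_)
    rcases i with i | i <;> rfl
  have hreal : IsConj (τ * CfsgLib.SpnPres.levi (blockJSL k 0)) (τ⁻¹ * CfsgLib.SpnPres.levi (blockJSL k 0)) := by
    obtain ⟨P, hP, hPJ⟩ := exists_conj_jordan_inv_transpose (F := F) k
    have hPu : IsUnit P.det := isUnit_iff_ne_zero.2 hP
    let Q : Matrix (Fin n) (Fin n) F := emb P 1
    let Q' : Matrix (Fin n) (Fin n) F := emb P⁻¹ 1
    have hQQ : Q * Q' = 1 := by rw [emb_mul, Matrix.mul_nonsing_inv _ hPu, Matrix.one_mul, emb_one]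
    have hQQ' : Q' * Q = 1 := mul_eq_one_comm.1 hQQ
    let w : Matrix.symplecticGroup (Fin n) F := ⟨fromBlocks Q 0 0 Q'ᵀ, by
      rw [SymplecticGroup.fromBlocks_mem_iff]
      refine ⟨by simp, by simp, ?_⟩
      rw [← transpose_mul, hQQ']
      simp⟩
    let τ' : Matrix.symplecticGroup (Fin n) F := ⟨fromBlocks (diagonal b) 0 0 (diagonal a), by
      rw [SymplecticGroup.fromBlocks_mem_iff]
      simp [diagonal_mul_diagonal, fun i => (mul_comm (b i) (a i)).trans (hab i)]⟩
    have hinv : τ⁻¹ = τ' := by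
      refine inv_eq_of_mul_eq_one_right (Subtype.ext ?_)
      show fromBlocks (diagonal a) 0 0 (diagonal b) * fromBlocks (diagonal b) 0 0 (diagonal a) = 1
      have hba : ∀ i, b i * a i = 1 := fun i => (mul_comm (b i) (a i)).trans (hab i)
      rw [fromBlocks_multiply, diagonal_mul_diagonal, diagonal_mul_diagonal]
      simp [hab, hba, diagonal_one]
    refine isConj_iff.2 ⟨w * SymplecticGroup.symJ (Fin n) F, ?_⟩
    rw [mul_inv_eq_iff_eq_mul, hinv]
    refine Subtype.ext ?_
    set X := ((blockJSL k 0 : Matrix.SpecialLinearGroup (Fin (k + (0 + 1))) F) : Matrix (Fin n) (Fin n) F)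
    set Y := (((blockJSL k 0)⁻¹ : Matrix.SpecialLinearGroup (Fin (k + (0 + 1))) F) : Matrix (Fin n) (Fin n) F)ᵀ
    show fromBlocks Q 0 0 Q'ᵀ * Matrix.J (Fin n) F * (fromBlocks (diagonal a) 0 0 (diagonal b) * fromBlocks X 0 0 Y) =
      fromBlocks (diagonal b) 0 0 (diagonal a) * fromBlocks X 0 0 Y * (fromBlocks Q 0 0 Q'ᵀ * Matrix.J (Fin n) F)
    have hbd : ∀ c : Fin n → F, (∀ i j, rk k 0 i = rk k 0 j → c i = c j) →
        Q * diagonal c = diagonal c * Q ∧ Q'ᵀ * diagonal c = diagonal c * Q'ᵀ := fun c hc => by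
      have hbd1 : ∀ P₁ : Matrix (Fin k) (Fin k) F, BlockDiag (rk k 0) (emb P₁ (1 : Matrix (Fin (0 + 1)) (Fin (0 + 1)) F)) :=
        fun P₁ => by rw [← Matrix.diagonal_one]; exact emb_blockDiag _ _
      exact ⟨((blockDiag_commute_diag hc (hbd1 P)).eq).symm, ((blockDiag_commute_diag hc
        (fun i j h => hbd1 P⁻¹ j i (Ne.symm h) : BlockDiag (rk k 0) Q'ᵀ)).eq).symm⟩
    have hX : (blockJ k 0 : Matrix (Fin n) (Fin n) F) = X := rfl
    have hY : Y = emb ((jordan k)⁻¹)ᵀ (1 : Matrix (Fin (0 + 1)) (Fin (0 + 1)) F) := by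
      have hJu : IsUnit (jordan k : Matrix (Fin k) (Fin k) F).det := by
        rw [det_upper (isUpper_jordan k)]; exact isUnit_one
      have hYX : Yᵀ * X = 1 := by
        show ((blockJSL k 0)⁻¹ * blockJSL k 0 : Matrix.SpecialLinearGroup (Fin (k + (0 + 1))) F).1 = 1
        rw [inv_mul_cancel]; rfl
      have h1 : X * emb (jordan k)⁻¹ (1 : Matrix (Fin (0 + 1)) (Fin (0 + 1)) F) = 1 := by
        rw [← hX, blockJ, emb_mul, Matrix.mul_nonsing_inv _ hJu, Matrix.one_mul, emb_one]
      have h2 : Yᵀ = emb (jordan k)⁻¹ 1 := left_inv_eq_right_inv hYX h1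
      have h3 := congrArg Matrix.transpose h2
      rw [transpose_transpose] at h3
      rw [h3, emb, emb, transpose_submatrix, fromBlocks_transpose, transpose_zero, transpose_zero, transpose_one]
    have hQY : Q * Y = X * Q := by
      rw [hY, ← hX, blockJ, emb_mul, emb_mul, hPJ, Matrix.one_mul]
    have hYX : Yᵀ * X = 1 := by
      show ((blockJSL k 0)⁻¹ * blockJSL k 0 : Matrix.SpecialLinearGroup (Fin (k + (0 + 1))) F).1 = 1
      rw [inv_mul_cancel]; rfl
    have hXY' : X * Yᵀ = 1 := mul_eq_one_comm.1 hYX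
    have hXtY : Xᵀ * Y = 1 := by
      rw [← transpose_transpose Y, ← transpose_mul, hYX, transpose_one]
    have hQY' : X * Qᵀ = Qᵀ * Y := by
      have h1 := congrArg Matrix.transpose hQY
      rw [transpose_mul, transpose_mul] at h1
      calc X * Qᵀ = X * Qᵀ * (Xᵀ * Y) := by rw [hXtY, Matrix.mul_one]
        _ = X * (Qᵀ * Xᵀ) * Y := by simp only [Matrix.mul_assoc]
        _ = X * (Yᵀ * Qᵀ) * Y := by rw [h1]
        _ = Qᵀ * Y := by rw [← Matrix.mul_assoc, hXY', Matrix.one_mul]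
    have hQX : Q'ᵀ * X = Y * Q'ᵀ := by
      calc Q'ᵀ * X = Q'ᵀ * (X * Qᵀ) * Q'ᵀ := by
            rw [Matrix.mul_assoc, Matrix.mul_assoc, ← transpose_mul, hQQ', transpose_one, Matrix.mul_one]
        _ = Y * Q'ᵀ := by
            rw [hQY', ← Matrix.mul_assoc Q'ᵀ, ← transpose_mul, hQQ, transpose_one, Matrix.one_mul]
    have ha : ∀ i j, rk k 0 i = rk k 0 j → a i = a j := fun i j h => by simp only [a, h]
    have hb : ∀ i j, rk k 0 i = rk k 0 j → b i = b j := fun i j h => by simp only [b, h]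
    have hA1 : Q'ᵀ * (diagonal a * X) = diagonal a * (Y * Q'ᵀ) := by
      rw [← Matrix.mul_assoc, (hbd a ha).2, Matrix.mul_assoc, hQX]
    have hB1 : Q * (diagonal b * Y) = diagonal b * (X * Q) := by
      rw [← Matrix.mul_assoc, (hbd b hb).1, Matrix.mul_assoc, hQY]
    simp [-fromBlocks_diagonal, Matrix.J, fromBlocks_multiply, Matrix.mul_assoc, hA1, hB1]
  let L : LeviData (Matrix.symplecticGroup (Fin n) F) (Fin n ⊕ Fin n) F k 0 :=
    { f := spHom n
      ι := CfsgLib.SpnPres.levi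
      R := spR k
      τ := τ
      d := d
      e := Sum.elim (fun i => i.val) (fun i => 2 * n - 1 - i.val)
      B := 2 * n
      f_τ := hτ
      bd := fun s hs => by
        show BlockDiag (spR k) (fromBlocks _ 0 0 _)
        rintro (i | i) (j | j) h <;> simp [spR] at h ⊢
        · exact hs.1 i j h
        · exact hs.2 j i (Ne.symm h)
      low := fun V hV => by
        have h2 := uniTri_iff.1 (uniTri_inv_transpose hV)
        have h1 := uniTri_iff.1 hV
        show UniTri (spR k) (fromBlocks _ 0 0 _)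
        rw [uniTri_iff]
        rintro (i | i) (j | j) hij <;> simp [spR] at hij <;> simp [Matrix.one_apply]
        · simpa [Matrix.one_apply] using h1 i j hij
        · simpa [Matrix.one_apply] using h2 i j (by omega)
      up := fun U hU => by
        have h2 := uniTri_iff.1 (uniTri_inv_transpose hU)
        have h1 := uniTri_iff.1 hU
        show UniTri (fun i => -spR k i) (fromBlocks _ 0 0 _)
        rw [uniTri_iff]
        rintro (i | i) (j | j) hij <;> simp [spR] at hij <;> simp [Matrix.one_apply]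
        · simpa [Matrix.one_apply] using h1 i j (by simp [rkNeg]; omega)
        · simpa [Matrix.one_apply] using h2 i j (by simp [rkNeg]; omega)
      comm := fun s hs => by
        refine Subtype.ext ?_
        show spHom n τ * (fromBlocks _ 0 0 _) = fromBlocks _ 0 0 _ * spHom n τ
        rw [hτ]
        refine (blockDiag_commute_diag (r := spR k) (fun i j h => by simp only [d, h]) ?_).eq
        rintro (i | i) (j | j) h <;> simp [spR] at h ⊢
        · exact hs.1 i j h
        · exact hs.2 j i (Ne.symm h)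
      e_lt := by rintro (i | i) <;> simp <;> omega
      tri := by
        show ∀ i j, _ → (fromBlocks (blockJ k 0 : Matrix (Fin n) (Fin n) F) 0 0 _ - 1) i j = 0
        have hu := isUpper_blockJ (F := F) (k := k) (l := 0)
        rintro (i | i) (j | j) hij
        · rw [← fromBlocks_one, Matrix.sub_apply, fromBlocks_apply₁₁, fromBlocks_apply₁₁, hu i j (by simpa using hij), sub_self]
        · simp [Matrix.one_apply]
        · simp [Matrix.one_apply]
        · rw [← fromBlocks_one, Matrix.sub_apply, fromBlocks_apply₂₂, fromBlocks_apply₂₂, Matrix.transpose_apply,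
            isUpper_blockJ_inv j i (by simp at hij; omega)]
          simp [Matrix.one_apply, eq_comm]
      kill := fun g hg hc => Subtype.ext <| eq_one_of_uniTri_commute (r := spR k)
        (fun i j h => spVal_inj hγ (spR_cases i) (spR_cases j) h) hg hc
      real := hreal }
  refine hasClassSquare_center_quotient L.c L.isConj_c_inv fun g hg => ?_
  obtain ⟨A, u, v, hA, hu, hv, hg'⟩ := exists_conj_big_cell (by omega) hF hg
  have hmono : ∀ i j : Fin n ⊕ Fin n, spR k i ≤ spR k j → spCoarse n i ≤ spCoarse n j := by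
    rintro (i | i) (j | j) h <;> simp [spCoarse, spR] at h ⊢
    have := rk_nonneg i; have := rk_le_last i; have := rk_nonneg j; have := rk_le_last j; omega
  have hbdι : ∀ x : Matrix.SpecialLinearGroup (Fin n) F, BlockDiag (spCoarse n) (spHom n (CfsgLib.SpnPres.levi x)) :=
    fun x => blockDiag_spCoarse _ _
  exact (L.twoConj p (four_le_mk hF) (by omega) (uniSub (spHom n) (spCoarse n))
    (uniSub (spHom n) (fun i => -spCoarse n i))
    (fun g hg => UniTri.mono hmono hg)
    (fun g hg => UniTri.mono (fun i j h => by simpa using hmono j i (by simpa using h)) hg)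
    (fun x g hg => uniSub_conj (hbdι x) (by rw [← map_inv]; exact hbdι _) hg)
    (fun x g hg => uniSub_conj (hbdι x).neg (by rw [← map_inv]; exact (hbdι _).neg) hg)
    A (hA.imp_right fun h => ⟨h.1, by omega⟩) hu hv).of_isConj hg'.symm

end CfsgLib.ClassSquare
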